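import Cfsg.Agent.Lib.POmega.Bridge
import Cfsg.Agent.Lib.POmega.Descend
import Cfsg.Agent.Lib.ClassicalGroups.OrthCard
import Cfsg.Agent.Lib.UnitaryEmbed.Realify
import Cfsg.Agent.Lib.Laws.Embed

/-!
`SL₂(q²)` onto `Ω⁻₄(q)` (the homomorphism behind the isomorphism of S0300).
-/

set_option autoImplicit false

namespace CfsgLib.MinusMult

open Cfsg

/-- `X ↦ M X σ(M)ᵀ` on `[[x, z], [σ z, -y]]`. -/
def hermAct {K : Type*} [Field K] (τ : K →+* K) (M : Matrix (Fin 2) (Fin 2) K) (m : K × K × K) : K × K × K :=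
  (M 0 0 * τ (M 0 0) * m.1 + M 0 0 * τ (M 0 1) * m.2.1 + M 0 1 * τ (M 0 0) * τ m.2.1 - M 0 1 * τ (M 0 1) * m.2.2,
   M 0 0 * τ (M 1 0) * m.1 + M 0 0 * τ (M 1 1) * m.2.1 + M 0 1 * τ (M 1 0) * τ m.2.1 - M 0 1 * τ (M 1 1) * m.2.2,
   -(M 1 0 * τ (M 1 0) * m.1 + M 1 0 * τ (M 1 1) * m.2.1 + M 1 1 * τ (M 1 0) * τ m.2.1) + M 1 1 * τ (M 1 1) * m.2.2)

theorem exists_four_hom {F K : Type*} [Field F] [Fintype F] [Field K] [Fintype K] {q : ℕ}
    (hF : Fintype.card F = q) (hK : Fintype.card K = q ^ 2) (a b : F)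
    (hab : ∀ z₁ z₂ : F, z₁ ^ 2 + a * z₁ * z₂ + b * z₂ ^ 2 = 0 → z₁ = 0 ∧ z₂ = 0) :
    ∃ φ : Matrix.SpecialLinearGroup (Fin 2) K →* CfsgLib.Orth.O (CfsgLib.Orth.minusQ 1 F a b),
      φ.range = commutator (CfsgLib.Orth.O (CfsgLib.Orth.minusQ 1 F a b)) ∧
      φ.ker = Subgroup.center (Matrix.SpecialLinearGroup (Fin 2) K) := by
  classical
  obtain ⟨ι, -⟩ := CfsgLib.UnitaryEmbed.exists_ringHom hK hF
  obtain ⟨τ, hτ⟩ := CfsgLib.UnitaryEmbed.exists_frob hF ι
  obtain ⟨θ, hθne, hθs, hθp⟩ := CfsgLib.UnitaryEmbed.exists_quadratic_root hK hF ι a b hab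
  rw [← hτ θ] at hθs hθp
  have hθne' : τ θ ≠ θ := by rw [hτ]; exact hθne
  have hτι : ∀ c, τ (ι c) = ι c := fun c => by rw [hτ, CfsgLib.UnitaryEmbed.iota_pow hF]
  have hτ2 : ∀ x, τ (τ x) = x := fun x => by rw [hτ, hτ, CfsgLib.UnitaryEmbed.pow_q_q hK]
  have hQ := CfsgLib.POmega.minusQ_nondegenerate_any (m := 1) hab
  let N := fun z₁ z₂ : F => ι z₁ + θ * ι z₂
  have hN2 : ∀ z, ∃ z₁ z₂, N z₁ z₂ = z := by
    intro z
    have hb : τ θ - θ ≠ 0 := sub_ne_zero.2 hθne'
    obtain ⟨z₂, hz₂⟩ := CfsgLib.UnitaryEmbed.mem_range_of_fixed hF ι ((τ z - z) / (τ θ - θ)) (by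
      rw [← hτ, map_div₀, map_sub, map_sub, hτ2, hτ2]
      rw [← neg_sub (τ z), ← neg_sub (τ θ), neg_div_neg_eq])
    obtain ⟨z₁, hz₁⟩ := CfsgLib.UnitaryEmbed.mem_range_of_fixed hF ι (z - θ * ι z₂) (by
      rw [← hτ, map_sub, map_mul, hτι, hz₂]
      field_simp
      ring)
    exact ⟨z₁, z₂, by simp only [N, hz₁]; ring⟩
  let enc : ((Fin 1 ⊕ Fin 1) ⊕ Fin 2 → F) → K × K × K := fun v =>
    (ι (v (.inl (.inl 0))), N (v (.inr 0)) (v (.inr 1)), ι (v (.inl (.inr 0))))
  have hinj : Function.Injective enc := by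
    intro u v h
    simp only [enc, Prod.mk.injEq] at h
    obtain ⟨hx, hz, hy⟩ := h
    have hz' := congrArg τ hz
    simp only [N, map_add, map_mul, hτι] at hz hz'
    have h1 : (τ θ - θ) * (ι (u (.inr 1)) - ι (v (.inr 1))) = 0 := by linear_combination hz' - hz
    have h2 := sub_eq_zero.1 ((mul_eq_zero.1 h1).resolve_left (sub_ne_zero.2 hθne'))
    rw [h2] at hz
    funext i
    rcases i with (i | i) | i
    · obtain rfl := Subsingleton.elim i 0; exact ι.injective hx
    · obtain rfl := Subsingleton.elim i 0; exact ι.injective hy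
    · fin_cases i
      · exact ι.injective (add_right_cancel hz)
      · exact ι.injective h2
  let T : Matrix.SpecialLinearGroup (Fin 2) K → K × K × K → K × K × K := fun g m => hermAct τ g.1 m
  obtain ⟨ρ, hρ⟩ := CfsgLib.POmega.exists_descend ι enc hinj
    (fun u v => by simp [enc, N, mul_add]; ring)
    (fun c v => by simp [enc, N, mul_add]; ring)
    T (fun g m n => by simp [T, hermAct, mul_add, map_add]; refine ⟨?_, ?_, ?_⟩ <;> ring)
    (fun g c m => by simp [T, hermAct, hτι]; refine ⟨?_, ?_, ?_⟩ <;> ring)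
    (fun g v => by
      obtain ⟨x, hx⟩ := CfsgLib.UnitaryEmbed.mem_range_of_fixed hF ι (T g (enc v)).1 (by
        rw [← hτ]; simp [T, hermAct, enc, hτι, hτ2]; ring)
      obtain ⟨y, hy⟩ := CfsgLib.UnitaryEmbed.mem_range_of_fixed hF ι (T g (enc v)).2.2 (by
        rw [← hτ]; simp [T, hermAct, enc, hτι, hτ2]; ring)
      obtain ⟨z₁, z₂, hz⟩ := hN2 (T g (enc v)).2.1
      exact ⟨Sum.elim (Sum.elim (fun _ => x) fun _ => y) ![z₁, z₂], by
        simp [enc, hx, hy, hz]⟩)
  have h1 : ∀ x, ρ 1 x = x := fun x => hinj (by rw [hρ]; simp [T, hermAct])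
  have hm : ∀ g h x, ρ (g * h) x = ρ g (ρ h x) := fun g h x => hinj (by
    rw [hρ, hρ, hρ]
    simp [T, hermAct, Matrix.mul_apply, Fin.sum_univ_two, hτ2, enc, hτι]
    refine ⟨?_, ?_, ?_⟩ <;> ring)
  have henc : ∀ v, ι (CfsgLib.Orth.minusQ 1 F a b v) = (enc v).1 * (enc v).2.2 + (enc v).2.1 * τ (enc v).2.1 := by
    intro v
    simp [CfsgLib.Orth.minusQ_coe, Cfsg.quadFormMinus, enc, N, hτι]
    linear_combination (-(ι (v (.inr 0)) * ι (v (.inr 1)))) * hθs - (ι (v (.inr 1)) ^ 2) * hθp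
  have hq' : ∀ g x, CfsgLib.Orth.minusQ 1 F a b (ρ g x) = CfsgLib.Orth.minusQ 1 F a b x := fun g x => by
    refine ι.injective ?_
    rw [henc, henc, hρ]
    have hd : g.1 0 0 * g.1 1 1 - g.1 0 1 * g.1 1 0 = 1 := by rw [← Matrix.det_fin_two]; exact g.2
    have hd' := congrArg τ hd
    simp only [map_sub, map_mul, map_one] at hd'
    simp [T, hermAct, hτ2, enc, hτι]
    linear_combination ((enc x).1 * (enc x).2.2 + (enc x).2.1 * τ (enc x).2.1) *
        (τ (g.1 0 0) * τ (g.1 1 1) - τ (g.1 0 1) * τ (g.1 1 0)) * hd +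
      ((enc x).1 * (enc x).2.2 + (enc x).2.1 * τ (enc x).2.1) * hd'
  let φ := CfsgLib.POmega.mkHom ρ h1 hm hq'
  have hker : φ.ker = Subgroup.center _ := by
    ext g
    rw [CfsgLib.POmega.mkHom_ker, CfsgLib.POmega.sl_two_center_iff]
    have hd : g.1 0 0 * g.1 1 1 - g.1 0 1 * g.1 1 0 = 1 := by rw [← Matrix.det_fin_two]; exact g.2
    constructor
    · intro h
      have key : ∀ x y z₁ z₂, T g (ι x, N z₁ z₂, ι y) = (ι x, N z₁ z₂, ι y) := fun x y z₁ z₂ => by
        have := congrArg enc (h (Sum.elim (Sum.elim (fun _ => x) fun _ => y) ![z₁, z₂]))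
        rw [hρ] at this
        simpa [enc] using this
      have ex := key 1 0 0 0
      have ey := key 0 1 0 0
      have ez := key 0 0 1 0
      simp [T, hermAct, N] at ex ey ez
      obtain ⟨x1, x2, x3⟩ := ex
      obtain ⟨y1, y2, y3⟩ := ey
      obtain ⟨z1, z2, z3⟩ := ez
      have n00 : g.1 0 0 ≠ 0 := fun h0 => by simp [h0] at x1
      have n11 : τ (g.1 1 1) ≠ 0 := fun h0 => by simp [h0] at y3
      have h10 : g.1 1 0 = 0 := by rcases x2 with h' | h' <;> [exact absurd h' n00; exact h']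
      have h01 : g.1 0 1 = 0 := by
        rcases y2 with h' | h' <;> [exact h'; exact absurd (by rw [h', map_zero]) n11]
      refine ⟨h01, h10, ?_⟩
      simp [h01, h10] at z2
      exact mul_right_cancel₀ n11 (z2.trans y3.symm)
    · rintro ⟨h01, h10, hpt⟩ x
      rw [h01, h10, ← hpt] at hd
      have hl : g.1 0 0 = 1 ∨ g.1 0 0 = -1 := mul_self_eq_one_iff.1 (by linear_combination hd)
      refine hinj ?_
      rw [hρ]
      rcases hl with hl | hl <;> simp [T, hermAct, h01, h10, ← hpt, hl]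
  have hO : Nat.card (CfsgLib.Orth.O (CfsgLib.Orth.minusQ 1 F a b)) = 2 * q ^ 2 * (q ^ 2 + 1) * (q ^ 2 - 1) := by
    rw [CfsgLib.Orth.O, CfsgLib.Orth.minusQ_coe, CfsgLib.ClassicalGroups.card_isometry_minus hab, hF]
    simp
  have h1q : 1 < q := hF ▸ Fintype.one_lt_card
  have hq2 : 4 ≤ q ^ 2 := by nlinarith
  have hidx : (commutator (CfsgLib.Orth.O (CfsgLib.Orth.minusQ 1 F a b))).index =
      2 * Nat.gcd 2 (q ^ 2 - 1) := by
    by_cases hodd : Odd q
    · have h2 : (2 : F) ≠ 0 := CfsgLib.POmega.two_ne_zero_of_odd (hF.symm ▸ hodd)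
      obtain ⟨d, hd⟩ := FiniteField.exists_nonsquare (F := F) (fun hch => by
        have : CharP F 2 := ringChar.of_eq hch
        exact h2 CharTwo.two_eq_zero)
      have hgcd : Nat.gcd 2 (q ^ 2 - 1) = 2 := Nat.gcd_eq_left (by
        have := Nat.odd_iff.1 (hodd.pow (n := 2)); omega)
      rw [CfsgLib.Orth.index_commutator hQ h2 hd (by simp), hgcd]
    · have h2 : (2 : F) = 0 := CfsgLib.POmega.two_eq_zero_of_even (hF.symm ▸ hodd)
      have : CharP F 2 := CharTwo.of_one_ne_zero_of_two_eq_zero one_ne_zero h2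
      have hgcd : Nat.gcd 2 (q ^ 2 - 1) = 1 := by
        rw [← Nat.coprime_iff_gcd_eq_one, Nat.coprime_two_left, Nat.odd_iff]
        have := Nat.even_iff.1 ((Nat.not_odd_iff_even.1 hodd).pow_of_ne_zero (n := 2) two_ne_zero)
        omega
      rw [hgcd]
      refine CfsgLib.Orth.index_commutator_char_two hQ ((Subgroup.eq_top_iff' _).2
        (CfsgLib.Orth.mem_reflClosure hQ ?_)) (by simp)
      -- there are no totally singular planes
      intro u v hu hv huv
      have hsing : ∀ w, CfsgLib.Orth.minusQ 1 F a b w = 0 → w (.inl (.inl 0)) = 0 →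
          w (.inr 0) = 0 ∧ w (.inr 1) = 0 := fun w hw hx => by
        rw [CfsgLib.Orth.minusQ_coe] at hw
        simp [Cfsg.quadFormMinus, hx] at hw
        exact hab _ _ hw
      by_cases hspan : v ∈ Submodule.span F {u}
      · obtain ⟨t, rfl⟩ := Submodule.mem_span_singleton.1 hspan
        rw [CfsgLib.Orth.eich_smul_self hu]; exact one_mem _
      by_cases hu0 : u = 0
      · subst hu0; rw [CfsgLib.Orth.eich_zero_left]; exact one_mem _
      exfalso
      have hshape : ∀ w, CfsgLib.Orth.minusQ 1 F a b w = 0 → w (.inl (.inl 0)) = 0 →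
          w = w (.inl (.inr 0)) • Pi.single (.inl (.inr 0)) 1 := fun w hw hx => by
        obtain ⟨h0, h1⟩ := hsing w hw hx
        funext i
        rcases i with (i | i) | i
        · obtain rfl := Subsingleton.elim i 0; simp [hx]
        · obtain rfl := Subsingleton.elim i 0; simp
        · fin_cases i <;> simp [h0, h1]
      have hpol : ∀ (c : F) w, QuadraticMap.polar ⇑(CfsgLib.Orth.minusQ 1 F a b)
          (c • Pi.single (.inl (.inr 0)) 1) w = c * w (.inl (.inl 0)) := fun c w => by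
        simp [CfsgLib.Orth.polar_minusQ]
      by_cases hxu : u (.inl (.inl 0)) = 0
      · have hu' := hshape u hu hxu
        have hc : u (.inl (.inr 0)) ≠ 0 := fun h => hu0 (by rw [hu', h, zero_smul])
        rw [hu', hpol, mul_eq_zero] at huv
        have hv' := hshape v hv (huv.resolve_left hc)
        refine hspan (Submodule.mem_span_singleton.2 ⟨v (.inl (.inr 0)) / u (.inl (.inr 0)), ?_⟩)
        have e1 : ∀ s : F, s • u = (s * u (.inl (.inr 0))) • Pi.single (.inl (.inr 0)) 1 := fun s =>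
          (congrArg (s • ·) hu').trans (smul_smul _ _ _)
        rw [e1, div_mul_cancel₀ _ hc]
        exact hv'.symm
      · set w := v (.inl (.inl 0)) • u - u (.inl (.inl 0)) • v with hw
        have hw0 : CfsgLib.Orth.minusQ 1 F a b w = 0 := by
          simp [hw, sub_eq_add_neg, QuadraticMap.map_add, QuadraticMap.map_smul, QuadraticMap.polar_smul_left,
            QuadraticMap.polar_smul_right, QuadraticMap.polar_neg_right, QuadraticMap.map_neg, hu, hv, huv]
        have hwx : w (.inl (.inl 0)) = 0 := by simp [hw]; ring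
        have hw' := hshape w hw0 hwx
        have hp : QuadraticMap.polar ⇑(CfsgLib.Orth.minusQ 1 F a b) w u = 0 := by
          simp [hw, QuadraticMap.polar_sub_left, QuadraticMap.polar_smul_left, CfsgLib.Orth.polar_self', hu,
            QuadraticMap.polar_comm (f := ⇑(CfsgLib.Orth.minusQ 1 F a b)) v u, huv]
        rw [hw', hpol, mul_eq_zero] at hp
        rw [hp.resolve_right hxu, zero_smul, hw, sub_eq_zero] at hw'
        refine hspan (Submodule.mem_span_singleton.2 ⟨v (.inl (.inl 0)) / u (.inl (.inl 0)), ?_⟩)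
        rw [div_eq_inv_mul, mul_smul, hw', smul_smul, inv_mul_cancel₀ hxu, one_smul]
  have hcard : Nat.card (commutator (CfsgLib.Orth.O (CfsgLib.Orth.minusQ 1 F a b))) * Nat.card φ.ker =
      Nat.card (Matrix.SpecialLinearGroup (Fin 2) K) := by
    rw [hker, CfsgLib.POmega.card_center_sl_two, CfsgLib.POmega.card_sl_two, hK]
    have := CfsgLib.POmega.card_omega_mul (Q := CfsgLib.Orth.minusQ 1 F a b)
    rw [hidx, hO] at this
    have e : (q ^ 2) ^ 2 - 1 = (q ^ 2 + 1) * (q ^ 2 - 1) := by rw [← Nat.sq_sub_sq, one_pow]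
    rw [e]
    linarith
  refine ⟨φ, ?_, hker⟩
  have hle := CfsgLib.POmega.range_le_omega_of_perfect φ (CfsgLib.Laws.sl_two_perfect (by omega))
  refine Subgroup.eq_of_le_of_card_ge hle (le_of_eq ?_)
  have h1 : Nat.card φ.ker * Nat.card φ.range =
      Nat.card (Matrix.SpecialLinearGroup (Fin 2) K) := by
    rw [← Subgroup.index_ker]; exact φ.ker.card_mul_index
  refine Nat.eq_of_mul_eq_mul_left (show 0 < Nat.card φ.ker from Nat.card_pos) ?_
  rw [h1, mul_comm, hcard]

end CfsgLib.MinusMult
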