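import Cfsg.Agent.Lib.MinusMult.Standard
import Cfsg.Agent.Lib.MinusMult.FourHom
import Cfsg.Agent.Lib.SUMult.SLTwoCross
import Cfsg.Agent.Lib.SchurCover.Perfect

/-!
The lifts in the four-dimensional minus subspace form a quotient of `SL₂(q²)`; hence the kernel of the
extension there has order at most `gcd(2, q - 1)`.
-/

set_option autoImplicit false
set_option linter.unusedSectionVars false

namespace CfsgLib.MinusMult

open QuadraticMap CfsgLib.Orth CfsgLib.POmega
open scoped commutatorElement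

universe u

/-- Restricting to the last four coordinates. -/
def res4 (F : Type*) [Field F] (j : ℕ) :
    ((Fin (j + 1) ⊕ Fin (j + 1)) ⊕ Fin 2 → F) →ₗ[F] ((Fin 1 ⊕ Fin 1) ⊕ Fin 2 → F) :=
  LinearMap.funLeft F F (Sum.map (Sum.map (fun _ => Fin.last j) fun _ => Fin.last j) id)

/-- Extending from the last four coordinates. -/
def ext4 (F : Type*) [Field F] (j : ℕ) :
    ((Fin 1 ⊕ Fin 1) ⊕ Fin 2 → F) →ₗ[F] ((Fin (j + 1) ⊕ Fin (j + 1)) ⊕ Fin 2 → F) where
  toFun y := Sum.elim (Sum.elim (fun i => if i = Fin.last j then y (.inl (.inl 0)) else 0)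
    (fun i => if i = Fin.last j then y (.inl (.inr 0)) else 0)) fun k => y (.inr k)
  map_add' x y := by
    ext i; rcases i with (i | i) | i <;> simp <;> split <;> simp
  map_smul' c x := by
    ext i; rcases i with (i | i) | i <;> simp

section geometry

variable {F : Type*} [Field F] {j : ℕ} {a b : F}

theorem res4_ext4 (y : (Fin 1 ⊕ Fin 1) ⊕ Fin 2 → F) : res4 F j (ext4 F j y) = y := by
  funext i
  rcases i with (i | i) | i <;> simp [res4, ext4, LinearMap.funLeft_apply] <;>
    rw [Subsingleton.elim i 0]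

theorem ext4_res4 {x : (Fin (j + 1) ⊕ Fin (j + 1)) ⊕ Fin 2 → F} (hx : x ∈ tail F (j + 1) j) :
    ext4 F j (res4 F j x) = x := by
  funext i
  rcases i with (i | i) | i
  · by_cases h : i = Fin.last j
    · simp [res4, ext4, LinearMap.funLeft_apply, h]
    · simp [res4, ext4, LinearMap.funLeft_apply, h, (hx i (Fin.val_lt_last h)).1]
  · by_cases h : i = Fin.last j
    · simp [res4, ext4, LinearMap.funLeft_apply, h]
    · simp [res4, ext4, LinearMap.funLeft_apply, h, (hx i (Fin.val_lt_last h)).2]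
  · simp [res4, ext4, LinearMap.funLeft_apply]

theorem ext4_mem (y : (Fin 1 ⊕ Fin 1) ⊕ Fin 2 → F) : ext4 F j y ∈ tail F (j + 1) j := fun i hi => by
  have h : i ≠ Fin.last j := fun e => by rw [e, Fin.val_last] at hi; omega
  simp [ext4, h]

theorem polar_ext4 (x : (Fin (j + 1) ⊕ Fin (j + 1)) ⊕ Fin 2 → F)
    (y : (Fin 1 ⊕ Fin 1) ⊕ Fin 2 → F) :
    polar (minusQ (j + 1) F a b) x (ext4 F j y) = polar (minusQ 1 F a b) (res4 F j x) y := by
  simp [polar_minusQ, res4, ext4, LinearMap.funLeft_apply, Finset.sum_add_distrib]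

theorem Q_ext4 (y : (Fin 1 ⊕ Fin 1) ⊕ Fin 2 → F) :
    minusQ (j + 1) F a b (ext4 F j y) = minusQ 1 F a b y := by
  simp [minusQ_coe, Cfsg.quadFormMinus, ext4]

/-- An isometry of the four-dimensional space as one of the whole space. -/
noncomputable def extO : O (minusQ 1 F a b) →* O (minusQ (j + 1) F a b) :=
  mkHom (fun g => LinearMap.id + (ext4 F j).comp ((app g).comp (res4 F j) - res4 F j))
    (fun x => by simp [app_one])
    (fun g h x => by
      simp only [LinearMap.add_apply, LinearMap.id_apply, LinearMap.comp_apply, LinearMap.sub_apply,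
        map_add, map_sub, res4_ext4, app_mul]
      abel)
    (fun g x => by
      set d := app g (res4 F j x) - res4 F j x
      show minusQ (j + 1) F a b (x + ext4 F j d) = _
      have h := Q_app g (res4 F j x)
      rw [show app g (res4 F j x) = res4 F j x + d by simp [d],
        QuadraticMap.map_add ⇑(minusQ 1 F a b)] at h
      rw [QuadraticMap.map_add ⇑(minusQ (j + 1) F a b), Q_ext4, polar_ext4]
      linear_combination h)

theorem app_extO (g : O (minusQ 1 F a b)) (x : (Fin (j + 1) ⊕ Fin (j + 1)) ⊕ Fin 2 → F) :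
    app (extO (j := j) g) x = x + ext4 F j (app g (res4 F j x) - res4 F j x) := by
  rw [extO, app_mkHom]
  simp

theorem extO_injective : Function.Injective (extO (F := F) (j := j) (a := a) (b := b)) := by
  refine fun g h e => ext_app fun y => ?_
  have h1 := congrArg (fun k => res4 F j (app k (ext4 F j y))) e
  simp only [app_extO, map_add, res4_ext4, add_sub_cancel] at h1
  exact h1

theorem extO_eich {u c : (Fin 1 ⊕ Fin 1) ⊕ Fin 2 → F} (hu : minusQ 1 F a b u = 0)
    (hc : polar (minusQ 1 F a b) u c = 0) :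
    extO (j := j) (eich (minusQ 1 F a b) u c) =
      eich (minusQ (j + 1) F a b) (ext4 F j u) (ext4 F j c) := by
  refine ext_app fun x => ?_
  rw [app_extO, app_eich hu hc, app_eich (by rw [Q_ext4, hu]) (by rw [polar_ext4, res4_ext4, hc]),
    polar_ext4, polar_ext4, Q_ext4]
  simp only [map_add, map_sub, map_smul]
  abel

end geometry

variable {F : Type u} [Field F] [Fintype F] {j : ℕ} {a b : F}
  (hab : ∀ z₁ z₂ : F, z₁ ^ 2 + a * z₁ * z₂ + b * z₂ ^ 2 = 0 → z₁ = 0 ∧ z₂ = 0)
  {E : Type u} [Group E] {π : E →* O (minusQ (j + 1) F a b)}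

theorem plane_eq {x : (Fin (j + 1) ⊕ Fin (j + 1)) ⊕ Fin 2 → F} (hx : x ∈ tail F (j + 1) (j + 1)) :
    x = planeVec (j + 1) (x (.inr 0)) (x (.inr 1)) := by
  funext i
  rcases i with (i | i) | i
  · exact (hx i i.2).1
  · exact (hx i i.2).2
  · fin_cases i <;> rfl

include hab in
theorem plane_aniso {x : (Fin (j + 1) ⊕ Fin (j + 1)) ⊕ Fin 2 → F} (hx : x ∈ tail F (j + 1) (j + 1))
    (hQ : minusQ (j + 1) F a b x = 0) : x = 0 := by
  rw [plane_eq hx] at hQ ⊢
  rw [planeVec_value] at hQ
  obtain ⟨h1, h2⟩ := hab _ _ hQ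
  funext i
  rcases i with i | i
  · rfl
  · fin_cases i
    · exact h1
    · exact h2

variable (H : Ctx π)
include hab H

theorem tau_e_mem_derived {p : (Fin (j + 1) ⊕ Fin (j + 1)) ⊕ Fin 2 → F}
    (hp : p ∈ tail F (j + 1) (j + 1)) :
    tau π (eS F (Fin.last j)) p ∈ ⁅gen π (tail F (j + 1) j), gen π (tail F (j + 1) j)⁆ := by
  set e := eS F (Fin.last j)
  set f := fS F (Fin.last j)
  have hef : Pr (minusQ (j + 1) F a b) e f := pr_std _
  rcases eq_or_ne p 0 with rfl | hp0
  · rw [H.tau_zero hef.qu]; exact one_mem _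
  have hQ := minusQ_nondegenerate_any (m := j + 1) hab
  have hgP := good_tail (a := a) (b := b) hQ (le_refl (j + 1))
  have hQp : (minusQ (j + 1) F a b) p ≠ 0 := fun h => hp0 (plane_aniso hab hp h)
  obtain ⟨c, hc, hpc, hcp⟩ : ∃ c ∈ tail F (j + 1) (j + 1), polar (minusQ (j + 1) F a b) p c ≠ 0 ∧
      c ∉ Submodule.span F {p} := by
    obtain ⟨s, hs, hps⟩ := hgP p hp hp0
    by_cases hsp : s ∈ Submodule.span F {p}
    · obtain ⟨z, hz, hzp⟩ : ∃ z ∈ tail F (j + 1) (j + 1), z ∉ Submodule.span F {p} := by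
        by_contra hno
        push Not at hno
        obtain ⟨r, hr⟩ := Submodule.mem_span_singleton.1 (hno _ (planeVec_mem (m := j + 1) (j + 1) 1 0))
        obtain ⟨r', hr'⟩ := Submodule.mem_span_singleton.1 (hno _ (planeVec_mem (m := j + 1) (j + 1) 0 1))
        have h1 := congrFun hr (.inr 0)
        have h2 := congrFun hr (.inr 1)
        have h3 := congrFun hr' (.inr 0)
        have h4 := congrFun hr' (.inr 1)
        simp [planeVec] at h1 h2 h3 h4
        have h5 : r * p (.inr 0) * (r' * p (.inr 1)) = r * p (.inr 1) * (r' * p (.inr 0)) := by ring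
        rw [h1, h4] at h5
        rcases h2 with h2 | h2 <;> simp [h2] at h5 h4
      by_cases hpz : polar (minusQ (j + 1) F a b) p z = 0
      · refine ⟨s + z, add_mem hs hz, ?_, fun h => hzp ?_⟩
        · rw [polar_add_right, hps, hpz, add_zero]; exact one_ne_zero
        · simpa using sub_mem h hsp
      · exact ⟨z, hz, hpz, hzp⟩
    · exact ⟨s, hs, by rw [hps]; exact one_ne_zero, hsp⟩
  have hQc : (minusQ (j + 1) F a b) c ≠ 0 := fun h => hcp (by rw [plane_aniso hab hc h]; exact zero_mem _)
  set k := polar (minusQ (j + 1) F a b) p c / (minusQ (j + 1) F a b) c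
  have hk : k ≠ 0 := div_ne_zero hpc hQc
  set p1 := p + (-k) • c
  have hp1 : p1 ∈ tail F (j + 1) (j + 1) := add_mem hp (Submodule.smul_mem _ _ hc)
  have hQp1 : (minusQ (j + 1) F a b) p1 = (minusQ (j + 1) F a b) p := by
    simp only [p1, QuadraticMap.map_add ⇑(minusQ (j + 1) F a b), QuadraticMap.map_smul, polar_smul_right, smul_eq_mul, k]
    field_simp
    ring
  obtain ⟨x, hx, hpx, hp1x⟩ := exists_dual hgP hp hp1 (fun α δ h => by
    have hd : δ = 0 := by
      by_contra hd
      refine hcp (Submodule.mem_span_singleton.2 ⟨(α + δ) / (δ * k), ?_⟩)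
      have h' : (δ * k) • c = (α + δ) • p := by linear_combination (norm := module) -h
      rw [div_eq_inv_mul, mul_smul, ← h', smul_smul, inv_mul_cancel₀ (mul_ne_zero hd hk), one_smul]
    subst hd
    rw [zero_smul, add_zero, smul_eq_zero] at h
    exact ⟨h.resolve_right hp0, rfl⟩)
  have hperp : ∀ {r}, r ∈ tail F (j + 1) (j + 1) → polar (minusQ (j + 1) F a b) e r = 0 ∧ polar (minusQ (j + 1) F a b) f r = 0 := fun {r} hr => by
    rw [polar_eS, polar_fS]; exact ⟨(hr _ (Fin.last j).2).2, (hr _ (Fin.last j).2).1⟩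
  have hsub : ∀ {r}, r ∈ tail F (j + 1) (j + 1) → r ∈ tail F (j + 1) j := fun {r} hr i hi =>
    hr i (by omega)
  have hflp : ∀ {r}, r ∈ tail F (j + 1) (j + 1) → flp π e f r ∈ gen π (tail F (j + 1) j) := by
    intro r hr
    have h1 := tau_mem (π := π) (fS_mem (F := F) (i := Fin.last j) (by simp))
      ((tail F (j + 1) j).smul_mem ((minusQ (j + 1) F a b) r)⁻¹ (hsub hr)) hef.qf
      (by rw [polar_smul_right, (hperp hr).2, smul_zero])
    exact mul_mem (mul_mem h1 (tau_mem (eS_mem (by simp)) (hsub hr) hef.qu (hperp hr).1)) h1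
  set g := flp π e f p * flp π e f p1
  have hge : app (π g) e = e ∧ app (π g) ((minusQ (j + 1) F a b) p • x) = (minusQ (j + 1) F a b) p • x + -p := by
    obtain ⟨f1, f2, f3⟩ := app_flipO hef (hperp hp).1 (hperp hp).2 hQp
    obtain ⟨g1, g2, g3⟩ := app_flipO hef (hperp hp1).1 (hperp hp1).2 (by rw [hQp1]; exact hQp)
    have hx' := hperp ((tail F (j + 1) (j + 1)).smul_mem ((minusQ (j + 1) F a b) p) hx)
    constructor
    · rw [map_mul, H.app_flp hef (hperp hp).1 (hperp hp).2, H.app_flp hef (hperp hp1).1 (hperp hp1).2,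
        app_mul, g1, map_smul, f2, smul_smul, hQp1, neg_mul_neg, inv_mul_cancel₀ hQp, one_smul]
    · rw [map_mul, H.app_flp hef (hperp hp).1 (hperp hp).2, H.app_flp hef (hperp hp1).1 (hperp hp1).2,
        app_mul, g3 _ hx'.1 hx'.2, polar_smul_left, polar_comm (f := ⇑(minusQ (j + 1) F a b)) x p1, hp1x, smul_zero,
        mul_zero, zero_smul, sub_zero, f3 _ hx'.1 hx'.2, polar_smul_left, polar_comm (f := ⇑(minusQ (j + 1) F a b)) x p,
        hpx, smul_eq_mul, mul_one, inv_mul_cancel₀ hQp, one_smul, sub_eq_add_neg]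
  have hQx := (tail F (j + 1) (j + 1)).smul_mem ((minusQ (j + 1) F a b) p) hx
  have hmem := Subgroup.commutator_mem_commutator (mul_mem (hflp hp) (hflp hp1) :
    g ∈ gen π (tail F (j + 1) j)) (tau_mem (π := π) (eS_mem (by simp)) (hsub hQx) hef.qu (hperp hQx).1)
  rw [commutatorElement_def, H.tau_conj g hef.qu (hperp hQx).1, hge.1, hge.2,
    ← H.tau_neg hef.qu (hperp hQx).1,
    H.tau_add hef.qu (by rw [polar_add_right, polar_neg_right, (hperp hQx).1, (hperp hp).1, neg_zero,
      add_zero]) (by rw [polar_neg_right, (hperp hQx).1, neg_zero]),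
    show (minusQ (j + 1) F a b) p • x + -p + -((minusQ (j + 1) F a b) p • x) = -p by abel, H.tau_neg hef.qu (hperp hp).1] at hmem
  exact inv_mem_iff.1 hmem

theorem gen_last_perfect :
    ⁅gen π (tail F (j + 1) j), gen π (tail F (j + 1) j)⁆ = gen π (tail F (j + 1) j) := by
  set V := tail F (j + 1) j with hVdef
  set e := eS F (Fin.last j)
  set f := fS F (Fin.last j)
  have hef : Pr (minusQ (j + 1) F a b) e f := pr_std _
  have he : e ∈ V := eS_mem (by simp)
  have hf : f ∈ V := fS_mem (by simp)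
  have hsplit : split (minusQ (j + 1) F a b) V e f = tail F (j + 1) (j + 1) := split_tail (Nat.lt_succ_self j)
  refine le_antisymm (Subgroup.commutator_le.2 fun x hx y hy => by
    rw [commutatorElement_def]
    exact mul_mem (mul_mem (mul_mem hx hy) (inv_mem hx)) (inv_mem hy)) ((Subgroup.closure_le _).2 ?_)
  rintro _ ⟨u, c, hu, hc, hQu, huc, rfl⟩
  rcases eq_or_ne u 0 with rfl | hu0
  · rw [H.tau_zero_left]; exact one_mem _
  -- an element of the group moving `e` to the line of `u`
  obtain ⟨g, hg, k, hk⟩ : ∃ g ∈ gen π V, ∃ k : F, app (π g) e = k • u := by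
    obtain ⟨p, hp, eu⟩ := exists_decomp hef he hf hu
    set β := polar (minusQ (j + 1) F a b) e u with hβ
    by_cases hβ0 : β = 0
    · have hQp : (minusQ (j + 1) F a b) p = 0 := by
        have h := hQu
        rw [eu, hβ0] at h
        simpa [QuadraticMap.map_add ⇑(minusQ (j + 1) F a b), QuadraticMap.map_smul, polar_smul_left, hef.qu, hp.2.1] using h
      rw [plane_aniso hab (hsplit ▸ hp) hQp, hβ0, zero_smul, add_zero, add_zero] at eu
      have hα : polar (minusQ (j + 1) F a b) f u ≠ 0 := fun h0 => hu0 (by rw [eu, h0, zero_smul])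
      refine ⟨1, one_mem _, (polar (minusQ (j + 1) F a b) f u)⁻¹, ?_⟩
      rw [map_one, app_one]
      have h := congrArg (fun z => (polar (minusQ (j + 1) F a b) f u)⁻¹ • z) eu
      simp only [smul_smul, inv_mul_cancel₀ hα, one_smul] at h
      exact h.symm
    · obtain ⟨r, s, hrs⟩ := plane_univ hab (1 : F)
      set p0 := planeVec (j + 1) r s
      have hp0 : p0 ∈ split (minusQ (j + 1) F a b) V e f := hsplit ▸ planeVec_mem _ r s
      have hQ0 : (minusQ (j + 1) F a b) p0 = 1 := by rw [planeVec_value, hrs]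
      have h1 := tau_mem (π := π) hf (V.smul_mem ((minusQ (j + 1) F a b) p0)⁻¹ hp0.1) hef.qf
        (by rw [polar_smul_right, hp0.2.2, smul_zero])
      have hn : flp π e f p0 ∈ gen π V :=
        mul_mem (mul_mem h1 (tau_mem he hp0.1 hef.qu hp0.2.1)) h1
      obtain ⟨g1, -, -⟩ := app_flipO hef hp0.2.1 hp0.2.2 (by rw [hQ0]; exact one_ne_zero)
      have hk' : polar (minusQ (j + 1) F a b) f u * β + (minusQ (j + 1) F a b) p = 0 := by
        have h := hQu
        rw [eu] at h
        simpa [QuadraticMap.map_add ⇑(minusQ (j + 1) F a b), QuadraticMap.map_smul, polar_add_left, polar_smul_left,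
          polar_smul_right, hef.qu, hef.qf, hef.uf, hp.2.1, hp.2.2, mul_comm] using h
      have ha : β⁻¹ • p ∈ split (minusQ (j + 1) F a b) V e f := (split (minusQ (j + 1) F a b) V e f).smul_mem _ hp
      refine ⟨tau π e (β⁻¹ • p) * flp π e f p0, mul_mem (tau_mem he ha.1 hef.qu ha.2.1) hn, -β⁻¹, ?_⟩
      rw [map_mul, app_mul, H.app_flp hef hp0.2.1 hp0.2.2, g1, hQ0, inv_one, map_smul,
        H.map_tau hef.qu ha.2.1, app_eich hef.qu ha.2.1, hef.fu, ha.2.2, QuadraticMap.map_smul,
        smul_eq_mul, show (minusQ (j + 1) F a b) p = -(polar (minusQ (j + 1) F a b) f u * β) from eq_neg_of_add_eq_zero_right hk']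
      conv_rhs => rw [eu]
      match_scalars <;> field_simp <;> ring
  have hk0 : k ≠ 0 := fun h => hef.ne (app_injective (π g) (by rw [hk, h, zero_smul, map_zero]))
  set c' := app (π g)⁻¹ c
  have hc' : c' ∈ V := by simp only [c', ← map_inv]; exact (H.gen_maps (inv_mem hg)).2 hc
  have hec : polar (minusQ (j + 1) F a b) e c' = 0 := by
    rw [← polar_app (π g) e, app_app_inv, hk, polar_smul_left, huc, smul_zero]
  obtain ⟨p, hp, ec⟩ := exists_decomp hef he hf hc'
  rw [hec, zero_smul, add_zero, add_comm (polar (minusQ (j + 1) F a b) f c' • e) p] at ec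
  have hpk : polar (minusQ (j + 1) F a b) e (k⁻¹ • p) = 0 := by rw [polar_smul_right, hp.2.1, smul_zero]
  have hup : polar (minusQ (j + 1) F a b) u (app (π g) p) = 0 := by
    have h := polar_app (π g) e p
    rw [hk, hp.2.1, polar_smul_left, smul_eq_zero] at h
    exact h.resolve_left hk0
  have hc_eq : c = app (π g) p + (polar (minusQ (j + 1) F a b) f c' * k) • u := by
    rw [← app_app_inv (π g) c, show app (π g)⁻¹ c = c' from rfl]
    conv_lhs => rw [ec]
    rw [map_add, map_smul, hk, smul_smul]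
  have e1 : tau π u c = g * tau π e (k⁻¹ • p) * g⁻¹ := by
    rw [H.tau_conj g hef.qu hpk, hk, map_smul,
      H.tau_smul hQu (by rw [polar_smul_right, hup, smul_zero]), smul_smul, mul_inv_cancel₀ hk0, one_smul]
    conv_lhs => rw [hc_eq]
    exact H.tau_add_smul hQu hup _
  have hd : tau π e (k⁻¹ • p) ∈ ⁅gen π V, gen π V⁆ :=
    tau_e_mem_derived hab H ((tail F (j + 1) (j + 1)).smul_mem _ (hsplit ▸ hp))
  have hn : g * tau π e (k⁻¹ • p) * g⁻¹ * (tau π e (k⁻¹ • p))⁻¹ ∈ ⁅gen π V, gen π V⁆ := by
    rw [← commutatorElement_def]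
    exact Subgroup.commutator_mem_commutator hg (tau_mem he (V.smul_mem _ hp.1) hef.qu hpk)
  have h2 := mul_mem hn hd
  rw [inv_mul_cancel_right] at h2
  rw [SetLike.mem_coe, e1]
  exact h2

/-- The kernel over the four-dimensional subspace is small. -/
theorem card_ker_last [Finite E] :
    Nat.card ↥(π.ker ⊓ gen π (tail F (j + 1) j)) ≤ Nat.gcd 2 (Fintype.card F - 1) := by
  classical
  obtain ⟨p, hchar⟩ := CharP.exists F
  obtain ⟨n, hp, hcardF⟩ := FiniteField.card F p
  have : Fact p.Prime := ⟨hp⟩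
  set q := Fintype.card F with hq
  let K0 := FiniteField.Extension F p 2
  have : Finite K0 := Module.finite_of_finite F
  let K := ULift.{u} K0
  letI : Fintype K := Fintype.ofFinite K
  letI : Fintype K0 := Fintype.ofFinite K0
  have hK : Fintype.card K = q ^ 2 := by
    have h1 := FiniteField.natCard_extension F p 2
    rw [Nat.card_eq_fintype_card, Nat.card_eq_fintype_card] at h1
    rw [Fintype.card_congr (Equiv.ulift : K ≃ K0)]
    exact h1
  have hq1 : 1 < q := Fintype.one_lt_card
  have hq4 : 4 ≤ Fintype.card K := by rw [hK]; nlinarith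
  obtain ⟨φ, hrange, hker⟩ := exists_four_hom hq.symm hK a b hab
  set e := eS F (Fin.last j)
  have hef : Pr (minusQ (j + 1) F a b) e (fS F (Fin.last j)) := pr_std _
  set E0 := gen π (tail F (j + 1) j)
  set σ : ↥E0 →* O (minusQ (j + 1) F a b) := π.comp E0.subtype
  have hperf : commutator ↥E0 = ⊤ := by
    apply Subgroup.map_injective E0.subtype_injective
    rw [Subgroup.map_subtype_commutator, ← MonoidHom.range_eq_map, Subgroup.range_subtype]
    exact gen_last_perfect hab H
  set EG := eichGroup (minusQ 1 F a b)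
  have hG : σ.range = EG.map (extO (j := j)) := by
    apply le_antisymm
    · rintro _ ⟨⟨x, hx⟩, rfl⟩
      show π x ∈ _
      refine (Subgroup.map_le_iff_le_comap.2 ((Subgroup.closure_le _).2 ?_)) (Subgroup.mem_map_of_mem π hx)
      rintro _ ⟨u, c, hu, hc, hQu, huc, rfl⟩
      have h1 : minusQ 1 F a b (res4 F j u) = 0 := by
        rw [← Q_ext4 (j := j), ext4_res4 hu, hQu]
      have h2 : polar (minusQ 1 F a b) (res4 F j u) (res4 F j c) = 0 := by
        rw [← polar_ext4, ext4_res4 hc, huc]
      refine ⟨_, eich_mem_eichGroup h1 h2, ?_⟩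
      rw [extO_eich h1 h2, ext4_res4 hu, ext4_res4 hc, H.map_tau hQu huc]
    · refine Subgroup.map_le_iff_le_comap.2 ((Subgroup.closure_le _).2 ?_)
      rintro _ ⟨u, c, hu, hc, rfl⟩
      refine ⟨⟨tau π (ext4 F j u) (ext4 F j c), tau_mem (ext4_mem u) (ext4_mem c)
        (by rw [Q_ext4, hu]) (by rw [polar_ext4, res4_ext4, hc])⟩, ?_⟩
      show π (tau π (ext4 F j u) (ext4 F j c)) = _
      rw [H.map_tau (by rw [Q_ext4, hu]) (by rw [polar_ext4, res4_ext4, hc]), extO_eich hu hc]
  have hEGperf : ⁅EG, EG⁆ = EG := by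
    apply Subgroup.map_injective (extO_injective (j := j))
    rw [Subgroup.map_commutator, ← hG, MonoidHom.range_eq_map, ← Subgroup.map_commutator,
      ← _root_.commutator_def, hperf]
  have hEGle : EG ≤ φ.range := by
    rw [hrange, ← hEGperf, _root_.commutator_def]
    exact Subgroup.commutator_mono le_top le_top
  -- the Sylow subgroup from the lifts over `e`
  have hpl : ∀ s t : F, planeVec (j + 1) s t ∈ tail F (j + 1) j := fun s t => planeVec_mem _ s t
  have hpe : ∀ s t : F, polar (minusQ (j + 1) F a b) e (planeVec (j + 1) s t) = 0 := fun s t => by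
    rw [polar_eS]; rfl
  let A : Multiplicative (F × F) →* ↥E0 :=
    { toFun := fun x => ⟨tau π e (planeVec (j + 1) x.toAdd.1 x.toAdd.2),
        tau_mem (eS_mem (by simp)) (hpl _ _) hef.qu (hpe _ _)⟩
      map_one' := Subtype.ext (by
        show tau π e (planeVec (j + 1) 0 0) = 1
        rw [show planeVec (j + 1) (0 : F) 0 = 0 by
          funext i; rcases i with i | i <;> [rfl; (fin_cases i <;> rfl)], H.tau_zero hef.qu])
      map_mul' := fun x y => Subtype.ext (by
        show tau π e _ = tau π e _ * tau π e _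
        rw [H.tau_add hef.qu (hpe _ _) (hpe _ _)]
        congr 1
        funext i
        rcases i with i | i
        · simp [planeVec]
        · fin_cases i <;> simp [planeVec]) }
  have hAinj : Function.Injective (σ.comp A) := fun x y hxy => by
    have h := congrArg (fun g => app g (fS F (Fin.last j))) hxy
    change app (π (tau π e _)) _ = app (π (tau π e _)) _ at h
    rw [H.map_tau hef.qu (hpe _ _), H.map_tau hef.qu (hpe _ _), app_eich hef.qu (hpe _ _),
      app_eich hef.qu (hpe _ _), hef.fu, polar_fS, polar_fS] at h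
    have h0 := congrFun h (.inr 0)
    have h1 := congrFun h (.inr 1)
    simp [planeVec, fS, e, eS] at h0 h1
    exact Multiplicative.toAdd.injective (Prod.ext h0 h1)
  have hcardX : Nat.card (σ.comp A).range = q ^ 2 := by
    rw [← Nat.card_congr (MonoidHom.ofInjective hAinj).toEquiv,
      Nat.card_congr Multiplicative.toAdd, Nat.card_prod, Nat.card_eq_fintype_card, pow_two]
  have hXle : (σ.comp A).range ≤ σ.range := fun _ ⟨x, hx⟩ => ⟨A x, hx⟩
  have hp2 : p ∣ q := hcardF ▸ dvd_pow_self p n.ne_zero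
  have hcop : Nat.Coprime p (q ^ 4 - 1) := by
    refine (Nat.Prime.coprime_iff_not_dvd hp).2 fun h => ?_
    have h4 : p ∣ q ^ 4 := dvd_pow hp2 (by norm_num)
    have := Nat.dvd_sub h4 h
    rw [Nat.sub_sub_self (Nat.one_le_pow _ _ (by omega))] at this
    exact hp.one_lt.ne' (Nat.dvd_one.1 this)
  have hSL : Nat.card (Matrix.SpecialLinearGroup (Fin 2) K) = q ^ 2 * (q ^ 4 - 1) := by
    rw [card_sl_two, hK, ← pow_mul]
  have hqdvd : q ^ 2 ∣ Nat.card EG := by
    rw [Nat.card_congr (EG.equivMapOfInjective _ (extO_injective (j := j))).toEquiv, ← hG, ← hcardX]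
    exact Subgroup.card_dvd_of_le hXle
  have hdvd : Nat.card φ.range ∣ q ^ 2 * (q ^ 4 - 1) := hSL ▸ Subgroup.card_range_dvd φ
  have hidx : ∀ k, Nat.card EG * k = Nat.card φ.range → Nat.Coprime p k := by
    intro k hk
    obtain ⟨r, hr⟩ := hqdvd
    have hd : r * k ∣ q ^ 4 - 1 := by
      refine Nat.dvd_of_mul_dvd_mul_left (show 0 < q ^ 2 by positivity) ?_
      rw [← mul_assoc, ← hr, hk]
      exact hdvd
    exact Nat.Coprime.coprime_dvd_right (dvd_trans (Dvd.intro_left r rfl) hd) hcop
  -- the two groups coincide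
  have hEG : EG = φ.range := by
    refine le_antisymm hEGle ?_
    have hN := eichGroup_normal (Q := minusQ 1 F a b)
    have hk := hidx (EG.relIndex φ.range) (by rw [Subgroup.relIndex, ← Nat.card_congr (Subgroup.subgroupOfEquivOfLe hEGle).toEquiv]; exact Subgroup.card_mul_index _)
    rintro _ ⟨g, rfl⟩
    induction g using Matrix.SL2.transvection_induction with
    | htransvec i i' h c =>
      set x : ↥φ.range := ⟨φ (Matrix.SpecialLinearGroup.transvection h c), ⟨_, rfl⟩⟩
      have hx : x ^ q ^ 2 = 1 := Subtype.ext (by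
        show φ _ ^ q ^ 2 = 1
        rw [← map_pow, ← hK, transvection_pow_card, map_one])
      have hN' : (EG.subgroupOf φ.range).Normal := hN.subgroupOf _
      have hy : x ^ (EG.subgroupOf φ.range).index ∈ EG.subgroupOf φ.range := Subgroup.pow_index_mem _ x
      have hco : Nat.Coprime (EG.subgroupOf φ.range).index (orderOf x) := by
        refine Nat.Coprime.coprime_dvd_right (orderOf_dvd_of_pow_eq_one hx) ?_
        rw [hcardF, ← pow_mul]
        exact (Nat.Coprime.pow_left _ hk).symm
      obtain ⟨k, hk'⟩ := exists_pow_eq_self_of_coprime hco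
      have := (EG.subgroupOf φ.range).pow_mem hy k
      rw [hk'] at this
      exact this
    | hmul A B hA hB => rw [map_mul]; exact mul_mem hA hB
  -- the comparison map
  set ψ : Matrix.SpecialLinearGroup (Fin 2) K →* ↥σ.range :=
    ((extO (j := j)).comp φ).codRestrict σ.range fun g => by
      rw [hG, hEG]; exact ⟨φ g, ⟨g, rfl⟩, rfl⟩
  have hψsur : Function.Surjective ψ := fun ⟨y, hy⟩ => by
    rw [hG, hEG] at hy
    obtain ⟨_, ⟨g, rfl⟩, rfl⟩ := hy
    exact ⟨g, rfl⟩
  set σ1 := σ.rangeRestrict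
  have hσker : σ1.ker ≤ Subgroup.center ↥E0 := fun x hx => Subgroup.mem_center_iff.2 fun y => by
    have hx' : (x : E) ∈ π.ker := congrArg Subtype.val (MonoidHom.mem_ker.1 hx)
    exact Subtype.ext (Subgroup.mem_center_iff.1 (H.cen hx') y)
  -- no element of order `p` in the kernel
  have hnop : ∀ z : ↥E0, z ∈ σ1.ker → z ^ p = 1 → z = 1 := by
    intro z hz hzp
    set X : Subgroup ↥σ.range := (σ.comp A).range.subgroupOf σ.range
    have hXcard : Nat.card X = q ^ 2 := by
      rw [Nat.card_congr (Subgroup.subgroupOfEquivOfLe hXle).toEquiv, hcardX]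
    have hXp : IsPGroup p X := IsPGroup.of_card (n := (n : ℕ) * 2) (by rw [hXcard, hcardF, ← pow_mul])
    have hXi : ¬ p ∣ X.index := by
      have h := X.card_mul_index
      rw [hXcard] at h
      have hs : Nat.card σ.range = Nat.card EG := by
        rw [hG, ← Nat.card_congr (EG.equivMapOfInjective _ (extO_injective (j := j))).toEquiv]
      have hd : X.index ∣ q ^ 4 - 1 := by
        refine Nat.dvd_of_mul_dvd_mul_left (show 0 < q ^ 2 by positivity) ?_
        rw [h, hs, hEG]
        exact hdvd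
      exact fun hp' => (Nat.Prime.coprime_iff_not_dvd hp).1 hcop (hp'.trans hd)
    obtain ⟨P, hP⟩ := CfsgLib.Schur.exists_sylow_map_eq σ.rangeRestrict_surjective (hXp.toSylow hXi)
    have h := CfsgLib.Schur.center_commutator_sylow P (hσker hz) (hperf ▸ Subgroup.mem_top z)
      (CfsgLib.Schur.center_mem_sylow P (hσker hz) hzp)
    have hab' : ⁅(P : Subgroup ↥E0), (P : Subgroup ↥E0)⁆ ≤ ⊥ := by
      rw [Subgroup.commutator_le]
      intro x hx y hy
      have hx' := Subgroup.mem_map_of_mem σ1 hx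
      have hy' := Subgroup.mem_map_of_mem σ1 hy
      rw [hP] at hx' hy'
      obtain ⟨s, hs⟩ := (hx' : σ1 x ∈ X)
      obtain ⟨t, ht⟩ := (hy' : σ1 y ∈ X)
      rw [Subgroup.mem_bot, CfsgLib.Schur.commutator_congr hσker
        (show σ1 x = σ1 (A s) from Subtype.ext hs.symm) (show σ1 y = σ1 (A t) from Subtype.ext ht.symm),
        commutatorElement_eq_one_iff_mul_comm, ← map_mul, ← map_mul, mul_comm]
    exact Subgroup.mem_bot.1 (hab' h)
  -- the section
  have hSperf : Group.IsPerfect (Matrix.SpecialLinearGroup (Fin 2) K) :=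
    Group.isPerfect_def.2 (CfsgLib.Laws.sl_two_perfect hq4)
  set Γ := CfsgLib.SchurCover.fibre ψ σ1
  set fst : ↥Γ →* Matrix.SpecialLinearGroup (Fin 2) K := CfsgLib.SchurCover.fibreFst ψ σ1
  have hfst : Function.Surjective fst :=
    CfsgLib.SchurCover.fibreFst_surjective ψ σ.rangeRestrict_surjective
  have hfc : fst.ker ≤ Subgroup.center ↥Γ := CfsgLib.SchurCover.ker_fibreFst_le_center ψ hσker
  have hsec : fst.ker ⊓ commutator ↥Γ = ⊥ := by
    by_contra hne
    set Γ' := commutator ↥Γ
    have hΓ'perf : Γ' ≤ ⁅Γ', Γ'⁆ := by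
      rw [show Γ' = ⁅(⊤ : Subgroup ↥Γ), ⊤⁆ from _root_.commutator_def _, Subgroup.commutator_le]
      intro x _ y _
      have hmap : ∀ w : ↥Γ, ∃ w' ∈ Γ', fst w' = fst w := fun w => by
        have : fst w ∈ Γ'.map fst := by
          rw [show Γ'.map fst = commutator (Matrix.SpecialLinearGroup (Fin 2) K) from
            CfsgLib.SchurCover.map_commutator_eq fst hfst, Group.isPerfect_def.1 hSperf]
          trivial
        exact this
      obtain ⟨x', hx', ex⟩ := hmap x
      obtain ⟨y', hy', ey⟩ := hmap y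
      rw [CfsgLib.Schur.commutator_congr hfc ex.symm ey.symm, ← _root_.commutator_def]
      exact Subgroup.commutator_mem_commutator hx' hy'
    obtain ⟨r, hr, hdiv⟩ := Nat.exists_prime_and_dvd
      (n := Nat.card ↥(fst.ker ⊓ Γ')) (fun h1 => hne (Subgroup.eq_bot_of_card_eq _ h1))
    have : Fact r.Prime := ⟨hr⟩
    obtain ⟨⟨z, hz⟩, hzord⟩ := exists_prime_orderOf_dvd_card' r hdiv
    have hz1 : z ^ r = 1 := by
      have := pow_orderOf_eq_one (⟨z, hz⟩ : ↥(fst.ker ⊓ Γ'))
      rw [hzord] at this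
      exact congrArg Subtype.val this
    have hzne : z = 1 := by
      by_cases hrp : r = p
      · have h1 : CfsgLib.SchurCover.fibreFst ψ σ1 z = 1 := hz.1
        have hk : CfsgLib.SchurCover.fibreSnd ψ σ1 z ∈ σ1.ker := by
          rw [MonoidHom.mem_ker, ← CfsgLib.SchurCover.fibre_rel, h1, map_one]
        have h2 := hnop _ hk (by rw [← map_pow]; rw [hrp] at hz1; rw [hz1, map_one])
        exact Subtype.ext (Prod.ext h1 h2)
      · have hrK : ¬ r ∣ Fintype.card K := by
          rw [hK, hcardF, ← pow_mul]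
          exact fun h => hrp ((Nat.prime_dvd_prime_iff_eq hr hp).1 (hr.dvd_of_dvd_pow h))
        have hstem : Cfsg.IsStemExtension (fst.comp Γ'.subtype) := by
          refine ⟨fun g => ?_, fun w hw => Subgroup.mem_center_iff.2 fun y =>
            Subtype.ext (Subgroup.mem_center_iff.1 (hfc hw) y), fun w _ => ?_⟩
          · have : g ∈ Γ'.map fst := by
              rw [show Γ'.map fst = commutator (Matrix.SpecialLinearGroup (Fin 2) K) from
                CfsgLib.SchurCover.map_commutator_eq fst hfst, Group.isPerfect_def.1 hSperf]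
              trivial
            obtain ⟨w, hw, rfl⟩ := this
            exact ⟨⟨w, hw⟩, rfl⟩
          · have := hΓ'perf w.2
            rw [← Subgroup.map_subtype_commutator] at this
            obtain ⟨w', hw', e⟩ := this
            rw [← Subtype.ext (p := (· ∈ Γ')) e]
            exact hw'
        exact congrArg Subtype.val (CfsgLib.SUMult.noMultiplierAt_slTwo_cross hrK _ _ hstem
          ⟨z, hz.2⟩ hz.1 (Subtype.ext hz1))
    have : (⟨z, hz⟩ : ↥(fst.ker ⊓ Γ')) = 1 := Subtype.ext hzne
    rw [this, orderOf_one] at hzord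
    exact hr.one_lt.ne hzord
  obtain ⟨s, hs⟩ := CfsgLib.SchurCover.exists_section_of_perfect hSperf fst hfst hsec
  set η := (CfsgLib.SchurCover.fibreSnd ψ σ1).comp s
  have hη : ∀ g, σ1 (η g) = ψ g := fun g => by
    show σ1 (CfsgLib.SchurCover.fibreSnd ψ σ1 (s g)) = _
    rw [← CfsgLib.SchurCover.fibre_rel]
    exact congrArg ψ (DFunLike.congr_fun hs g)
  have hηsur : Function.Surjective η := by
    rw [← MonoidHom.range_eq_top, eq_top_iff, ← hperf, _root_.commutator_def, Subgroup.commutator_le]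
    intro x _ y _
    obtain ⟨g, hg⟩ := hψsur (σ1 x)
    obtain ⟨h, hh⟩ := hψsur (σ1 y)
    rw [CfsgLib.Schur.commutator_congr hσker (show σ1 x = σ1 (η g) by rw [hη, hg])
      (show σ1 y = σ1 (η h) by rw [hη, hh]), ← map_commutatorElement]
    exact ⟨_, rfl⟩
  have hmap : ψ.ker.map η = σ1.ker := by
    ext x
    constructor
    · rintro ⟨g, hg, rfl⟩; rw [MonoidHom.mem_ker, hη]; exact hg
    · intro hx
      obtain ⟨g, rfl⟩ := hηsur x
      exact ⟨g, by rw [SetLike.mem_coe, MonoidHom.mem_ker, ← hη]; exact hx, rfl⟩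
  have hψker : ψ.ker = Subgroup.center (Matrix.SpecialLinearGroup (Fin 2) K) := by
    rw [← hker]
    ext g
    rw [MonoidHom.mem_ker, MonoidHom.mem_ker]
    constructor
    · intro h
      apply extO_injective (j := j)
      rw [map_one]
      exact congrArg Subtype.val h
    · intro h
      apply Subtype.ext
      show extO (j := j) (φ g) = 1
      rw [h, map_one]
  have hcard : Nat.card ↥(π.ker ⊓ E0) = Nat.card σ1.ker := by
    refine Nat.card_congr ⟨fun x => ⟨⟨x, x.2.2⟩, Subtype.ext x.2.1⟩,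
      fun x => ⟨x.1, congrArg Subtype.val (MonoidHom.mem_ker.1 x.2), x.1.2⟩, fun _ => rfl, fun _ => rfl⟩
  rw [hcard, ← hmap]
  refine (Nat.le_of_dvd Nat.card_pos (Subgroup.card_map_dvd ψ.ker η)).trans ?_
  rw [hψker, card_center_sl_two, hK]
  refine le_of_eq ?_
  rcases Nat.even_or_odd q with he | ho
  · have h2 : Even (q ^ 2) := he.pow_of_ne_zero two_ne_zero
    rw [Nat.coprime_two_left.2 (Nat.Even.sub_odd (by omega) he odd_one),
      Nat.coprime_two_left.2 (Nat.Even.sub_odd (Nat.one_le_pow _ _ (by omega)) h2 odd_one)]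
  · have h2 : Odd (q ^ 2) := ho.pow
    rw [Nat.gcd_eq_left (even_iff_two_dvd.1 (Nat.Odd.sub_odd h2 odd_one)),
      Nat.gcd_eq_left (even_iff_two_dvd.1 (Nat.Odd.sub_odd ho odd_one))]

end CfsgLib.MinusMult
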