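import Cfsg.Agent.Lib.MinusMult.Gen

/-!
Three cells: inside a subspace with two pairs, a lift fixing a singular vector is a lift over it times
a lift inside the complement of the pair; a kernel element descends to that complement.
-/

set_option autoImplicit false
set_option linter.unusedSectionVars false

namespace CfsgLib.MinusMult

open QuadraticMap CfsgLib.Orth CfsgLib.POmega

variable {ι : Type} [Fintype ι] [DecidableEq ι] {F : Type*} [Field F] [Fintype F]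
  {Q : QuadraticForm F (ι → F)} {E : Type*} [Group E] {π : E →* O Q}

/-- A subspace with two orthogonal pairs whose common complement takes all values. -/
structure Frame (Q : QuadraticForm F (ι → F)) (V : Submodule F (ι → F)) (e f e2 f2 : ι → F) : Prop where
  good : Good Q V
  me : e ∈ V
  mf : f ∈ V
  p1 : Pr Q e f
  me2 : e2 ∈ split Q V e f
  mf2 : f2 ∈ split Q V e f
  p2 : Pr Q e2 f2
  univ : ∀ t : F, t ≠ 0 → ∃ p ∈ split Q (split Q V e f) e2 f2, Q p = t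

/-- The torus lifts. -/
def torus (π : E →* O Q) (V : Submodule F (ι → F)) (e f e2 f2 : ι → F) : Subgroup E where
  carrier := {x | x ∈ gen π (split Q V e2 f2) ∧ (∃ c : F, c ≠ 0 ∧ app (π x) e = c • e) ∧
    ∃ c : F, c ≠ 0 ∧ app (π x) f = c • f}
  one_mem' := ⟨one_mem _, ⟨1, one_ne_zero, by simp⟩, 1, one_ne_zero, by simp⟩
  mul_mem' := by
    rintro x y ⟨hx, ⟨c, hc, h1⟩, c', hc', h1'⟩ ⟨hy, ⟨d, hd, h2⟩, d', hd', h2'⟩
    refine ⟨mul_mem hx hy, ⟨d * c, mul_ne_zero hd hc, ?_⟩, d' * c', mul_ne_zero hd' hc', ?_⟩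
    · rw [map_mul, app_mul, h2, map_smul, h1, smul_smul]
    · rw [map_mul, app_mul, h2', map_smul, h1', smul_smul]
  inv_mem' := by
    rintro x ⟨hx, ⟨c, hc, h1⟩, c', hc', h1'⟩
    refine ⟨inv_mem hx, ⟨c⁻¹, inv_ne_zero hc, ?_⟩, c'⁻¹, inv_ne_zero hc', ?_⟩
    · conv_rhs => rw [← app_inv_app (π x) e]
      rw [h1, map_inv, map_smul, smul_smul, inv_mul_cancel₀ hc, one_smul]
    · conv_rhs => rw [← app_inv_app (π x) f]
      rw [h1', map_inv, map_smul, smul_smul, inv_mul_cancel₀ hc', one_smul]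

/-- The lifts fixing the line of `e`. -/
def par (π : E →* O Q) (V : Submodule F (ι → F)) (e f e2 f2 : ι → F) : Subgroup E :=
  Subgroup.closure ({g | ∃ a ∈ split Q V e f, g = tau π e a} ∪ (gen π (split Q V e f) : Set E) ∪
    (torus π V e f e2 f2 : Set E))

namespace Frame

variable {V : Submodule F (ι → F)} {e f e2 f2 : ι → F} (H : Ctx π) (D : Frame Q V e f e2 f2)
include H D

theorem tau_par {a : ι → F} (ha : a ∈ split Q V e f) : tau π e a ∈ par π V e f e2 f2 :=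
  Subgroup.subset_closure (Or.inl (Or.inl ⟨a, ha, rfl⟩))

theorem gen_par {x : E} (hx : x ∈ gen π (split Q V e f)) : x ∈ par π V e f e2 f2 :=
  Subgroup.subset_closure (Or.inl (Or.inr hx))

theorem torus_par {x : E} (hx : x ∈ torus π V e f e2 f2) : x ∈ par π V e f e2 f2 :=
  Subgroup.subset_closure (Or.inr hx)

theorem torus_maps {t : E} (ht : t ∈ torus π V e f e2 f2) {v : ι → F} (hv : v ∈ split Q V e f) :
    app (π t) v ∈ split Q V e f := by
  obtain ⟨hg, ⟨c, hc, h1⟩, c', hc', h2⟩ := ht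
  refine ⟨(H.gen_maps (gen_mono (split_le V e2 f2) hg)).2 hv.1, ?_, ?_⟩
  · have := polar_app (π t) e v
    rw [h1, polar_smul_left, hv.2.1, smul_eq_zero] at this
    exact this.resolve_left hc
  · have := polar_app (π t) f v
    rw [h2, polar_smul_left, hv.2.2, smul_eq_zero] at this
    exact this.resolve_left hc'

theorem fix_ef {l : E} (hl : l ∈ gen π (split Q V e f)) :
    app (π l) e = e ∧ app (π l) f = f :=
  ⟨H.gen_fix hl fun _ hv => hv.2.1, H.gen_fix hl fun _ hv => hv.2.2⟩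

theorem par_form {x : E} (hx : x ∈ par π V e f e2 f2) :
    ∃ a ∈ split Q V e f, ∃ l ∈ gen π (split Q V e f), ∃ t ∈ torus π V e f e2 f2,
      x = tau π e a * l * t := by
  have step : ∀ s ∈ ({g | ∃ a ∈ split Q V e f, g = tau π e a} ∪
      (gen π (split Q V e f) : Set E) ∪ (torus π V e f e2 f2 : Set E)), ∀ y,
      (∃ a ∈ split Q V e f, ∃ l ∈ gen π (split Q V e f), ∃ t ∈ torus π V e f e2 f2,
        y = tau π e a * l * t) →
      ∃ a ∈ split Q V e f, ∃ l ∈ gen π (split Q V e f), ∃ t ∈ torus π V e f e2 f2,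
        s * y = tau π e a * l * t := by
    rintro s hs _ ⟨a, ha, l, hl, t, ht, rfl⟩
    rcases hs with (⟨a', ha', rfl⟩ | hs) | hs
    · exact ⟨a' + a, add_mem ha' ha, l, hl, t, ht, by
        rw [← H.tau_add D.p1.qu ha'.2.1 ha.2.1]; group⟩
    · refine ⟨app (π s) a, (H.gen_maps hs).2 ha, s * l, mul_mem hs hl, t, ht, ?_⟩
      have hc := H.tau_conj s D.p1.qu ha.2.1
      rw [(D.fix_ef H hs).1] at hc
      rw [← hc]; group
    · obtain ⟨hg, ⟨c, hc0, h1⟩, c', hc', h2⟩ := hs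
      have hm : ∀ {v}, v ∈ split Q V e f → app (π s) v ∈ split Q V e f := fun {v} hv =>
        D.torus_maps H (t := s) ⟨hg, ⟨c, hc0, h1⟩, c', hc', h2⟩ hv
      refine ⟨c • app (π s) a, (split Q V e f).smul_mem _ (hm ha), s * l * s⁻¹,
        H.gen_conj (fun v hv => hm hv) hl, s * t,
        mul_mem ⟨hg, ⟨c, hc0, h1⟩, c', hc', h2⟩ ht, ?_⟩
      have hc := H.tau_conj s D.p1.qu ha.2.1
      rw [h1, H.tau_smul D.p1.qu (hm ha).2.1] at hc
      rw [← hc]; group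
  induction hx using Subgroup.closure_induction_left with
  | one => exact ⟨0, zero_mem _, 1, one_mem _, 1, one_mem _, by rw [H.tau_zero D.p1.qu]; group⟩
  | mul_left s hs y _ ih => exact step s hs y ih
  | inv_mul_cancel s hs y _ ih =>
    refine step s⁻¹ ?_ y ih
    rcases hs with (⟨a', ha', rfl⟩ | hs) | hs
    · exact Or.inl (Or.inl ⟨-a', neg_mem ha', (H.tau_neg D.p1.qu ha'.2.1).symm⟩)
    · exact Or.inl (Or.inr (inv_mem hs))
    · exact Or.inr (inv_mem hs)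

theorem par_le : par π V e f e2 f2 ≤ gen π V := by
  refine (Subgroup.closure_le _).2 ?_
  rintro x ((⟨a, ha, rfl⟩ | hx) | hx)
  · exact tau_mem D.me ha.1 D.p1.qu ha.2.1
  · exact gen_mono (split_le V e f) hx
  · exact gen_mono (split_le V e2 f2) hx.1

theorem par_line {x : E} (hx : x ∈ par π V e f e2 f2) : ∃ c : F, c ≠ 0 ∧ app (π x) e = c • e := by
  obtain ⟨a, ha, l, hl, t, ⟨-, ⟨c, hc, h1⟩, -⟩, rfl⟩ := D.par_form H hx
  refine ⟨c, hc, ?_⟩
  rw [map_mul, map_mul, app_mul, app_mul, h1, map_smul, (D.fix_ef H hl).1, map_smul,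
    H.map_tau D.p1.qu ha.2.1, app_eich D.p1.qu ha.2.1, polar_self_zero D.p1.qu, ha.2.1]
  simp

theorem orth : polar Q e e2 = 0 ∧ polar Q e f2 = 0 ∧ polar Q f e2 = 0 ∧ polar Q f f2 = 0 :=
  ⟨D.me2.2.1, D.mf2.2.1, D.me2.2.2, D.mf2.2.2⟩

theorem sw_mem : sw π e f e2 f2 ∈ gen π V := by
  obtain ⟨a1, a2, a3, -⟩ := D.orth H
  exact mul_mem (mul_mem (tau_mem D.me D.mf2.1 D.p1.qu a2) (tau_mem D.me2.1 (neg_mem D.mf) D.p2.qu
    (by rw [polar_neg_right, polar_comm, a3, neg_zero]))) (tau_mem D.me D.mf2.1 D.p1.qu a2)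

theorem sw_app : app (π (sw π e f e2 f2)) e = e2 ∧ app (π (sw π e f e2 f2)) f = f2 ∧
    app (π (sw π e f e2 f2)) e2 = -e ∧ app (π (sw π e f e2 f2)) f2 = -f ∧
    ∀ t, polar Q t e = 0 → polar Q t f = 0 → polar Q t e2 = 0 → polar Q t f2 = 0 →
      app (π (sw π e f e2 f2)) t = t := by
  obtain ⟨a1, a2, a3, a4⟩ := D.orth H
  exact H.app_sw D.p1 D.p2 a1 a2 a3 a4

theorem sw_inv_app : app (π (sw π e f e2 f2))⁻¹ e = -e2 ∧ app (π (sw π e f e2 f2))⁻¹ f = -f2 ∧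
    app (π (sw π e f e2 f2))⁻¹ e2 = e ∧ app (π (sw π e f e2 f2))⁻¹ f2 = f := by
  obtain ⟨h1, h2, h3, h4, -⟩ := D.sw_app H
  refine ⟨?_, ?_, ?_, ?_⟩ <;> refine app_injective (π (sw π e f e2 f2)) ?_ <;>
    rw [app_app_inv] <;> simp [map_neg, h1, h2, h3, h4]

theorem core_fix {v : ι → F} (hv : v ∈ split Q (split Q V e f) e2 f2) :
    app (π (sw π e f e2 f2)) v = v :=
  (D.sw_app H).2.2.2.2 v ((polar_comm ⇑Q _ _).trans hv.1.2.1) ((polar_comm ⇑Q _ _).trans hv.1.2.2)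
    ((polar_comm ⇑Q _ _).trans hv.2.1) ((polar_comm ⇑Q _ _).trans hv.2.2)

theorem sw_maps {v : ι → F} (hv : v ∈ split Q V e2 f2) :
    app (π (sw π e f e2 f2)) v ∈ split Q V e f := by
  obtain ⟨h1, h2, h3, h4, -⟩ := D.sw_app H
  refine ⟨(H.gen_maps (D.sw_mem H)).2 hv.1, ?_, ?_⟩
  · have := polar_app (π (sw π e f e2 f2)) e2 v
    rw [h3, polar_neg_left, hv.2.1, neg_eq_zero] at this
    exact this
  · have := polar_app (π (sw π e f e2 f2)) f2 v
    rw [h4, polar_neg_left, hv.2.2, neg_eq_zero] at this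
    exact this

theorem sw_maps' {v : ι → F} (hv : v ∈ split Q V e f) :
    app (π (sw π e f e2 f2)) v ∈ split Q V e2 f2 := by
  obtain ⟨h1, h2, h3, h4, -⟩ := D.sw_app H
  refine ⟨(H.gen_maps (D.sw_mem H)).2 hv.1, ?_, ?_⟩
  · have := polar_app (π (sw π e f e2 f2)) e v
    rwa [h1, hv.2.1] at this
  · have := polar_app (π (sw π e f e2 f2)) f v
    rwa [h2, hv.2.2] at this

/-- A lift inside the complement of the second pair fixing the first pair lies in the complement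
of the first. -/
theorem fix_mem {x : E} (hx : x ∈ gen π (split Q V e2 f2)) (h1 : app (π x) e = e)
    (h2 : app (π x) f = f) : x ∈ gen π (split Q V e f) := by
  obtain ⟨-, a2, a3, -⟩ := D.orth H
  have he2 : app (π x) e2 = e2 := H.gen_fix hx fun v hv => hv.2.1
  have hf2 : app (π x) f2 = f2 := H.gen_fix hx fun v hv => hv.2.2
  have c1 := H.commute_tau (g := x) D.p1.qu a2 h1 hf2
  have c2 := H.commute_tau (g := x) D.p2.qu
    (show polar Q e2 (-f) = 0 by rw [polar_neg_right, polar_comm, a3, neg_zero]) he2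
    (by rw [map_neg, h2])
  have hcomm : x * sw π e f e2 f2 * x⁻¹ = sw π e f e2 f2 := by
    conv_rhs => rw [sw, ← c1, ← c2]
    rw [sw]; group
  have h := H.gen_conj (g := sw π e f e2 f2) (fun v hv => D.sw_maps H hv) hx
  have hcm : x * sw π e f e2 f2 = sw π e f e2 f2 * x := mul_inv_eq_iff_eq_mul.1 hcomm
  rwa [← hcm, mul_inv_cancel_right] at h

theorem torus_sw {t : E} (ht : t ∈ torus π V e f e2 f2) :
    sw π e f e2 f2 * t * (sw π e f e2 f2)⁻¹ ∈ par π V e f e2 f2 :=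
  D.gen_par H (H.gen_conj (fun v hv => D.sw_maps H hv) ht.1)

/-- A lift inside the complement of the second pair fixing the line of `e`. -/
theorem line_mem {x : E} (hx : x ∈ gen π (split Q V e2 f2)) {c : F}
    (hc : app (π x) e = c • e) : x ∈ par π V e f e2 f2 := by
  obtain ⟨a1, a2, a3, a4⟩ := D.orth H
  have he' : e ∈ split Q V e2 f2 :=
    ⟨D.me, (polar_comm ⇑Q _ _).trans a1, (polar_comm ⇑Q _ _).trans a2⟩
  have hf' : f ∈ split Q V e2 f2 :=
    ⟨D.mf, (polar_comm ⇑Q _ _).trans a3, (polar_comm ⇑Q _ _).trans a4⟩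
  obtain ⟨a, ha, t, ht, rfl, t1, t2⟩ := H.line_stab D.p1 he' hf' hx hc
  have hc0 : c ≠ 0 := fun h0 => D.p1.ne (app_injective (π t) (by rw [t1, h0, zero_smul, map_zero]))
  exact mul_mem (D.tau_par H ⟨ha.1.1, ha.2.1, ha.2.2⟩)
    (D.torus_par H ⟨ht, ⟨c, hc0, t1⟩, c⁻¹, inv_ne_zero hc0, t2⟩)

theorem exists_scale {c : F} (hc : c ≠ 0) : ∃ t ∈ torus π V e f e2 f2,
    app (π t) e = c • e ∧ app (π t) f = c⁻¹ • f := by
  obtain ⟨p, hp, hQp⟩ := D.univ c hc
  obtain ⟨p1, hp1, hQp1⟩ := D.univ 1 one_ne_zero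
  obtain ⟨a1, a2, a3, a4⟩ := D.orth H
  have he' : e ∈ split Q V e2 f2 :=
    ⟨D.me, (polar_comm ⇑Q _ _).trans a1, (polar_comm ⇑Q _ _).trans a2⟩
  have hf' : f ∈ split Q V e2 f2 :=
    ⟨D.mf, (polar_comm ⇑Q _ _).trans a3, (polar_comm ⇑Q _ _).trans a4⟩
  have hflp : ∀ {r}, r ∈ split Q (split Q V e f) e2 f2 →
      flp π e f r ∈ gen π (split Q V e2 f2) := by
    intro r hr
    have hr' : r ∈ split Q V e2 f2 := ⟨hr.1.1, hr.2.1, hr.2.2⟩
    have h1 := tau_mem (π := π) hf' ((split Q V e2 f2).smul_mem (Q r)⁻¹ hr') D.p1.qf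
      (by rw [polar_smul_right, hr.1.2.2, smul_zero])
    exact mul_mem (mul_mem h1 (tau_mem he' hr' D.p1.qu hr.1.2.1)) h1
  have f1 := app_flipO D.p1 hp.1.2.1 hp.1.2.2 (by rw [hQp]; exact hc)
  have g1 := app_flipO D.p1 hp1.1.2.1 hp1.1.2.2 (by rw [hQp1]; exact one_ne_zero)
  have e1 : app (π (flp π e f p * flp π e f p1)) e = c • e := by
    rw [map_mul, app_mul, H.app_flp D.p1 hp1.1.2.1 hp1.1.2.2, H.app_flp D.p1 hp.1.2.1 hp.1.2.2,
      g1.1, map_smul, f1.2.1, smul_smul, hQp, hQp1, inv_one, neg_one_mul, neg_neg]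
  have e2' : app (π (flp π e f p * flp π e f p1)) f = c⁻¹ • f := by
    rw [map_mul, app_mul, H.app_flp D.p1 hp1.1.2.1 hp1.1.2.2, H.app_flp D.p1 hp.1.2.1 hp.1.2.2,
      g1.2.1, map_smul, f1.1, smul_smul, hQp, hQp1, neg_mul_neg, one_mul]
  exact ⟨flp π e f p * flp π e f p1, ⟨mul_mem (hflp hp) (hflp hp1), ⟨c, hc, e1⟩, c⁻¹, inv_ne_zero hc,
    e2'⟩, e1, e2'⟩

theorem scale_sw {t : E} (ht : t ∈ torus π V e f e2 f2) {c : F} (hc : c ≠ 0)
    (h1 : app (π t) e = c • e) (h2 : app (π t) f = c⁻¹ • f) :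
    t * sw π e f e2 f2 * t⁻¹ =
      tau π e (c • f2) * tau π e2 (-(c⁻¹ • f)) * tau π e (c • f2) := by
  obtain ⟨a1, a2, a3, a4⟩ := D.orth H
  have he2 : app (π t) e2 = e2 := H.gen_fix ht.1 fun v hv => hv.2.1
  have hf2 : app (π t) f2 = f2 := H.gen_fix ht.1 fun v hv => hv.2.2
  have c1 : t * tau π e f2 * t⁻¹ = tau π e (c • f2) := by
    rw [H.tau_conj t D.p1.qu a2, h1, hf2, H.tau_smul D.p1.qu a2]
  have c2 : t * tau π e2 (-f) * t⁻¹ = tau π e2 (-(c⁻¹ • f)) := by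
    rw [H.tau_conj t D.p2.qu (by rw [polar_neg_right, polar_comm, a3, neg_zero]), map_neg, h2, he2]
  rw [← c1, ← c2, sw]; group

theorem exists_inv : ∃ t ∈ torus π V e f e2 f2,
    t * sw π e f e2 f2 * t⁻¹ = (sw π e f e2 f2)⁻¹ := by
  obtain ⟨t, ht, h1, h2⟩ := D.exists_scale H (c := (-1 : F)) (neg_ne_zero.2 one_ne_zero)
  obtain ⟨a1, a2, a3, a4⟩ := D.orth H
  refine ⟨t, ht, ?_⟩
  rw [D.scale_sw H ht (neg_ne_zero.2 one_ne_zero) h1 h2, inv_neg_one, neg_one_smul, neg_one_smul,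
    neg_neg, sw, mul_inv_rev, mul_inv_rev, H.tau_neg D.p1.qu a2, mul_assoc,
    show tau π e2 f = (tau π e2 (-f))⁻¹ by
      rw [H.tau_neg D.p2.qu ((polar_comm ⇑Q _ _).trans a3), inv_inv]]

theorem sq_par : sw π e f e2 f2 * sw π e f e2 f2 ∈ par π V e f e2 f2 := by
  obtain ⟨t, ht, h⟩ := D.exists_inv H
  set s := sw π e f e2 f2
  have e1 : s * s = (s * t * s⁻¹)⁻¹ * t := by
    have h2 : t * s = s⁻¹ * t := mul_inv_eq_iff_eq_mul.1 h
    rw [mul_inv_rev, mul_inv_rev, inv_inv, mul_assoc, mul_assoc, ← h2, inv_mul_cancel_left]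
  rw [e1]
  exact mul_mem (inv_mem (D.torus_sw H ht)) (D.torus_par H ht)

theorem yroot (b : F) : tau π e2 (b • f) ∈ par π V e f e2 f2 ∨
    ∃ d ∈ torus π V e f e2 f2, ∃ a : F, tau π e2 (b • f) =
      tau π e (a • f2) * (d * sw π e f e2 f2 * d⁻¹) * tau π e (a • f2) := by
  rcases eq_or_ne b 0 with rfl | hb
  · refine Or.inl ?_
    rw [zero_smul, H.tau_zero D.p2.qu]
    exact one_mem _
  obtain ⟨a1, a2, a3, a4⟩ := D.orth H
  have hc : -b⁻¹ ≠ 0 := neg_ne_zero.2 (inv_ne_zero hb)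
  obtain ⟨d, hd, h1, h2⟩ := D.exists_scale H hc
  refine Or.inr ⟨d, hd, b⁻¹, ?_⟩
  rw [D.scale_sw H hd hc h1 h2, inv_neg, inv_inv, neg_smul, neg_smul, neg_neg,
    H.tau_neg D.p1.qu (by rw [polar_smul_right, a2, smul_zero])]
  group

end Frame

end CfsgLib.MinusMult
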