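import Cfsg.Agent.Lib.MinusMult.Cells

/-!
The three cells are closed under multiplication; consequences.
-/

set_option autoImplicit false
set_option linter.unusedSectionVars false

namespace CfsgLib.MinusMult

open QuadraticMap CfsgLib.Orth CfsgLib.POmega

variable {ι : Type} [Fintype ι] [DecidableEq ι] {F : Type*} [Field F] [Fintype F]
  {Q : QuadraticForm F (ι → F)} {E : Type*} [Group E] {π : E →* O Q}

/-- Membership in the three cells. -/
def InCells (π : E →* O Q) (V : Submodule F (ι → F)) (e f e2 f2 : ι → F) (n x : E) : Prop :=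
  x ∈ par π V e f e2 f2 ∨
    (∃ p ∈ par π V e f e2 f2, ∃ q ∈ par π V e f e2 f2, x = p * sw π e f e2 f2 * q) ∨
    ∃ p ∈ par π V e f e2 f2, ∃ q ∈ par π V e f e2 f2, x = p * n * q

/-- The long element attached to a vector of value one. -/
noncomputable def opp (π : E →* O Q) (e f e2 f2 p : ι → F) : E :=
  sw π e f e2 f2 * flp π e2 f2 p * sw π e f e2 f2

namespace Frame

variable {V : Submodule F (ι → F)} {e f e2 f2 : ι → F} (H : Ctx π) (D : Frame Q V e f e2 f2)
  {p0 : ι → F} (hp0 : p0 ∈ split Q (split Q V e f) e2 f2) (hQ0 : Q p0 = 1)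
include H D hp0 hQ0

theorem cells_left {n p x : E} (hp : p ∈ par π V e f e2 f2) (hx : InCells π V e f e2 f2 n x) :
    InCells π V e f e2 f2 n (p * x) := by
  rcases hx with hx | ⟨a, ha, b, hb, rfl⟩ | ⟨a, ha, b, hb, rfl⟩
  · exact Or.inl (mul_mem hp hx)
  · exact Or.inr (Or.inl ⟨p * a, mul_mem hp ha, b, hb, by group⟩)
  · exact Or.inr (Or.inr ⟨p * a, mul_mem hp ha, b, hb, by group⟩)

theorem cells_right {n p x : E} (hx : InCells π V e f e2 f2 n x) (hp : p ∈ par π V e f e2 f2) :
    InCells π V e f e2 f2 n (x * p) := by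
  rcases hx with hx | ⟨a, ha, b, hb, rfl⟩ | ⟨a, ha, b, hb, rfl⟩
  · exact Or.inl (mul_mem hx hp)
  · exact Or.inr (Or.inl ⟨a, ha, b * p, mul_mem hb hp, by group⟩)
  · exact Or.inr (Or.inr ⟨a, ha, b * p, mul_mem hb hp, by group⟩)

theorem flp_facts : flp π e2 f2 p0 ∈ gen π (split Q V e f) ∧
    app (π (flp π e2 f2 p0)) e2 = -f2 ∧ app (π (flp π e2 f2 p0)) f2 = -e2 ∧
    app (π (flp π e2 f2 p0)) e = e ∧ app (π (flp π e2 f2 p0)) f = f := by
  have h1 : (Q p0)⁻¹ • p0 = p0 := by rw [hQ0, inv_one, one_smul]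
  have hm : flp π e2 f2 p0 ∈ gen π (split Q V e f) := by
    rw [flp, h1]
    exact mul_mem (mul_mem (tau_mem D.mf2 hp0.1 D.p2.qf hp0.2.2)
      (tau_mem D.me2 hp0.1 D.p2.qu hp0.2.1)) (tau_mem D.mf2 hp0.1 D.p2.qf hp0.2.2)
  obtain ⟨g1, g2, -⟩ := app_flipO D.p2 hp0.2.1 hp0.2.2 (by rw [hQ0]; exact one_ne_zero)
  refine ⟨hm, ?_, ?_, (D.fix_ef H hm).1, (D.fix_ef H hm).2⟩
  · rw [H.app_flp D.p2 hp0.2.1 hp0.2.2, g1, hQ0, inv_one, neg_one_smul]
  · rw [H.app_flp D.p2 hp0.2.1 hp0.2.2, g2, hQ0, neg_one_smul]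

theorem opp_app : app (π (opp π e f e2 f2 p0)) e = f ∧ app (π (opp π e f e2 f2 p0)) f = e := by
  obtain ⟨h1, h2, h3, h4, -⟩ := D.sw_app H
  obtain ⟨-, g1, g2, -, -⟩ := D.flp_facts H hp0 hQ0
  constructor
  · rw [opp, map_mul, map_mul, app_mul, app_mul, h1, g1, map_neg, h4, neg_neg]
  · rw [opp, map_mul, map_mul, app_mul, app_mul, h2, g2, map_neg, h3, neg_neg]

theorem opp_maps {v : ι → F} (hv : v ∈ split Q V e f) :
    app (π (opp π e f e2 f2 p0))⁻¹ v ∈ split Q V e f := by
  obtain ⟨o1, o2⟩ := D.opp_app H hp0 hQ0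
  have hm : opp π e f e2 f2 p0 ∈ gen π V :=
    mul_mem (mul_mem (D.sw_mem H) (gen_mono (split_le V e f) (D.flp_facts H hp0 hQ0).1)) (D.sw_mem H)
  refine ⟨?_, ?_, ?_⟩
  · rw [← map_inv]; exact (H.gen_maps (inv_mem hm)).2 hv.1
  · rw [← polar_app (π (opp π e f e2 f2 p0)), app_app_inv, o1, hv.2.2]
  · rw [← polar_app (π (opp π e f e2 f2 p0)), app_app_inv, o2, hv.2.1]

/-- Moving a lift over `e` across the exchange. -/
theorem move_right {a : ι → F} (ha : a ∈ split Q V e f) :
    ∃ b : F, ∃ a0 ∈ split Q V e f, tau π e a = tau π e (b • f2) * tau π e a0 ∧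
      sw π e f e2 f2 * tau π e a0 * (sw π e f e2 f2)⁻¹ ∈ par π V e f e2 f2 ∧
      (sw π e f e2 f2)⁻¹ * tau π e a0 * sw π e f e2 f2 ∈ par π V e f e2 f2 := by
  obtain ⟨p, hp, ea⟩ := exists_decomp D.p2 D.me2 D.mf2 ha
  obtain ⟨a1, a2, a3, a4⟩ := D.orth H
  set α := polar Q f2 a
  set b := polar Q e2 a
  have hA : α • e2 + p ∈ split Q V e f := add_mem ((split Q V e f).smul_mem _ D.me2) hp.1
  refine ⟨b, α • e2 + p, hA, ?_, ?_⟩
  · rw [H.tau_add D.p1.qu (by rw [polar_smul_right, a2, smul_zero]) hA.2.1]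
    congr 1
    rw [ea]; module
  obtain ⟨h1, -, h3, -, -⟩ := D.sw_app H
  obtain ⟨i1, -, i3, -⟩ := D.sw_inv_app H
  have hp2 : polar Q e2 p = 0 := hp.2.1
  have hee2 : polar Q e2 e = 0 := by rw [polar_comm, a1]
  have hpart : ∀ k : F, tau π e2 (k • e + p) ∈ par π V e f e2 f2 := fun k => by
    rw [← H.tau_add D.p2.qu (by rw [polar_smul_right, hee2, smul_zero]) hp2]
    refine mul_mem ?_ (D.gen_par H (tau_mem D.me2 hp.1 D.p2.qu hp2))
    rw [H.tau_swap D.p2.qu (by rw [QuadraticMap.map_smul, D.p1.qu, smul_zero])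
      (by rw [polar_smul_right, hee2, smul_zero]),
      H.tau_smul D.p1.qu (by rw [polar_neg_right, a1, neg_zero])]
    exact D.tau_par H ((split Q V e f).smul_mem _ (neg_mem D.me2))
  have hfix := D.core_fix H hp
  constructor
  · rw [H.tau_conj _ D.p1.qu hA.2.1, h1, map_add, map_smul, h3, hfix, smul_neg, ← neg_smul]
    exact hpart _
  · have h := H.tau_conj (sw π e f e2 f2)⁻¹ D.p1.qu hA.2.1
    rw [inv_inv, map_inv, i1, map_add, map_smul, i3] at h
    rw [h, show app (π (sw π e f e2 f2))⁻¹ p = p by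
      conv_lhs => rw [← hfix]
      rw [app_inv_app]]
    have hu : polar Q e2 (α • e + p) = 0 := by
      rw [polar_add_right, polar_smul_right, hee2, hp2, smul_zero, add_zero]
    rw [show (-e2 : ι → F) = (-1 : F) • e2 by rw [neg_one_smul], H.tau_smul D.p2.qu hu, neg_one_smul,
      H.tau_neg D.p2.qu hu]
    exact inv_mem (hpart α)

/-- `s P s` lies in the cells. -/
theorem key_one {p : E} (hp : p ∈ par π V e f e2 f2) :
    InCells π V e f e2 f2 (opp π e f e2 f2 p0) (sw π e f e2 f2 * p * sw π e f e2 f2) := by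
  obtain ⟨a1, a2, a3, a4⟩ := D.orth H
  obtain ⟨h1, h2, h3, h4, -⟩ := D.sw_app H
  obtain ⟨i1, i2, i3, i4⟩ := D.sw_inv_app H
  obtain ⟨aa, haa, ll, hll, tt, htt, ep⟩ := D.par_form H (inv_mem hp)
  have ha0 : -aa ∈ split Q V e f := neg_mem haa
  have hl0 : ll⁻¹ ∈ gen π (split Q V e f) := inv_mem hll
  have e0 : p = tt⁻¹ * ll⁻¹ * tau π e (-aa) := by
    rw [H.tau_neg D.p1.qu haa.2.1, ← inv_inv p, ep]; group
  set s := sw π e f e2 f2 with hs
  set n := opp π e f e2 f2 p0 with hn
  set l := ll⁻¹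
  obtain ⟨b, a0, ha0', eb, -, m2⟩ := D.move_right H hp0 hQ0 ha0
  suffices core : InCells π V e f e2 f2 n (s * l * tau π e (b • f2) * s) by
    have e1 : s * p * s = (s * tt⁻¹ * s⁻¹) * (s * l * tau π e (b • f2) * s) *
        (s⁻¹ * tau π e a0 * s) := by
      rw [e0, eb]; group
    rw [e1]
    exact D.cells_right H hp0 hQ0 (D.cells_left H hp0 hQ0 (D.torus_sw H (inv_mem htt)) core) m2
  have hsq : ∀ q ∈ par π V e f e2 f2, q * (s * s) ∈ par π V e f e2 f2 := fun q hq =>
    mul_mem hq (D.sq_par H)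
  set v := app (π l) e2
  have hv : v ∈ split Q V e f := (H.gen_maps hl0).2 D.me2
  have hQv : Q v = 0 := by rw [Q_app, D.p2.qu]
  have hv0 : v ≠ 0 := fun h => D.p2.ne (app_injective (π l) (by rw [map_zero]; exact h))
  -- the right part after the middle element
  have right : ∀ q, q ∈ gen π (split Q V e f) → (∃ c : F, app (π q) e2 = c • e2) →
      s⁻¹ * q * s ∈ par π V e f e2 f2 := by
    rintro q hq ⟨c, hc⟩
    have hq' : s⁻¹ * q * s ∈ gen π (split Q V e2 f2) := by
      have := H.gen_conj (g := s⁻¹) (V' := split Q V e2 f2) (fun w hw => ?_) hq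
      · rwa [inv_inv] at this
      · rw [map_inv]
        refine ⟨?_, ?_, ?_⟩
        · rw [← map_inv]; exact (H.gen_maps (inv_mem (D.sw_mem H))).2 hw.1
        · rw [← polar_app (π s), app_app_inv, h3, polar_neg_left, hw.2.1, neg_zero]
        · rw [← polar_app (π s), app_app_inv, h4, polar_neg_left, hw.2.2, neg_zero]
    refine D.line_mem H hq' (c := c) ?_
    rw [map_mul, map_mul, app_mul, app_mul, h1, hc, map_smul, map_inv, i3]
  obtain ⟨v2, hv2, ev⟩ := exists_decomp D.p2 D.me2 D.mf2 hv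
  set α := polar Q f2 v
  set β := polar Q e2 v
  have hQv2 : α * β + Q v2 = 0 := by
    have h := hQv
    rw [ev] at h
    simpa [QuadraticMap.map_add ⇑Q, QuadraticMap.map_smul, polar_add_left, polar_smul_left,
      polar_smul_right, D.p2.qu, D.p2.qf, D.p2.uf, hv2.2.1, hv2.2.2, mul_comm] using h
  by_cases hβ : β = 0
  · by_cases hv20 : v2 = 0
    · -- the line of `e2` is fixed
      rw [hβ, hv20, zero_smul, add_zero, add_zero] at ev
      have hl' : s * l * s⁻¹ ∈ par π V e f e2 f2 := by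
        have hx : s * l * s⁻¹ ∈ gen π (split Q V e2 f2) := H.gen_conj (fun w hw => D.sw_maps' H hw) hl0
        refine D.line_mem H hx (c := α) ?_
        rw [map_mul, map_mul, app_mul, app_mul, map_inv π s, i1, map_neg,
          show app (π l) e2 = α • e2 from ev, map_neg, map_smul, h3, smul_neg, neg_neg]
      have e1 : s * l * tau π e (b • f2) * s =
          (s * l * s⁻¹) * ((s * tau π e (b • f2) * s⁻¹) * (s * s)) := by group
      rw [e1]
      refine D.cells_left H hp0 hQ0 hl' ?_
      have hy : s * tau π e (b • f2) * s⁻¹ = tau π e2 ((-b) • f) := by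
        rw [H.tau_conj s D.p1.qu (by rw [polar_smul_right, a2, smul_zero]), h1, map_smul, h4,
          smul_neg, neg_smul]
      rw [hy]
      rcases D.yroot H (-b) with h | ⟨d, hd, a, h⟩
      · exact Or.inl (hsq _ h)
      · refine Or.inr (Or.inl ⟨tau π e (a • f2) * d, mul_mem (D.tau_par H ((split Q V e f).smul_mem _ D.mf2))
          (D.torus_par H hd), d⁻¹ * tau π e (a • f2) * (s * s),
          hsq _ (mul_mem (inv_mem (D.torus_par H hd)) (D.tau_par H ((split Q V e f).smul_mem _ D.mf2))),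
          ?_⟩)
        rw [h]; group
    · -- the line moves to one orthogonal to it
      have hQ2 : Q v2 = 0 := by rw [hβ, mul_zero, zero_add] at hQv2; exact hQv2
      obtain ⟨y0, hy0, hp3⟩ := exists_partner_in
        (good_split (good_split D.good D.p1 D.me D.mf) D.p2 D.me2 D.mf2) hv2 hQ2 hv20
      set r := sw π e2 f2 v2 y0
      have b1 : polar Q e2 v2 = 0 := hv2.2.1
      have b2 : polar Q e2 y0 = 0 := hy0.2.1
      have b3 : polar Q f2 v2 = 0 := hv2.2.2
      have b4 : polar Q f2 y0 = 0 := hy0.2.2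
      obtain ⟨r1, r2, -, -, r5⟩ := H.app_sw D.p2 hp3 b1 b2 b3 b4
      have hr : r ∈ gen π (split Q V e f) :=
        mul_mem (mul_mem (tau_mem D.me2 hy0.1 D.p2.qu b2) (tau_mem hv2.1 (neg_mem D.mf2) hp3.qu (by
          rw [polar_neg_right, polar_comm, b3, neg_zero]))) (tau_mem D.me2 hy0.1 D.p2.qu b2)
      have re : app (π r) e = e := (D.fix_ef H hr).1
      have rf : app (π r) f = f := (D.fix_ef H hr).2
      set w := (-α) • y0
      have hw : w ∈ split Q V e f := (split Q V e f).smul_mem _ hy0.1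
      have hwe : polar Q e2 w = 0 := by rw [polar_smul_right, b2, smul_zero]
      set q := (tau π e2 w * r)⁻¹ * l
      have hq : q ∈ gen π (split Q V e f) :=
        mul_mem (inv_mem (mul_mem (tau_mem D.me2 hw D.p2.qu hwe) hr)) hl0
      have hqc : app (π q) e2 = (1 : F) • e2 := by
        refine app_injective (π (tau π e2 w * r)) ?_
        rw [map_mul (π) _ l, map_inv, app_mul, app_app_inv, one_smul, map_mul, app_mul,
          show app (π r) e2 = v2 from r1, H.map_tau D.p2.qu hwe, app_eich D.p2.qu hwe,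
          polar_comm (f := ⇑Q) v2 e2, b1, polar_smul_right, hp3.uf]
        show v = _
        rw [ev, hβ]
        module
      have hl1 : l = tau π e2 w * r * q := by simp only [q]; group
      set bb := app (π q) (b • f2)
      have hbb : bb ∈ split Q V e f := (H.gen_maps hq).2 ((split Q V e f).smul_mem _ D.mf2)
      obtain ⟨b', a0', ha0'', eb', -, m4⟩ := D.move_right H hp0 hQ0 hbb
      have hq1 : q * tau π e (b • f2) = tau π e bb * q := by
        have := H.tau_conj q D.p1.qu (show polar Q e (b • f2) = 0 by rw [polar_smul_right, a2, smul_zero])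
        rw [(D.fix_ef H hq).1] at this
        exact mul_inv_eq_iff_eq_mul.1 this
      have hr1 : r * tau π e (b' • f2) = tau π e (b' • y0) * r := by
        have := H.tau_conj r D.p1.qu (show polar Q e (b' • f2) = 0 by rw [polar_smul_right, a2, smul_zero])
        rw [re, map_smul, show app (π r) f2 = y0 from r2] at this
        exact mul_inv_eq_iff_eq_mul.1 this
      have e1 : s * l * tau π e (b • f2) * s =
          (s * tau π e2 w * s⁻¹) * (s * tau π e (b' • y0) * s⁻¹) * (s * r * s) *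
            ((s⁻¹ * tau π e a0' * s) * (s⁻¹ * q * s)) := by
        calc s * l * tau π e (b • f2) * s = s * tau π e2 w * r * (q * tau π e (b • f2)) * s := by
              rw [hl1]; group
          _ = s * tau π e2 w * (r * tau π e (b' • f2)) * tau π e a0' * q * s := by
              rw [hq1, eb']; group
          _ = _ := by rw [hr1]; group
      have hys : app (π s) y0 = y0 := D.core_fix H hy0
      have m5 : s * tau π e2 w * s⁻¹ ∈ par π V e f e2 f2 := by
        rw [H.tau_conj s D.p2.qu hwe, h3, map_smul, hys,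
          show (-e : ι → F) = (-1 : F) • e by rw [neg_one_smul],
          H.tau_smul D.p1.qu (show polar Q e ((-α) • y0) = 0 from hw.2.1)]
        exact D.tau_par H ((split Q V e f).smul_mem _ hw)
      have m6 : s * tau π e (b' • y0) * s⁻¹ ∈ par π V e f e2 f2 := by
        rw [H.tau_conj s D.p1.qu (by rw [polar_smul_right, hy0.1.2.1, smul_zero]), h1, map_smul, hys]
        exact D.gen_par H (tau_mem D.me2 ((split Q V e f).smul_mem _ hy0.1) D.p2.qu
          (by rw [polar_smul_right, b2, smul_zero]))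
      rw [e1]
      refine D.cells_right H hp0 hQ0 (D.cells_left H hp0 hQ0 (mul_mem m5 m6) ?_)
        (mul_mem m4 (right q hq ⟨1, hqc⟩))
      -- the braid relation
      have hc1 : polar Q e y0 = 0 := hy0.1.2.1
      have hc3 : polar Q v2 f = 0 := (polar_comm ⇑Q _ _).trans hv2.1.2.2
      have A1 : r * s * r⁻¹ = tau π e y0 * tau π v2 (-f) * tau π e y0 := by
        have c1 := H.tau_conj r D.p1.qu a2
        have c2 := H.tau_conj r D.p2.qu
          (show polar Q e2 (-f) = 0 by rw [polar_neg_right, polar_comm, a3, neg_zero])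
        rw [re, show app (π r) f2 = y0 from r2] at c1
        rw [show app (π r) e2 = v2 from r1, map_neg, rf] at c2
        rw [← c1, ← c2, hs, sw]; group
      have A2 : s * r * s⁻¹ = tau π (-e) y0 * tau π v2 f * tau π (-e) y0 := by
        have c1 := H.tau_conj s D.p2.qu b2
        have c2 := H.tau_conj s hp3.qu
          (show polar Q v2 (-f2) = 0 by rw [polar_neg_right, polar_comm, b3, neg_zero])
        rw [h3, hys] at c1
        rw [D.core_fix H hv2, map_neg, h4, neg_neg] at c2
        rw [← c1, ← c2]; simp only [r, sw]; group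
      have A3 : s * r * s⁻¹ = (r * s * r⁻¹)⁻¹ := by
        rw [A1, A2, show (-e : ι → F) = (-1 : F) • e by rw [neg_one_smul], H.tau_smul D.p1.qu hc1,
          neg_one_smul, H.tau_neg D.p1.qu hc1, H.tau_neg hp3.qu hc3]
        group
      obtain ⟨d, hd, hinv⟩ := D.exists_inv H
      refine Or.inr (Or.inl ⟨r * d, mul_mem (D.gen_par H hr) (D.torus_par H hd),
        d⁻¹ * r⁻¹ * (s * s), hsq _ (mul_mem (inv_mem (D.torus_par H hd)) (inv_mem (D.gen_par H hr))), ?_⟩)
      calc s * r * s = (s * r * s⁻¹) * (s * s) := by group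
        _ = (r * s⁻¹ * r⁻¹) * (s * s) := by rw [A3]; group
        _ = _ := by rw [← hinv]; group
  · -- the line moves to an opposite one
    obtain ⟨hm, g1, g2, g3, g4⟩ := D.flp_facts H hp0 hQ0
    set w := β⁻¹ • v2
    have hw : w ∈ split Q (split Q V e f) e2 f2 := (split Q (split Q V e f) e2 f2).smul_mem _ hv2
    set q := (tau π e2 w * (flp π e2 f2 p0))⁻¹ * l
    have hq : q ∈ gen π (split Q V e f) :=
      mul_mem (inv_mem (mul_mem (tau_mem D.me2 hw.1 D.p2.qu hw.2.1) hm)) hl0
    have hqc : app (π q) e2 = (-β) • e2 := by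
      refine app_injective (π (tau π e2 w * (flp π e2 f2 p0))) ?_
      rw [map_mul (π) _ l, map_inv, app_mul, app_app_inv, map_smul, map_mul, app_mul, g1,
        H.map_tau D.p2.qu hw.2.1, app_eich D.p2.qu hw.2.1, polar_neg_left, D.p2.fu, polar_neg_left,
        hw.2.2]
      show v = _
      rw [ev]
      have hQw : Q w = -(α * β⁻¹) := by
        rw [QuadraticMap.map_smul, smul_eq_mul, show Q v2 = -(α * β) from eq_neg_of_add_eq_zero_right hQv2]
        field_simp
      rw [hQw]
      simp only [w]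
      match_scalars <;> field_simp <;> ring
    have hl1 : l = tau π e2 w * (flp π e2 f2 p0) * q := by simp only [q]; group
    set bb := app (π q) (b • f2)
    have hbb : bb ∈ split Q V e f := (H.gen_maps hq).2 ((split Q V e f).smul_mem _ D.mf2)
    obtain ⟨b', a0', ha0'', eb', -, m4⟩ := D.move_right H hp0 hQ0 hbb
    have hq1 : q * tau π e (b • f2) = tau π e bb * q := by
      have := H.tau_conj q D.p1.qu (show polar Q e (b • f2) = 0 by rw [polar_smul_right, a2, smul_zero])
      rw [(D.fix_ef H hq).1] at this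
      exact mul_inv_eq_iff_eq_mul.1 this
    have hn1 : (flp π e2 f2 p0) * tau π e (b' • f2) = tau π e (b' • -e2) * (flp π e2 f2 p0) := by
      have := H.tau_conj (flp π e2 f2 p0) D.p1.qu (show polar Q e (b' • f2) = 0 by rw [polar_smul_right, a2, smul_zero])
      rw [g3, map_smul, g2] at this
      exact mul_inv_eq_iff_eq_mul.1 this
    have e1 : s * l * tau π e (b • f2) * s =
        (s * tau π e2 w * s⁻¹) * (s * tau π e (b' • -e2) * s⁻¹) * n *
          ((s⁻¹ * tau π e a0' * s) * (s⁻¹ * q * s)) := by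
      calc s * l * tau π e (b • f2) * s = s * tau π e2 w * (flp π e2 f2 p0) * (q * tau π e (b • f2)) * s := by
            rw [hl1]; group
        _ = s * tau π e2 w * ((flp π e2 f2 p0) * tau π e (b' • f2)) * tau π e a0' * q * s := by
            rw [hq1, eb']; group
        _ = _ := by rw [hn1, hn, opp, ← hs]; group
    have m5 : s * tau π e2 w * s⁻¹ ∈ par π V e f e2 f2 := by
      rw [H.tau_conj s D.p2.qu hw.2.1, h3, D.core_fix H hw,
        show (-e : ι → F) = (-1 : F) • e by rw [neg_one_smul], H.tau_smul D.p1.qu hw.1.2.1]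
      exact D.tau_par H ((split Q V e f).smul_mem _ hw.1)
    have m6 : s * tau π e (b' • -e2) * s⁻¹ ∈ par π V e f e2 f2 := by
      have hu : polar Q e2 e = 0 := (polar_comm ⇑Q _ _).trans a1
      rw [H.tau_conj s D.p1.qu (by rw [polar_smul_right, polar_neg_right, a1, neg_zero, smul_zero]),
        h1, map_smul, map_neg, h3, neg_neg,
        H.tau_swap D.p2.qu (by rw [QuadraticMap.map_smul, D.p1.qu, smul_zero])
          (by rw [polar_smul_right, hu, smul_zero]),
        H.tau_smul D.p1.qu (by rw [polar_neg_right, a1, neg_zero])]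
      exact D.tau_par H ((split Q V e f).smul_mem _ (neg_mem D.me2))
    exact Or.inr (Or.inr ⟨_, mul_mem m5 m6, _, mul_mem m4 (right q hq ⟨-β, hqc⟩), by rw [e1]⟩)

/-- `s P n` lies in the cells. -/
theorem key_two {p : E} (hp : p ∈ par π V e f e2 f2) :
    InCells π V e f e2 f2 (opp π e f e2 f2 p0)
      (sw π e f e2 f2 * p * opp π e f e2 f2 p0) := by
  obtain ⟨a1, a2, a3, a4⟩ := D.orth H
  obtain ⟨h1, h2, h3, h4, -⟩ := D.sw_app H
  obtain ⟨aa, haa, ll, hll, tt, htt, ep⟩ := D.par_form H (inv_mem hp)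
  have e0 : p = tt⁻¹ * ll⁻¹ * tau π e (-aa) := by
    rw [H.tau_neg D.p1.qu haa.2.1, ← inv_inv p, ep]; group
  set s := sw π e f e2 f2 with hs
  set n := opp π e f e2 f2 p0 with hn
  obtain ⟨hm, g1, g2, g3, g4⟩ := D.flp_facts H hp0 hQ0
  set l := ll⁻¹
  have hl0 : l ∈ gen π (split Q V e f) := inv_mem hll
  have hla : l * tau π e (-aa) = tau π e (app (π l) (-aa)) * l := by
    have := H.tau_conj l D.p1.qu (show polar Q e (-aa) = 0 from (neg_mem haa : _ ∈ split Q V e f).2.1)
    rw [(D.fix_ef H hl0).1] at this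
    exact mul_inv_eq_iff_eq_mul.1 this
  set a' := app (π l) (-aa)
  have ha' : a' ∈ split Q V e f := (H.gen_maps hl0).2 (neg_mem haa)
  obtain ⟨b, a0, ha0, eb, m1, -⟩ := D.move_right H hp0 hQ0 ha'
  have eb' : tau π e a' = tau π e a0 * tau π e (b • f2) := by
    rw [eb, H.tau_add D.p1.qu (by rw [polar_smul_right, a2, smul_zero]) ha0.2.1,
      H.tau_add D.p1.qu ha0.2.1 (by rw [polar_smul_right, a2, smul_zero]), add_comm]
  have hln : n⁻¹ * l * n ∈ par π V e f e2 f2 := by
    have := H.gen_conj (g := n⁻¹) (V' := split Q V e f) (fun w hw => by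
      rw [map_inv]; exact D.opp_maps H hp0 hQ0 hw) hl0
    rw [inv_inv] at this
    exact D.gen_par H this
  have hy : s * tau π e (b • f2) * s⁻¹ = tau π e2 ((-b) • f) := by
    rw [H.tau_conj s D.p1.qu (by rw [polar_smul_right, a2, smul_zero]), h1, map_smul, h4,
      smul_neg, neg_smul]
  set q := s * s * (flp π e2 f2 p0)
  have hq : q ∈ par π V e f e2 f2 := mul_mem (D.sq_par H) (D.gen_par H hm)
  suffices core : InCells π V e f e2 f2 n (q⁻¹ * tau π e2 ((-b) • f) * q * s) by
    have e1 : s * p * n = (s * tt⁻¹ * s⁻¹) * (s * tau π e a0 * s⁻¹) * q *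
        (q⁻¹ * tau π e2 ((-b) • f) * q * s) * (n⁻¹ * l * n) := by
      calc s * p * n = s * tt⁻¹ * (l * tau π e (-aa)) * n := by rw [e0]; group
        _ = _ := by
          rw [hla, eb', ← hy]
          simp only [q]
          rw [hn, opp, ← hs]
          group
    rw [e1]
    exact D.cells_right H hp0 hQ0 (D.cells_left H hp0 hQ0
      (mul_mem (mul_mem (D.torus_sw H (inv_mem htt)) m1) hq) core) hln
  -- the conjugated root element
  have hye : polar Q e2 ((-b) • f) = 0 := by rw [polar_smul_right, polar_comm, a3, smul_zero]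
  have hconj := H.tau_conj q⁻¹ D.p2.qu hye
  rw [inv_inv] at hconj
  have q1 : app (π q⁻¹) e2 = f2 := by
    refine app_injective (π q) ?_
    rw [map_inv, app_app_inv]
    simp only [q, map_mul, app_mul, g2, map_neg, h3, h1, neg_neg]
  have q2 : app (π q⁻¹) ((-b) • f) = b • f := by
    refine app_injective (π q) ?_
    rw [map_inv, app_app_inv]
    simp only [q, map_mul, app_mul, map_smul, g4, h2, h4, smul_neg, neg_smul]
  rw [hconj, q1, q2]
  -- flip it to an upper root element
  have hflip : tau π f2 (b • f) = (flp π e2 f2 p0) * tau π e2 ((-b) • f) * (flp π e2 f2 p0)⁻¹ := by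
    rw [H.tau_conj (flp π e2 f2 p0) D.p2.qu hye, g1, map_smul, g4, show (-f2 : ι → F) = (-1 : F) • f2 by rw [neg_one_smul],
      H.tau_smul D.p2.qf (by rw [polar_smul_right, polar_comm, a4, smul_zero]), smul_smul,
      neg_one_mul, neg_neg]
  rcases D.yroot H (-b) with h | ⟨d, hd, a, h⟩
  · rw [hflip, show (flp π e2 f2 p0) * tau π e2 ((-b) • f) * (flp π e2 f2 p0)⁻¹ * s = (flp π e2 f2 p0) * tau π e2 ((-b) • f) * (flp π e2 f2 p0)⁻¹ * s * 1 by
      group]
    exact Or.inr (Or.inl ⟨_, mul_mem (mul_mem (D.gen_par H hm) h) (inv_mem (D.gen_par H hm)), 1,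
      one_mem _, rfl⟩)
  · have hn2 : (flp π e2 f2 p0) * tau π e (a • f2) * (flp π e2 f2 p0)⁻¹ = tau π e (a • -e2) := by
      rw [H.tau_conj (flp π e2 f2 p0) D.p1.qu (by rw [polar_smul_right, a2, smul_zero]), g3, map_smul, g2]
    have m3 : s⁻¹ * tau π e (a • -e2) * s ∈ par π V e f e2 f2 := by
      have hx : polar Q e (a • -e2) = 0 := by rw [polar_smul_right, polar_neg_right, a1, neg_zero, smul_zero]
      have := H.tau_conj s⁻¹ D.p1.qu hx
      rw [inv_inv] at this
      obtain ⟨i1, -, i3, -⟩ := D.sw_inv_app H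
      rw [this, map_inv, i1, map_smul, map_neg, i3,
        H.tau_swap (by rw [QuadraticMap.map_neg, D.p2.qu]) (by rw [QuadraticMap.map_smul, QuadraticMap.map_neg, D.p1.qu, smul_zero])
          (by rw [polar_neg_left, polar_smul_right, polar_neg_right, polar_comm, a1, neg_zero, smul_zero, neg_zero]),
        neg_neg, H.tau_smul (by rw [QuadraticMap.map_neg, D.p1.qu]) (by rw [polar_neg_left, a1, neg_zero]),
        show (-e : ι → F) = (-1 : F) • e by rw [neg_one_smul],
        H.tau_smul D.p1.qu (by rw [polar_smul_right, a1, smul_zero])]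
      exact D.tau_par H ((split Q V e f).smul_mem _ ((split Q V e f).smul_mem _ D.me2))
    have e2' : tau π f2 (b • f) * s = (tau π e (a • -e2) * ((flp π e2 f2 p0) * d)) *
        (s * (d⁻¹ * (flp π e2 f2 p0)⁻¹) * s) * (s⁻¹ * tau π e (a • -e2) * s) := by
      rw [hflip, h, ← hn2, ← hs]; group
    rw [e2']
    exact D.cells_right H hp0 hQ0 (D.cells_left H hp0 hQ0
      (mul_mem (D.tau_par H ((split Q V e f).smul_mem _ (neg_mem D.me2)))
        (mul_mem (D.gen_par H hm) (D.torus_par H hd)))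
      (D.key_one H hp0 hQ0 (mul_mem (inv_mem (D.torus_par H hd)) (inv_mem (D.gen_par H hm))))) m3

theorem cells_sw {x : E} (hx : InCells π V e f e2 f2 (opp π e f e2 f2 p0) x) :
    InCells π V e f e2 f2 (opp π e f e2 f2 p0) (sw π e f e2 f2 * x) := by
  rcases hx with hx | ⟨a, ha, b, hb, rfl⟩ | ⟨a, ha, b, hb, rfl⟩
  · exact Or.inr (Or.inl ⟨1, one_mem _, x, hx, by group⟩)
  · have := D.cells_right H hp0 hQ0 (D.key_one H hp0 hQ0 ha) hb
    rw [← mul_assoc, ← mul_assoc]
    exact this
  · have := D.cells_right H hp0 hQ0 (D.key_two H hp0 hQ0 ha) hb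
    rw [← mul_assoc, ← mul_assoc]
    exact this

/-- The parabolic and the exchange generate everything. -/
theorem gen_le : gen π V ≤ Subgroup.closure ((par π V e f e2 f2 : Set E) ∪ {sw π e f e2 f2}) := by
  obtain ⟨a1, a2, a3, a4⟩ := D.orth H
  set G1 := Subgroup.closure ((par π V e f e2 f2 : Set E) ∪ {sw π e f e2 f2})
  have hP : par π V e f e2 f2 ≤ G1 := fun x hx => Subgroup.subset_closure (Or.inl hx)
  have hs : sw π e f e2 f2 ∈ G1 := Subgroup.subset_closure (Or.inr rfl)
  set n := opp π e f e2 f2 p0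
  have hn : n ∈ G1 := mul_mem (mul_mem hs (hP (D.gen_par H (D.flp_facts H hp0 hQ0).1))) hs
  obtain ⟨o1, o2⟩ := D.opp_app H hp0 hQ0
  have hG1 : G1 ≤ gen π V := (Subgroup.closure_le _).2 (Set.union_subset (fun x hx => D.par_le H hx)
    (Set.singleton_subset_iff.2 (D.sw_mem H)))
  -- opposite points
  have opp' : ∀ u ∈ V, Q u = 0 → polar Q e u ≠ 0 → ∃ g ∈ G1, ∃ c : F, app (π g) e = c • u := by
    intro u hu hQu hβ
    obtain ⟨p, hp, eu⟩ := exists_decomp D.p1 D.me D.mf hu
    set β := polar Q e u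
    set α := polar Q f u
    have hk : α * β + Q p = 0 := by
      have h := hQu
      rw [eu] at h
      simpa [QuadraticMap.map_add ⇑Q, QuadraticMap.map_smul, polar_add_left, polar_smul_left,
        polar_smul_right, D.p1.qu, D.p1.qf, D.p1.uf, hp.2.1, hp.2.2, mul_comm] using h
    have ha : β⁻¹ • p ∈ split Q V e f := (split Q V e f).smul_mem _ hp
    refine ⟨tau π e (β⁻¹ • p) * n, mul_mem (hP (D.tau_par H ha)) hn, β⁻¹, ?_⟩
    rw [map_mul, app_mul, o1, H.map_tau D.p1.qu ha.2.1, app_eich D.p1.qu ha.2.1, D.p1.fu, ha.2.2,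
      QuadraticMap.map_smul, smul_eq_mul, show Q p = -(α * β) from eq_neg_of_add_eq_zero_right hk, eu]
    match_scalars <;> field_simp <;> ring
  have reach : ∀ u ∈ V, Q u = 0 → u ≠ 0 → ∃ g ∈ G1, ∃ c : F, app (π g) e = c • u := by
    intro u hu hQu hu0
    by_cases hβ : polar Q e u = 0
    swap
    · exact opp' u hu hQu hβ
    obtain ⟨p, hp, eu⟩ := exists_decomp D.p1 D.me D.mf hu
    rw [hβ, zero_smul, add_zero] at eu
    by_cases hp0' : p = 0
    · rw [hp0', add_zero] at eu
      refine ⟨1, one_mem _, (polar Q f u)⁻¹, ?_⟩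
      rw [map_one, app_one]
      have hα : polar Q f u ≠ 0 := fun h0 => hu0 (by rw [eu, h0, zero_smul])
      have h := congrArg (fun z => (polar Q f u)⁻¹ • z) eu
      simp only [smul_smul, inv_mul_cancel₀ hα, one_smul] at h
      exact h.symm
    have hQp : Q p = 0 := by
      have h := hQu
      rw [eu] at h
      simpa [QuadraticMap.map_add ⇑Q, QuadraticMap.map_smul, polar_smul_left, D.p1.qu, hp.2.1] using h
    obtain ⟨y, hy, hpy⟩ := exists_partner_in (good_split D.good D.p1 D.me D.mf) hp hQp hp0'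
    have hy' : app (π n)⁻¹ y ∈ split Q V e f := D.opp_maps H hp0 hQ0 hy
    set g0 := n * tau π e (app (π n)⁻¹ y) * n⁻¹
    have hg0 : g0 ∈ G1 := mul_mem (mul_mem hn (hP (D.tau_par H hy'))) (inv_mem hn)
    have eg : g0 = tau π f y := by
      simp only [g0]
      rw [H.tau_conj n D.p1.qu hy'.2.1, o1, app_app_inv]
    set u' := app (π g0) u
    have hu' : u' ∈ V := (H.gen_maps (hG1 hg0)).2 hu
    have hne : polar Q e u' ≠ 0 := by
      have h1 : polar Q u y = 1 := by
        rw [eu, polar_add_left, polar_smul_left, hy.2.1, hpy.uf, smul_zero, zero_add]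
      simp only [u', eg]
      rw [H.map_tau D.p1.qf hy.2.2, app_eich D.p1.qf hy.2.2, polar_add_right, polar_add_right,
        polar_smul_right, polar_smul_right, hβ, hy.2.1, D.p1.uf, h1, hpy.qf]
      simp
    obtain ⟨g, hg, c, hc⟩ := opp' u' hu' (by rw [Q_app, hQu]) hne
    refine ⟨g0⁻¹ * g, mul_mem (inv_mem hg0) hg, c, ?_⟩
    rw [map_mul, app_mul, hc, map_smul, map_inv, app_inv_app]
  refine (Subgroup.closure_le _).2 ?_
  rintro _ ⟨u, a, hu, ha, hQu, hua, rfl⟩
  rcases eq_or_ne u 0 with rfl | hu0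
  · rw [H.tau_zero_left]; exact one_mem _
  obtain ⟨g, hg, c, hc⟩ := reach u hu hQu hu0
  have hc0 : c ≠ 0 := fun h => D.p1.ne (app_injective (π g) (by rw [hc, h, zero_smul, map_zero]))
  set a' := app (π g)⁻¹ a
  have ha' : a' ∈ V := by simp only [a', ← map_inv]; exact (H.gen_maps (inv_mem (hG1 hg))).2 ha
  have hue : app (π g)⁻¹ u = c⁻¹ • e := by
    refine app_injective (π g) ?_
    rw [app_app_inv, map_smul, hc, smul_smul, inv_mul_cancel₀ hc0, one_smul]
  have hea : polar Q e a' = 0 := by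
    rw [← polar_app (π g) e, app_app_inv, hc, polar_smul_left, hua, smul_zero]
  obtain ⟨p, hp, ea⟩ := exists_decomp D.p1 D.me D.mf ha'
  rw [hea, zero_smul, add_zero, add_comm] at ea
  have e1 : tau π u a = g * tau π e (c⁻¹ • p) * g⁻¹ := by
    have hcp : polar Q e (c⁻¹ • p) = 0 := by rw [polar_smul_right, hp.2.1, smul_zero]
    have hup : polar Q u (app (π g) p) = 0 := by
      have h := polar_app (π g) e p
      rw [hc, hp.2.1, polar_smul_left, smul_eq_zero] at h
      exact h.resolve_left hc0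
    have ha_eq : a = app (π g) p + (polar Q f a' * c) • u := by
      rw [← app_app_inv (π g) a, show app (π g)⁻¹ a = a' from rfl]
      conv_lhs => rw [ea]
      rw [map_add, map_smul, hc, smul_smul]
    rw [H.tau_conj g D.p1.qu hcp, hc, map_smul,
      H.tau_smul hQu (by rw [polar_smul_right, hup, smul_zero]), smul_smul, mul_inv_cancel₀ hc0,
      one_smul]
    conv_lhs => rw [ha_eq]
    exact H.tau_add_smul hQu hup _
  rw [e1]
  exact mul_mem (mul_mem hg (hP (D.tau_par H ((split Q V e f).smul_mem _ hp)))) (inv_mem hg)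

theorem mem_cells {x : E} (hx : x ∈ gen π V) : InCells π V e f e2 f2 (opp π e f e2 f2 p0) x := by
  have hx' := D.gen_le H hp0 hQ0 hx
  induction hx' using Subgroup.closure_induction_left with
  | one => exact Or.inl (one_mem _)
  | mul_left g hg y hy ih =>
    rcases hg with hg | hg
    · exact D.cells_left H hp0 hQ0 hg (ih (by
        have := mul_mem (inv_mem (D.par_le H hg)) hx
        rwa [inv_mul_cancel_left] at this))
    · obtain rfl : g = sw π e f e2 f2 := hg
      exact D.cells_sw H hp0 hQ0 (ih (by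
        have := mul_mem (inv_mem (D.sw_mem H)) hx
        rwa [inv_mul_cancel_left] at this))
  | inv_mul_cancel g hg y hy ih =>
    rcases hg with hg | hg
    · exact D.cells_left H hp0 hQ0 (inv_mem hg) (ih (by
        have := mul_mem (D.par_le H hg) hx
        rwa [mul_inv_cancel_left] at this))
    · obtain rfl : g = sw π e f e2 f2 := hg
      obtain ⟨d, hd, hinv⟩ := D.exists_inv H
      have hy' := ih (by
        have := mul_mem (D.sw_mem H) hx
        rwa [mul_inv_cancel_left] at this)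
      have hdP := D.torus_par H hd
      have := D.cells_left H hp0 hQ0 hdP (D.cells_sw H hp0 hQ0 (D.cells_left H hp0 hQ0 (inv_mem hdP) hy'))
      rw [← hinv, show d * sw π e f e2 f2 * d⁻¹ * y = d * (sw π e f e2 f2 * (d⁻¹ * y)) by group]
      exact this

/-- A lift fixing `e` is one over `e` times one inside the complement. -/
theorem fix_decomp {x : E} (hx : x ∈ gen π V) (hfix : app (π x) e = e) :
    ∃ a ∈ split Q V e f, ∃ l ∈ gen π (split Q V e f), x = tau π e a * l := by
  rcases D.mem_cells H hp0 hQ0 hx with hx | ⟨p, hp, q, hq, rfl⟩ | ⟨p, hp, q, hq, rfl⟩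
  · obtain ⟨a, ha, l, hl, t, ⟨ht, ⟨c, hc, t1⟩, c', hc', t2⟩, rfl⟩ := D.par_form H hx
    have hA : app (π (tau π e a)) e = e := by
      rw [H.map_tau D.p1.qu ha.2.1, app_eich D.p1.qu ha.2.1, polar_self_zero D.p1.qu, ha.2.1]; simp
    rw [map_mul, map_mul, app_mul, app_mul, t1, map_smul, (D.fix_ef H hl).1, map_smul, hA] at hfix
    have hc1 : c = 1 := by
      refine smul_left_injective F D.p1.ne ?_
      show c • e = (1 : F) • e
      rw [hfix, one_smul]
    have hc'1 : c' = 1 := by
      have := polar_app (π t) e f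
      rw [t1, t2, hc1, one_smul, polar_smul_right, D.p1.uf, smul_eq_mul, mul_one] at this
      exact this
    rw [hc1, one_smul] at t1
    rw [hc'1, one_smul] at t2
    exact ⟨a, ha, l * t, mul_mem hl (D.fix_mem H ht t1 t2), by rw [mul_assoc]⟩
  all_goals
    exfalso
    obtain ⟨c, hc, hqe⟩ := D.par_line H hq
    obtain ⟨d, hd, hpe⟩ := D.par_line H hp
    rw [map_mul, map_mul, app_mul, app_mul, hqe, map_smul, map_smul] at hfix
  · obtain ⟨h1, -⟩ := D.sw_app H
    obtain ⟨a1, a2, -, -⟩ := D.orth H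
    rw [h1] at hfix
    have : app (π p) (c • e2) = app (π p) (d⁻¹ • e) := by
      rw [map_smul, hfix, map_smul, hpe, smul_smul, inv_mul_cancel₀ hd, one_smul]
    have h := congrArg (fun z => polar Q z f) (app_injective _ this)
    simp only [polar_smul_left, polar_comm (f := ⇑Q) e2 f, (D.orth H).2.2.1, D.p1.uf, smul_eq_mul,
      mul_zero, mul_one] at h
    exact inv_ne_zero hd h.symm
  · obtain ⟨o1, -⟩ := D.opp_app H hp0 hQ0
    rw [o1] at hfix
    have : app (π p) (c • f) = app (π p) (d⁻¹ • e) := by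
      rw [map_smul, hfix, map_smul, hpe, smul_smul, inv_mul_cancel₀ hd, one_smul]
    have h := congrArg (fun z => polar Q z f) (app_injective _ this)
    simp only [polar_smul_left, polar_self_zero D.p1.qf, D.p1.uf, smul_eq_mul, mul_zero, mul_one] at h
    exact inv_ne_zero hd h.symm

/-- Kernel elements descend. -/
theorem ker_descend {x : E} (hx : x ∈ gen π V) (hk : π x = 1) : x ∈ gen π (split Q V e f) := by
  obtain ⟨a, ha, l, hl, rfl⟩ := D.fix_decomp H hp0 hQ0 hx (by rw [hk, app_one])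
  have h := congrArg (fun g => app g f) hk
  rw [map_mul, app_mul, app_one, (D.fix_ef H hl).2, H.map_tau D.p1.qu ha.2.1,
    app_eich D.p1.qu ha.2.1, D.p1.fu, one_smul, ha.2.2] at h
  have h' : a + (-(0 : F) - Q a * 1) • e = 0 := by rwa [add_assoc, add_eq_left] at h
  have hQa : Q a = 0 := by
    have := congrArg (fun z => polar Q z f) h'
    simpa [polar_add_left, polar_smul_left, D.p1.uf, polar_comm (f := ⇑Q) a f, ha.2.2] using this
  have ha0 : a = 0 := by simpa [hQa] using h'
  rw [ha0, H.tau_zero D.p1.qu, one_mul]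
  exact hl

end Frame

end CfsgLib.MinusMult
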