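import Cfsg.Agent.Lib.MinusMult.Tau

/-!
The group generated by the canonical lifts inside a subspace, and its elements fixing a line.
-/

set_option autoImplicit false
set_option linter.unusedSectionVars false

namespace CfsgLib.MinusMult

open QuadraticMap CfsgLib.Orth CfsgLib.POmega

variable {ι : Type} [Fintype ι] [DecidableEq ι] {F : Type*} [Field F] [Fintype F]
  {Q : QuadraticForm F (ι → F)} {E : Type*} [Group E] {π : E →* O Q}

/-- The lifts inside a subspace. -/
def gen (π : E →* O Q) (V : Submodule F (ι → F)) : Subgroup E :=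
  Subgroup.closure {g | ∃ u a, u ∈ V ∧ a ∈ V ∧ Q u = 0 ∧ polar Q u a = 0 ∧ g = tau π u a}

theorem tau_mem {V : Submodule F (ι → F)} {u a : ι → F} (hu : u ∈ V) (ha : a ∈ V) (hQ : Q u = 0)
    (hua : polar Q u a = 0) : tau π u a ∈ gen π V :=
  Subgroup.subset_closure ⟨u, a, hu, ha, hQ, hua, rfl⟩

theorem gen_mono {V V' : Submodule F (ι → F)} (h : V ≤ V') : gen π V ≤ gen π V' :=
  Subgroup.closure_mono fun _ ⟨u, a, hu, ha, h1, h2, h3⟩ => ⟨u, a, h hu, h ha, h1, h2, h3⟩

/-- The element exchanging two pairs. -/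
noncomputable def sw (π : E →* O Q) (e f e2 f2 : ι → F) : E :=
  tau π e f2 * tau π e2 (-f) * tau π e f2

/-- The element exchanging the two lines of a pair. -/
noncomputable def flp (π : E →* O Q) (e f p : ι → F) : E :=
  tau π f ((Q p)⁻¹ • p) * tau π e p * tau π f ((Q p)⁻¹ • p)

namespace Ctx

variable (H : Ctx π)
include H

theorem gen_fix {V : Submodule F (ι → F)} {x : E} (hx : x ∈ gen π V) {t : ι → F}
    (ht : ∀ v ∈ V, polar Q t v = 0) : app (π x) t = t := by
  induction hx using Subgroup.closure_induction with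
  | mem g hg =>
    obtain ⟨u, a, hu, ha, hQ, hua, rfl⟩ := hg
    rw [H.map_tau hQ hua, app_eich hQ hua, ht u hu, ht a ha]
    simp
  | one => rw [map_one, app_one]
  | mul g k _ _ hg hk => rw [map_mul, app_mul, hk, hg]
  | inv g _ hg => conv_lhs => rw [← hg]; rw [map_inv, app_inv_app]

theorem gen_maps {V : Submodule F (ι → F)} {x : E} (hx : x ∈ gen π V) {v : ι → F} :
    app (π x) v ∈ V ↔ v ∈ V := by
  induction hx using Subgroup.closure_induction generalizing v with
  | mem g hg =>
    obtain ⟨u, a, hu, ha, hQ, hua, rfl⟩ := hg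
    rw [H.map_tau hQ hua, app_eich hQ hua, add_assoc]
    exact Submodule.add_mem_iff_left V (add_mem (V.smul_mem _ ha) (V.smul_mem _ hu))
  | one => rw [map_one, app_one]
  | mul g k _ _ hg hk => rw [map_mul, app_mul, hg, hk]
  | inv g _ hg => rw [map_inv, ← hg (v := app (π g)⁻¹ v), app_app_inv]

theorem gen_conj {V V' : Submodule F (ι → F)} {g : E} (hg : ∀ v ∈ V, app (π g) v ∈ V') {x : E}
    (hx : x ∈ gen π V) : g * x * g⁻¹ ∈ gen π V' := by
  induction hx using Subgroup.closure_induction with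
  | mem k hk =>
    obtain ⟨u, a, hu, ha, hQ, hua, rfl⟩ := hk
    rw [H.tau_conj g hQ hua]
    exact tau_mem (hg u hu) (hg a ha) (by rw [Q_app, hQ]) (by rw [polar_app, hua])
  | one => simp
  | mul a b _ _ ha hb =>
    rw [show g * (a * b) * g⁻¹ = (g * a * g⁻¹) * (g * b * g⁻¹) by group]
    exact mul_mem ha hb
  | inv a _ ha =>
    rw [show g * a⁻¹ * g⁻¹ = (g * a * g⁻¹)⁻¹ by group]
    exact inv_mem ha

theorem commute_tau {g : E} {u a : ι → F} (hu : Q u = 0) (ha : polar Q u a = 0)
    (h1 : app (π g) u = u) (h2 : app (π g) a = a) : g * tau π u a * g⁻¹ = tau π u a := by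
  rw [H.tau_conj g hu ha, h1, h2]

theorem app_sw {e f e2 f2 : ι → F} (h : Pr Q e f) (h2 : Pr Q e2 f2) (a1 : polar Q e e2 = 0)
    (a2 : polar Q e f2 = 0) (a3 : polar Q f e2 = 0) (a4 : polar Q f f2 = 0) :
    app (π (sw π e f e2 f2)) e = e2 ∧ app (π (sw π e f e2 f2)) f = f2 ∧
      app (π (sw π e f e2 f2)) e2 = -e ∧ app (π (sw π e f e2 f2)) f2 = -f ∧
      ∀ t, polar Q t e = 0 → polar Q t f = 0 → polar Q t e2 = 0 → polar Q t f2 = 0 →
        app (π (sw π e f e2 f2)) t = t := by
  have b1 : polar Q e2 e = 0 := by rw [polar_comm, a1]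
  have b2 : polar Q f2 e = 0 := by rw [polar_comm, a2]
  have b3 : polar Q e2 f = 0 := by rw [polar_comm, a3]
  have b4 : polar Q f2 f = 0 := by rw [polar_comm, a4]
  have hy : polar Q e2 (-f) = 0 := by rw [polar_neg_right, b3, neg_zero]
  refine ⟨?_, ?_, ?_, ?_, fun t c1 c2 c3 c4 => ?_⟩ <;>
    simp only [sw, map_mul, H.map_tau h.qu a2, H.map_tau h2.qu hy, app_mul, app_eich h.qu a2,
      app_eich h2.qu hy, map_add, map_smul, map_neg, polar_neg_right, polar_neg_left, QuadraticMap.map_neg, h.qf,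
      h2.qf, polar_self', h.qu, h2.qu, h.uf, h.fu, h2.uf, h2.fu, a1, a2, a3, a4, b1, b2, b3, b4,
      polar_add_left, polar_smul_left, smul_eq_mul]
  · module
  · module
  · module
  · module
  · simp [c1, c2, c3, c4]

theorem app_flp {e f p : ι → F} (h : Pr Q e f) (hep : polar Q e p = 0) (hfp : polar Q f p = 0) :
    π (flp π e f p) = flipO Q e f p := by
  have hfp' : polar Q f ((Q p)⁻¹ • p) = 0 := by rw [polar_smul_right, hfp, smul_zero]
  simp only [flp, flipO, map_mul, H.map_tau h.qu hep, H.map_tau h.qf hfp']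

/-- An element fixing the line of `e` is a lift over `e` times one fixing both lines. -/
theorem line_stab {V : Submodule F (ι → F)} {e f : ι → F} (h : Pr Q e f) (he : e ∈ V)
    (hf : f ∈ V) {x : E} (hx : x ∈ gen π V) {c : F} (hc : app (π x) e = c • e) :
    ∃ a ∈ split Q V e f, ∃ t ∈ gen π V, x = tau π e a * t ∧ app (π t) e = c • e ∧
      app (π t) f = c⁻¹ • f := by
  have hc0 : c ≠ 0 := fun h0 => h.ne (app_injective (π x) (by rw [hc, h0, zero_smul, map_zero]))
  set v := app (π x) f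
  have hv : v ∈ V := (H.gen_maps hx).2 hf
  have hQv : Q v = 0 := by rw [Q_app, h.qf]
  have hev : c * polar Q e v = 1 := by
    have := polar_app (π x) e f
    rwa [h.uf, hc, polar_smul_left, smul_eq_mul] at this
  obtain ⟨p, hp, ev⟩ := exists_decomp h he hf (V.smul_mem c hv)
  rw [polar_smul_right (y := v) (x := e), smul_eq_mul, hev, one_smul] at ev
  have hk : polar Q f (c • v) + Q p = 0 := by
    have h0 : Q (c • v) = 0 := by rw [QuadraticMap.map_smul, hQv, smul_zero]
    rw [ev] at h0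
    simpa [QuadraticMap.map_add ⇑Q, QuadraticMap.map_smul, polar_add_left, polar_smul_left, h.uf,
      hp.2.1, hp.2.2, h.qu, h.qf] using h0
  refine ⟨p, hp, (tau π e p)⁻¹ * x, mul_mem (inv_mem (tau_mem he hp.1 h.qu hp.2.1)) hx,
    (mul_inv_cancel_left _ _).symm, ?_, ?_⟩
  · rw [map_mul, app_mul, hc, map_inv, map_smul]
    congr 1
    conv_rhs => rw [← app_inv_app (π (tau π e p)) e]
    rw [H.map_tau h.qu hp.2.1, app_eich h.qu hp.2.1, polar_self_zero h.qu, hp.2.1]
    simp
  · refine app_injective (π (tau π e p)) ?_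
    rw [map_mul, app_mul, map_inv, app_app_inv, map_smul, H.map_tau h.qu hp.2.1,
      app_eich h.qu hp.2.1, h.fu, hp.2.2]
    refine smul_right_injective _ hc0 ?_
    show c • v = c • c⁻¹ • _
    rw [smul_smul, mul_inv_cancel₀ hc0, one_smul, ev,
      show polar Q f (c • v) = -Q p from eq_neg_of_add_eq_zero_left hk]
    module

end Ctx

end CfsgLib.MinusMult
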