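import Cfsg.Agent.Lib.POmega.Basic
import Mathlib.Tactic.Module
import Mathlib.Tactic.LinearCombination

/-!
Hyperbolic pairs, their complements, and some isometries built from Eichler transformations.
-/

set_option autoImplicit false
set_option linter.unusedSectionVars false

namespace CfsgLib.MinusMult

open QuadraticMap CfsgLib.Orth CfsgLib.POmega

variable {ι : Type} [Fintype ι] [DecidableEq ι] {F : Type*} [Field F]
  {Q : QuadraticForm F (ι → F)}

theorem polar_self_zero {u : ι → F} (hu : Q u = 0) : polar Q u u = 0 := by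
  rw [polar_self', hu, mul_zero]

/-- A hyperbolic pair. -/
structure Pr (Q : QuadraticForm F (ι → F)) (u f : ι → F) : Prop where
  qu : Q u = 0
  qf : Q f = 0
  uf : polar Q u f = 1

theorem Pr.symm {u f : ι → F} (h : Pr Q u f) : Pr Q f u :=
  ⟨h.qf, h.qu, by rw [polar_comm, h.uf]⟩

theorem Pr.fu {u f : ι → F} (h : Pr Q u f) : polar Q f u = 1 := h.symm.uf

theorem Pr.ne {u f : ι → F} (h : Pr Q u f) : u ≠ 0 := fun h0 => by simpa [h0] using h.uf

theorem Pr.smul {u f : ι → F} (h : Pr Q u f) {t : F} (ht : t ≠ 0) : Pr Q (t • u) (t⁻¹ • f) :=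
  ⟨by rw [QuadraticMap.map_smul, h.qu, smul_zero], by rw [QuadraticMap.map_smul, h.qf, smul_zero],
    by rw [polar_smul_left, polar_smul_right, h.uf]; simp [ht]⟩

/-- The orthogonal complement of a pair inside a subspace. -/
def split (Q : QuadraticForm F (ι → F)) (V : Submodule F (ι → F)) (u f : ι → F) :
    Submodule F (ι → F) where
  carrier := {x | x ∈ V ∧ polar Q u x = 0 ∧ polar Q f x = 0}
  add_mem' := fun hx hy => ⟨add_mem hx.1 hy.1, by rw [polar_add_right, hx.2.1, hy.2.1, add_zero],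
    by rw [polar_add_right, hx.2.2, hy.2.2, add_zero]⟩
  zero_mem' := ⟨zero_mem V, by simp, by simp⟩
  smul_mem' := fun c _ hx => ⟨V.smul_mem c hx.1, by rw [polar_smul_right, hx.2.1, smul_zero],
    by rw [polar_smul_right, hx.2.2, smul_zero]⟩

theorem mem_split {V : Submodule F (ι → F)} {u f x : ι → F} :
    x ∈ split Q V u f ↔ x ∈ V ∧ polar Q u x = 0 ∧ polar Q f x = 0 := Iff.rfl

theorem split_le (V : Submodule F (ι → F)) (u f : ι → F) : split Q V u f ≤ V := fun _ h => h.1

/-- A subspace on which the polar form is non-degenerate. -/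
def Good (Q : QuadraticForm F (ι → F)) (V : Submodule F (ι → F)) : Prop :=
  ∀ x ∈ V, x ≠ 0 → ∃ y ∈ V, polar Q x y = 1

theorem good_top (hQ : Q.polarBilin.Nondegenerate) : Good Q ⊤ := fun _ _ hx0 => by
  obtain ⟨y, hy⟩ := exists_polar_eq_one hQ hx0
  exact ⟨y, trivial, hy⟩

theorem exists_decomp {V : Submodule F (ι → F)} {u f : ι → F} (h : Pr Q u f) (hu : u ∈ V)
    (hf : f ∈ V) {x : ι → F} (hx : x ∈ V) :
    ∃ p ∈ split Q V u f, x = polar Q f x • u + polar Q u x • f + p := by
  refine ⟨x - polar Q f x • u - polar Q u x • f,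
    ⟨sub_mem (sub_mem hx (V.smul_mem _ hu)) (V.smul_mem _ hf), ?_, ?_⟩, by abel⟩
  · simp [polar_sub_right, polar_smul_right, polar_self_zero h.qu, h.uf]
  · simp [polar_sub_right, polar_smul_right, polar_self_zero h.qf, h.fu]

theorem good_split {V : Submodule F (ι → F)} (hV : Good Q V) {u f : ι → F} (h : Pr Q u f)
    (hu : u ∈ V) (hf : f ∈ V) : Good Q (split Q V u f) := fun x hx hx0 => by
  obtain ⟨y, hy, hxy⟩ := hV x hx.1 hx0
  obtain ⟨p, hp, e⟩ := exists_decomp h hu hf hy
  refine ⟨p, hp, ?_⟩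
  rw [e, polar_add_right, polar_add_right, polar_smul_right, polar_smul_right,
    polar_comm (f := ⇑Q) x u, hx.2.1, polar_comm (f := ⇑Q) x f, hx.2.2] at hxy
  simpa using hxy

theorem exists_partner_in {V : Submodule F (ι → F)} (hV : Good Q V) {u : ι → F} (hu : u ∈ V)
    (hQu : Q u = 0) (hu0 : u ≠ 0) : ∃ f ∈ V, Pr Q u f := by
  obtain ⟨y, hy, huy⟩ := hV u hu hu0
  refine ⟨y + (-Q y) • u, add_mem hy (V.smul_mem _ hu), hQu, ?_, ?_⟩
  · simp [QuadraticMap.map_add ⇑Q, QuadraticMap.map_smul, polar_smul_right,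
      polar_comm (f := ⇑Q) y u, huy, hQu]
  · simp [polar_add_right, polar_smul_right, polar_self_zero hQu, huy]

/-- Every vector is a sum of three singular ones when there is a pair. -/
theorem exists_sing_sum {V : Submodule F (ι → F)} {u f : ι → F} (h : Pr Q u f) (hu : u ∈ V)
    (hf : f ∈ V) {x : ι → F} (hx : x ∈ V) :
    ∃ a ∈ V, ∃ b ∈ V, ∃ c ∈ V, Q a = 0 ∧ Q b = 0 ∧ Q c = 0 ∧ x = a + b + c := by
  obtain ⟨p, hp, e⟩ := exists_decomp h hu hf hx
  refine ⟨(polar Q f x + Q p) • u, V.smul_mem _ hu, (polar Q u x - 1) • f, V.smul_mem _ hf,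
    p + f + (-Q p) • u, add_mem (add_mem hp.1 hf) (V.smul_mem _ hu), ?_, ?_, ?_, ?_⟩
  · rw [QuadraticMap.map_smul, h.qu, smul_zero]
  · rw [QuadraticMap.map_smul, h.qf, smul_zero]
  · simp [QuadraticMap.map_add ⇑Q, QuadraticMap.map_smul, polar_smul_right, polar_add_left,
      polar_comm (f := ⇑Q) p u, polar_comm (f := ⇑Q) p f, hp.2.1, hp.2.2, h.qu, h.qf, h.fu]
  · linear_combination (norm := module) e

variable [Fintype F]

theorem finrank_split {V : Submodule F (ι → F)} {u f : ι → F} (h : Pr Q u f) (hu : u ∈ V)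
    (hf : f ∈ V) : Module.finrank F V ≤ Module.finrank F (split Q V u f) + 2 := by
  have hle : V ≤ split Q V u f ⊔ Submodule.span F (Set.range ![u, f]) := fun x hx => by
    obtain ⟨p, hp, e⟩ := exists_decomp h hu hf hx
    refine Submodule.mem_sup.2 ⟨p, hp, polar Q f x • u + polar Q u x • f, ?_, by rw [add_comm p]; exact e.symm⟩
    exact add_mem (Submodule.smul_mem _ _ (Submodule.subset_span ⟨0, rfl⟩))
      (Submodule.smul_mem _ _ (Submodule.subset_span ⟨1, rfl⟩))
  have h1 := Submodule.finrank_mono hle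
  have h2 := Submodule.finrank_add_le_finrank_add_finrank (split Q V u f)
    (Submodule.span F (Set.range ![u, f]))
  have h3 := finrank_range_le_card (R := F) ![u, f]
  rw [Set.finrank, Fintype.card_fin] at h3
  omega

theorem finrank_top_fun : Module.finrank F (⊤ : Submodule F (ι → F)) = Fintype.card ι := by
  rw [finrank_top, Module.finrank_fintype_fun_eq_card]

theorem exists_ne_zero {V : Submodule F (ι → F)} (h : 0 < Module.finrank F V) : ∃ x ∈ V, x ≠ 0 :=
  Submodule.exists_mem_ne_zero_of_ne_bot fun h0 => by rw [h0, finrank_bot] at h; omega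

/-- A subspace of dimension at least three contains a pair. -/
theorem exists_pair_in {V : Submodule F (ι → F)} (hV : Good Q V) (h : 3 ≤ Module.finrank F V) :
    ∃ u ∈ V, ∃ f ∈ V, Pr Q u f := by
  obtain ⟨u, hu, hu0, hQu⟩ := exists_singular_mem (Q := Q) V h
  exact ⟨u, hu, exists_partner_in hV hu hQu hu0⟩

/-- Two pairs containing an adjacent couple of singular vectors. -/
theorem exists_two_pairs (hQ : Q.polarBilin.Nondegenerate) {u w : ι → F} (hu : Q u = 0)
    (hw : Q w = 0) (huw : polar Q u w = 0) (hli : LinearIndependent F ![u, w]) :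
    ∃ fu fw, Pr Q u fu ∧ Pr Q w fw ∧ polar Q u fw = 0 ∧ polar Q fu w = 0 ∧ polar Q fu fw = 0 := by
  obtain ⟨fu, h1, h2, h3⟩ := exists_pair hQ ![w] hu
    (fun i => by fin_cases i; exact (polar_comm ⇑Q _ _).trans huw) (by
    rw [Matrix.range_cons, Matrix.range_empty, Set.union_empty, Submodule.mem_span_singleton]
    rintro ⟨t, ht⟩
    have := LinearIndependent.pair_iff.1 hli (-1) t (by rw [ht]; module)
    simp at this)
  have h1' : polar Q w fu = 0 := h1 0
  obtain ⟨fw, h4, h5⟩ := exists_partner_in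
    (good_split (good_top hQ) (⟨hu, h3, h2⟩ : Pr Q u fu) trivial trivial)
    (u := w) ⟨trivial, huw, by rw [polar_comm, h1']⟩ hw (by simpa using hli.ne_zero 1)
  exact ⟨fu, fw, ⟨hu, h3, h2⟩, h5, h4.2.1, by rw [polar_comm, h1'], h4.2.2⟩

/-- The product of three Eichler transformations exchanging a pair of lines. -/
noncomputable def flipO (Q : QuadraticForm F (ι → F)) (e f p : ι → F) : O Q :=
  eich Q f ((Q p)⁻¹ • p) * eich Q e p * eich Q f ((Q p)⁻¹ • p)

theorem app_flipO {e f p : ι → F} (h : Pr Q e f) (hep : polar Q e p = 0) (hfp : polar Q f p = 0)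
    (hp : Q p ≠ 0) :
    app (flipO Q e f p) e = (-(Q p)⁻¹) • f ∧ app (flipO Q e f p) f = (-Q p) • e ∧
      ∀ a, polar Q e a = 0 → polar Q f a = 0 →
        app (flipO Q e f p) a = a - ((Q p)⁻¹ * polar Q a p) • p := by
  have hfp' : polar Q f ((Q p)⁻¹ • p) = 0 := by rw [polar_smul_right, hfp, smul_zero]
  have hpe : polar Q p e = 0 := by rw [polar_comm, hep]
  have hpf : polar Q p f = 0 := by rw [polar_comm, hfp]
  have hQ' : Q ((Q p)⁻¹ • p) = (Q p)⁻¹ := by
    rw [QuadraticMap.map_smul, smul_eq_mul]; field_simp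
  refine ⟨?_, ?_, fun a hea hfa => ?_⟩ <;>
    simp only [flipO, app_mul, app_eich h.qu hep, app_eich h.qf hfp', map_add, map_smul, hQ',
      polar_smul_right, polar_self', polar_add_left, polar_smul_left, h.qu, h.qf, h.uf, h.fu,
      hep, hfp, hpe, hpf, smul_eq_mul]
  · match_scalars <;> field_simp <;> ring
  · match_scalars <;> field_simp <;> ring
  · rw [polar_comm (f := ⇑Q) a e, hea, polar_comm (f := ⇑Q) a f, hfa]
    match_scalars <;> field_simp <;> ring

/-- The Eichler transformation of a sum. -/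
theorem eich_add_left {u v a : ι → F} (hu : Q u = 0) (hv : Q v = 0) (huv : polar Q u v = 0)
    (hua : polar Q u a = 0) (hva : polar Q v a = 0) :
    eich Q (u + v) a = eich Q u a * eich Q v a * eich Q v (Q a • u) := by
  have hs : Q (u + v) = 0 := by rw [QuadraticMap.map_add ⇑Q, hu, hv, huv, add_zero, add_zero]
  have hvu : polar Q v (Q a • u) = 0 := by rw [polar_smul_right, polar_comm, huv, smul_zero]
  refine ext_app fun x => ?_
  rw [app_mul, app_mul, app_eich hs (by rw [polar_add_left, hua, hva, add_zero]), app_eich hv hvu,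
    app_eich hv hva, app_eich hu hua]
  simp only [QuadraticMap.map_smul, hu, polar_add_left, polar_add_right, polar_smul_left,
    polar_smul_right, polar_self', hv, huv, polar_comm (f := ⇑Q) v u, hua,
    polar_comm (f := ⇑Q) a u, hva, polar_comm (f := ⇑Q) a v, smul_eq_mul]
  module

theorem eich_swap {u w : ι → F} (hu : Q u = 0) (hw : Q w = 0) (huw : polar Q u w = 0) :
    eich Q u w = eich Q w (-u) :=
  ext_app fun x => by
    rw [app_eich hu huw, app_eich hw (by rw [polar_neg_right, polar_comm, huw, neg_zero]),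
      polar_neg_right, QuadraticMap.map_neg, hu, hw]
    module

/-- A transvection moving `z` to `z'`. -/
theorem exists_move (hQ : Q.polarBilin.Nondegenerate) {z z' : ι → F} (hz : Q z = 0) (hz' : Q z' = 0)
    (hp : polar Q z z' = 0) (hli : LinearIndependent F ![z, z']) :
    ∃ u w, Q u = 0 ∧ polar Q u w = 0 ∧ app (eich Q u w) z = z' := by
  have hu : Q (z' - z) = 0 := by
    rw [sub_eq_add_neg, QuadraticMap.map_add ⇑Q, QuadraticMap.map_neg, hz, hz', polar_neg_right,
      polar_comm, hp]
    simp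
  obtain ⟨w, hw1, hw2⟩ := exists_polar_eq_zero_one hQ (u := z' - z) (v := z) (by
    rw [Submodule.mem_span_singleton]
    rintro ⟨t, ht⟩
    obtain ⟨h1, h2⟩ := LinearIndependent.pair_iff.1 hli (-t - 1) t
      (by linear_combination (norm := module) ht)
    rw [h2] at h1
    simp at h1)
  refine ⟨z' - z, -w, hu, by rw [polar_neg_right, hw1, neg_zero], ?_⟩
  rw [app_eich hu (by rw [polar_neg_right, hw1, neg_zero]), polar_sub_right, hp, polar_self_zero hz,
    polar_neg_right, hw2]
  simp

end CfsgLib.MinusMult
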