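import Cfsg.Agent.Lib.MinusMult.Geometry

/-!
A biadditive map on an orthogonal space which is invariant under Eichler transformations depends
only on the polar form.
-/

set_option autoImplicit false
set_option linter.unusedSectionVars false

namespace CfsgLib.MinusMult

open QuadraticMap CfsgLib.Orth CfsgLib.POmega

variable {ι : Type} [Fintype ι] [DecidableEq ι] {F : Type*} [Field F]
  {Q : QuadraticForm F (ι → F)} {M : Type*} [CommGroup M]

/-- Biadditive and invariant on `V`. -/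
structure InvOn (Q : QuadraticForm F (ι → F)) (V : Submodule F (ι → F))
    (β : (ι → F) → (ι → F) → M) : Prop where
  addl : ∀ a ∈ V, ∀ a' ∈ V, ∀ b ∈ V, β (a + a') b = β a b * β a' b
  addr : ∀ a ∈ V, ∀ b ∈ V, ∀ b' ∈ V, β a (b + b') = β a b * β a b'
  inv : ∀ u ∈ V, Q u = 0 → u ≠ 0 → ∀ y ∈ V, polar Q u y = 0 → ∀ a ∈ V, ∀ b ∈ V,
    β (app (eich Q u y) a) (app (eich Q u y) b) = β a b

namespace InvOn

variable {V : Submodule F (ι → F)} {β : (ι → F) → (ι → F) → M} (hβ : InvOn Q V β)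
  (hV : Good Q V) {e f : ι → F} (h : Pr Q e f) (he : e ∈ V) (hf : f ∈ V)
include hβ

theorem zero_left {b : ι → F} (hb : b ∈ V) : β 0 b = 1 := by
  have := hβ.addl 0 (zero_mem V) 0 (zero_mem V) b hb
  rw [add_zero] at this
  exact left_eq_mul.1 this

theorem zero_right {a : ι → F} (ha : a ∈ V) : β a 0 = 1 := by
  have := hβ.addr a ha 0 (zero_mem V) 0 (zero_mem V)
  rw [add_zero] at this
  exact left_eq_mul.1 this

include h he hf

theorem same_line (hne : ∃ p ∈ split Q V e f, p ≠ 0) (hV : Good Q V) (x c : F) :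
    β (x • e) (c • e) = 1 := by
  obtain ⟨p, hp, hp0⟩ := hne
  obtain ⟨y, hy, hpy⟩ := good_split hV h he hf p hp hp0
  have hey : polar Q e y = 0 := hy.2.1
  have hs : (-c) • y ∈ V := V.smul_mem _ hy.1
  have hes : polar Q e ((-c) • y) = 0 := by rw [polar_smul_right, hey, smul_zero]
  have hi := hβ.inv e he h.qu h.ne _ hs hes (x • e) (V.smul_mem _ he) p hp.1
  have e1 : app (eich Q e ((-c) • y)) (x • e) = x • e := by
    rw [app_eich h.qu hes, polar_smul_left, polar_self_zero h.qu, polar_smul_left, hes]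
    simp
  have e2 : app (eich Q e ((-c) • y)) p = p + c • e := by
    rw [app_eich h.qu hes, polar_comm (f := ⇑Q) p e, hp.2.1, polar_smul_right, hpy]
    simp
  rw [e1, e2, hβ.addr _ (V.smul_mem _ he) _ hp.1 _ (V.smul_mem _ he)] at hi
  exact mul_eq_left.1 hi

theorem line_perp (hne : ∃ p ∈ split Q V e f, p ≠ 0) (hV : Good Q V) (k : F) {y : ι → F}
    (hy : y ∈ split Q V e f) : β (k • e) y = 1 ∧ β y (k • e) = 1 := by
  have hey : polar Q e y = 0 := hy.2.1
  have e1 : app (eich Q e y) (k • e) = k • e := by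
    rw [app_eich h.qu hey, polar_smul_left, polar_self_zero h.qu, polar_smul_left, hey]
    simp
  have e2 : app (eich Q e y) f = f + y + (-Q y) • e := by
    rw [app_eich h.qu hey, h.fu, hy.2.2]
    simp
  have hQe : (-Q y) • e ∈ V := V.smul_mem _ he
  constructor
  · have hi := hβ.inv e he h.qu h.ne _ hy.1 hey (k • e) (V.smul_mem _ he) f hf
    rw [e1, e2, hβ.addr _ (V.smul_mem _ he) _ (add_mem hf hy.1) _ hQe,
      hβ.addr _ (V.smul_mem _ he) _ hf _ hy.1, same_line hβ h he hf hne hV, mul_one] at hi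
    exact mul_eq_left.1 hi
  · have hi := hβ.inv e he h.qu h.ne _ hy.1 hey f hf (k • e) (V.smul_mem _ he)
    rw [e1, e2, hβ.addl _ (add_mem hf hy.1) _ hQe _ (V.smul_mem _ he),
      hβ.addl _ hf _ hy.1 _ (V.smul_mem _ he), same_line hβ h he hf hne hV, mul_one] at hi
    exact mul_eq_left.1 hi

theorem perp_perp (hne : ∃ p ∈ split Q V e f, p ≠ 0) (hV : Good Q V) {y s : ι → F}
    (hy : y ∈ split Q V e f) (hs : s ∈ split Q V e f) :
    β y s = β (polar Q y s • e) f := by
  have hes : polar Q e s = 0 := hs.2.1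
  have hne' : ∃ p ∈ split Q V f e, p ≠ 0 := by
    obtain ⟨p, hp, hp0⟩ := hne
    exact ⟨p, ⟨hp.1, hp.2.2, hp.2.1⟩, hp0⟩
  have hz : β y f = 1 := by
    have := (line_perp hβ h.symm hf he hne' hV 1 (y := y) ⟨hy.1, hy.2.2, hy.2.1⟩).2
    rwa [one_smul] at this
  have hi := hβ.inv e he h.qu h.ne s hs.1 hes y hy.1 f hf
  have e1 : app (eich Q e s) y = y + (-(polar Q y s)) • e := by
    rw [app_eich h.qu hes, polar_comm (f := ⇑Q) y e, hy.2.1]
    simp
  have e2 : app (eich Q e s) f = f + s + (-Q s) • e := by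
    rw [app_eich h.qu hes, h.fu, hs.2.2]
    simp
  have hB : (-(polar Q y s)) • e ∈ V := V.smul_mem _ he
  have hS : (-Q s) • e ∈ V := V.smul_mem _ he
  rw [e1, e2, hz, hβ.addl _ hy.1 _ hB _ (add_mem (add_mem hf hs.1) hS),
    hβ.addr _ hy.1 _ (add_mem hf hs.1) _ hS, hβ.addr _ hy.1 _ hf _ hs.1,
    hβ.addr _ hB _ (add_mem hf hs.1) _ hS, hβ.addr _ hB _ hf _ hs.1, hz,
    same_line hβ h he hf hne hV, (line_perp hβ h he hf hne hV (-(polar Q y s)) hs).1,
    (line_perp hβ h he hf hne hV (-Q s) hy).2, one_mul, mul_one, mul_one, mul_one] at hi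
  have h2 : β (polar Q y s • e) f * β ((-(polar Q y s)) • e) f = 1 := by
    rw [← hβ.addl _ (V.smul_mem _ he) _ hB _ hf, ← add_smul, add_neg_cancel, zero_smul,
      zero_left hβ hf]
  rw [eq_inv_of_mul_eq_one_left hi, eq_inv_of_mul_eq_one_left h2]

theorem line_pair (hne : ∃ p ∈ split Q V e f, p ≠ 0) (hV : Good Q V) (a b : F) :
    β (a • e) (b • f) = β ((a * b) • e) f := by
  rcases eq_or_ne b 0 with rfl | hb
  · rw [zero_smul, mul_zero, zero_smul, zero_right hβ (V.smul_mem _ he), zero_left hβ hf]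
  obtain ⟨p, hp, hp0⟩ := hne
  obtain ⟨s, hs, hps⟩ := good_split hV h he hf p hp hp0
  have hne : ∃ p ∈ split Q V e f, p ≠ 0 := ⟨p, hp, hp0⟩
  have hc : polar Q ((a * b) • p) s = a * b := by
    rw [polar_smul_left, hps, smul_eq_mul, mul_one]
  have h1 := perp_perp hβ h he hf hne hV ((split Q V e f).smul_mem (a * b) hp) hs
  have h' := h.smul (inv_ne_zero hb)
  rw [inv_inv] at h'
  have hm : ∀ {x}, x ∈ split Q V e f → x ∈ split Q V (b⁻¹ • e) (b • f) := fun {x} hx =>
    ⟨hx.1, by rw [polar_smul_left, hx.2.1, smul_zero], by rw [polar_smul_left, hx.2.2, smul_zero]⟩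
  have h2 := perp_perp hβ h' (V.smul_mem _ he) (V.smul_mem _ hf) ⟨p, hm hp, hp0⟩ hV
    (hm ((split Q V e f).smul_mem (a * b) hp)) (hm hs)
  rw [hc] at h1 h2
  rw [smul_smul, mul_inv_cancel_right₀ hb] at h2
  rw [← h2, h1]

/-- The value depends only on the polar form. -/
theorem eq_polar (hne : ∃ p ∈ split Q V e f, p ≠ 0) (hV : Good Q V) {a b : ι → F} (ha : a ∈ V)
    (hb : b ∈ V) : β a b = β (polar Q a b • e) f := by
  have hne' : ∃ p ∈ split Q V f e, p ≠ 0 := by
    obtain ⟨p, hp, hp0⟩ := hne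
    exact ⟨p, ⟨hp.1, hp.2.2, hp.2.1⟩, hp0⟩
  have sw : ∀ c : F, β (c • f) e = β (c • e) f := by
    intro c
    obtain ⟨p, hp, hp0⟩ := hne
    obtain ⟨s, hs, hps⟩ := good_split hV h he hf p hp hp0
    have hc : polar Q (c • p) s = c := by rw [polar_smul_left, hps, smul_eq_mul, mul_one]
    have h1 := perp_perp hβ h he hf ⟨p, hp, hp0⟩ hV ((split Q V e f).smul_mem c hp) hs
    have h2 := perp_perp hβ h.symm hf he hne' hV (y := c • p) (s := s)
      (by exact ⟨V.smul_mem c hp.1, by rw [polar_smul_right, hp.2.2, smul_zero],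
        by rw [polar_smul_right, hp.2.1, smul_zero]⟩) ⟨hs.1, hs.2.2, hs.2.1⟩
    rw [hc] at h1 h2
    rw [← h1, ← h2]
  obtain ⟨p, hp, ea⟩ := exists_decomp h he hf ha
  obtain ⟨r, hr, eb⟩ := exists_decomp h he hf hb
  set x := polar Q f a
  set y := polar Q e a
  set x' := polar Q f b
  set y' := polar Q e b
  have mx : ∀ t : F, t • e ∈ V := fun t => V.smul_mem _ he
  have my : ∀ t : F, t • f ∈ V := fun t => V.smul_mem _ hf
  have hp' : p ∈ split Q V f e := ⟨hp.1, hp.2.2, hp.2.1⟩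
  have hr' : r ∈ split Q V f e := ⟨hr.1, hr.2.2, hr.2.1⟩
  have hB : polar Q a b = x * y' + y * x' + polar Q p r := by
    rw [ea, eb]
    simp [polar_add_left, polar_add_right, polar_smul_left, polar_smul_right,
      polar_self_zero h.qu, polar_self_zero h.qf, h.uf, h.fu, hr.2.1, hr.2.2,
      polar_comm (f := ⇑Q) p e, polar_comm (f := ⇑Q) p f, hp.2.1, hp.2.2]
    ring
  rw [hB, ea, eb, hβ.addl _ (add_mem (mx x) (my y)) _ hp.1 _ (add_mem (add_mem (mx x') (my y')) hr.1),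
    hβ.addl _ (mx x) _ (my y) _ (add_mem (add_mem (mx x') (my y')) hr.1),
    hβ.addr _ (mx x) _ (add_mem (mx x') (my y')) _ hr.1, hβ.addr _ (mx x) _ (mx x') _ (my y'),
    hβ.addr _ (my y) _ (add_mem (mx x') (my y')) _ hr.1, hβ.addr _ (my y) _ (mx x') _ (my y'),
    hβ.addr _ hp.1 _ (add_mem (mx x') (my y')) _ hr.1, hβ.addr _ hp.1 _ (mx x') _ (my y'),
    same_line hβ h he hf hne hV, same_line hβ h.symm hf he hne' hV,
    (line_perp hβ h he hf hne hV x hr).1, (line_perp hβ h he hf hne hV x' hp).2,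
    (line_perp hβ h.symm hf he hne' hV y hr').1, (line_perp hβ h.symm hf he hne' hV y' hp').2,
    line_pair hβ h he hf hne hV, line_pair hβ h.symm hf he hne' hV, sw,
    perp_perp hβ h he hf hne hV hp hr]
  simp only [one_mul, mul_one]
  rw [← hβ.addl _ (mx _) _ (mx _) _ hf, ← add_smul, ← hβ.addl _ (mx _) _ (mx _) _ hf, ← add_smul]

end InvOn

end CfsgLib.MinusMult
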