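import Cfsg.Agent.Lib.MinusMult.Pairing

/-!
The lifts of the Eichler transformations orthogonal to a long root element centralise it; commutators
over a totally singular line depend only on the polar form; the pairing over one vector vanishes.
-/

set_option autoImplicit false
set_option linter.unusedSectionVars false

namespace CfsgLib.MinusMult

open QuadraticMap CfsgLib.Orth CfsgLib.POmega
open scoped commutatorElement

variable {ι : Type} [Fintype ι] [DecidableEq ι] {F : Type*} [Field F] [Fintype F]
  {Q : QuadraticForm F (ι → F)} {E : Type*} [Group E] {π : E →* O Q}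

/-- An element of `p ^ ⊥` leaving a second vector alone. -/
theorem exists_dual {V : Submodule F (ι → F)} (hV : Good Q V) {p r : ι → F} (hp : p ∈ V)
    (hr : r ∈ V) (hli : ∀ a b : F, a • p + b • r = 0 → a = 0 ∧ b = 0) :
    ∃ a ∈ V, polar Q p a = 1 ∧ polar Q r a = 0 := by
  obtain ⟨s, hs, hps⟩ := hV p hp (fun h => by
    have := (hli 1 0 (by rw [h]; simp)).1; simp at this)
  obtain ⟨t, ht, hrt⟩ := hV (r - polar Q r s • p) (sub_mem hr (V.smul_mem _ hp)) (fun h => by
    have := (hli (-(polar Q r s)) 1 (by linear_combination (norm := module) h)).2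
    simp at this)
  rw [polar_sub_left, polar_smul_left, smul_eq_mul] at hrt
  refine ⟨s + (-(polar Q r s)) • (t + (-(polar Q p t)) • s),
    add_mem hs (V.smul_mem _ (add_mem ht (V.smul_mem _ hs))), ?_, ?_⟩
  · simp [polar_add_right, polar_smul_right, hps]
  · simp only [polar_add_right, polar_smul_right, smul_eq_mul]
    linear_combination (-(polar Q r s)) * hrt

namespace Ctx

variable (H : Ctx π)
include H

theorem finrank_split_two {u fu w fw : ι → F} (hu : Pr Q u fu) (hw : Pr Q w fw)
    (hw1 : w ∈ split Q ⊤ u fu) (hw2 : fw ∈ split Q ⊤ u fu) :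
    Fintype.card ι ≤ Module.finrank F (split Q (split Q ⊤ u fu) w fw) + 4 := by
  have h1 := H.finrank_split_top hu
  have h2 := finrank_split (Q := Q) hw hw1 hw2
  omega

theorem long_fixed {u fu w fw e y : ι → F} (hu : Pr Q u fu) (hw : Pr Q w fw)
    (hw1 : w ∈ split Q ⊤ u fu) (hw2 : fw ∈ split Q ⊤ u fu)
    (he : e ∈ split Q (split Q ⊤ u fu) w fw) (hy : y ∈ split Q (split Q ⊤ u fu) w fw)
    (hQe : Q e = 0) (he0 : e ≠ 0) (hey : polar Q e y = 0) {z : E} {c : F}
    (hz : π z = eich Q u (c • w)) : lft π (eich Q e y) * z * (lft π (eich Q e y))⁻¹ = z := by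
  classical
  set V := split Q (split Q ⊤ u fu) w fw with hVdef
  have hg1 := good_split (good_top H.nd) hu trivial trivial
  have hgV : Good Q V := good_split hg1 hw hw1 hw2
  obtain ⟨f, hf, hef⟩ := exists_partner_in hgV he hQe he0
  set P := split Q V e f with hPdef
  have hgP : Good Q P := good_split hgV hef he hf
  have huw : polar Q u w = 0 := hw1.2.1
  have hucw : polar Q u (c • w) = 0 := by rw [polar_smul_right, huw, smul_zero]
  have hker : ∀ {p}, p ∈ P → ⁅lft π (eich Q e p), z⁆ ∈ π.ker := fun {p} hp => by
    rw [MonoidHom.mem_ker, map_commutatorElement, hz, H.map_lft hQe hp.2.1, commutatorElement_def,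
      eich_conj hu.qu hucw, map_smul]
    have e1 : app (eich Q e p) u = u := by
      rw [app_eich hQe hp.2.1, polar_comm (f := ⇑Q) u e]
      have h1 : polar Q e u = 0 := by rw [polar_comm]; exact he.1.2.1
      have h2 : polar Q u p = 0 := hp.1.1.2.1
      rw [h1, h2]; simp
    have e2 : app (eich Q e p) w = w := by
      rw [app_eich hQe hp.2.1]
      have h1 : polar Q w e = 0 := he.2.1
      have h2 : polar Q w p = 0 := hp.1.2.1
      rw [h1, h2]; simp
    rw [e1, e2, mul_inv_cancel]
  have hadd : ∀ {p p'}, p ∈ P → p' ∈ P →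
      ⁅lft π (eich Q e (p + p')), z⁆ = ⁅lft π (eich Q e p), z⁆ * ⁅lft π (eich Q e p'), z⁆ := by
    intro p p' hp hp'
    rw [CfsgLib.Schur.commutator_congr H.cen (x' := lft π (eich Q e p) * lft π (eich Q e p'))
      (y' := z) (by rw [map_mul, H.map_lft hQe hp.2.1, H.map_lft hQe hp'.2.1,
        H.map_lft hQe (add_mem hp hp').2.1, eich_add hQe hp.2.1 hp'.2.1]) rfl,
      commutator_mul_left', ker_eq_one H.cen (hker hp'),
      (CfsgLib.Schur.ker_commute H.cen (hker hp') _).eq]
  have hzero : ⁅lft π (eich Q e 0), z⁆ = 1 := by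
    have h := hadd (zero_mem P) (zero_mem P)
    rw [add_zero] at h
    exact left_eq_mul.1 h
  have hinv : ∀ (g : E) {p}, p ∈ P → app (π g) p ∈ P → app (π g) e = e → app (π g) u = u →
      app (π g) w = w → ⁅lft π (eich Q e (app (π g) p)), z⁆ = ⁅lft π (eich Q e p), z⁆ := by
    intro g p hp hgp hge hgu hgw
    conv_rhs => rw [← ker_eq_one H.cen (hker hp) g]
    rw [show g * ⁅lft π (eich Q e p), z⁆ * g⁻¹ = ⁅g * lft π (eich Q e p) * g⁻¹, g * z * g⁻¹⁆ by
      simp only [commutatorElement_def]; group]
    refine CfsgLib.Schur.commutator_congr H.cen ?_ ?_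
    · rw [map_mul, map_mul, map_inv, H.map_lft hQe hgp.2.1, H.map_lft hQe hp.2.1,
        eich_conj hQe hp.2.1, hge]
    · rw [map_mul, map_mul, map_inv, hz, eich_conj hu.qu hucw, map_smul, hgu, hgw]
  have fixes : ∀ {v x t}, v ∈ P → x ∈ P → Q v = 0 → polar Q v x = 0 →
      polar Q t v = 0 → polar Q t x = 0 → app (eich Q v x) t = t := fun {v x t} _ _ hv hvx h1 h2 => by
    rw [app_eich hv hvx, h1, h2]; simp
  have hdimP : Fintype.card ι ≤ Module.finrank F P + 6 := by
    have h1 := H.finrank_split_two hu hw hw1 hw2
    have h2 := finrank_split (Q := Q) hef he hf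
    rw [← hVdef] at h1
    rw [← hPdef] at h2
    omega
  have main : ∀ p, p ∈ P → ⁅lft π (eich Q e p), z⁆ = 1 := by
    by_cases hsing : ∃ s ∈ P, s ≠ 0 ∧ Q s = 0
    · have hs : ∀ {s}, s ∈ P → Q s = 0 → ⁅lft π (eich Q e s), z⁆ = 1 := by
        intro s hs hQs
        rcases eq_or_ne s 0 with rfl | hs0
        · exact hzero
        obtain ⟨t, ht, hst⟩ := exists_partner_in hgP hs hQs hs0
        have h9 : 9 ≤ Fintype.card ι := by
          refine H.idx ![u, w, e, s] (fun i j => ?_) (fun i => ?_) ?_
          · have a1 : polar Q u e = 0 := he.1.2.1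
            have a2 : polar Q w e = 0 := he.2.1
            have a3 : polar Q u s = 0 := hs.1.1.2.1
            have a4 : polar Q w s = 0 := hs.1.2.1
            have a5 : polar Q e s = 0 := hs.2.1
            fin_cases i <;> fin_cases j <;>
              simp [polar_self_zero hu.qu, polar_self_zero hw.qu, polar_self_zero hQe,
                polar_self_zero hQs, huw, polar_comm (f := ⇑Q) w u, a1, a2, a3, a4, a5,
                polar_comm (f := ⇑Q) e u, polar_comm (f := ⇑Q) e w, polar_comm (f := ⇑Q) s u,
                polar_comm (f := ⇑Q) s w, polar_comm (f := ⇑Q) s e]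
          · fin_cases i
            exacts [hu.qu, hw.qu, hQe, hQs]
          · rw [Fintype.linearIndependent_iff]
            intro g hg
            rw [Fin.sum_univ_four] at hg
            simp only [Matrix.cons_val_zero, Matrix.cons_val_one, Matrix.cons_val] at hg
            have q1 := congrArg (fun v => polar Q fu v) hg
            have q2 := congrArg (fun v => polar Q fw v) hg
            have q3 := congrArg (fun v => polar Q f v) hg
            have q4 := congrArg (fun v => polar Q t v) hg
            have b1 : polar Q fu w = 0 := hw1.2.2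
            have b2 : polar Q fu e = 0 := he.1.2.2
            have b3 : polar Q fu s = 0 := hs.1.1.2.2
            have b4 : polar Q fw u = 0 := (polar_comm ⇑Q _ _).trans hw2.2.1
            have b5 : polar Q fw e = 0 := he.2.2
            have b6 : polar Q fw s = 0 := hs.1.2.2
            have b7 : polar Q f u = 0 := (polar_comm ⇑Q _ _).trans hf.1.2.1
            have b8 : polar Q f w = 0 := (polar_comm ⇑Q _ _).trans hf.2.1
            have b9 : polar Q f s = 0 := hs.2.2
            have b10 : polar Q t u = 0 := (polar_comm ⇑Q _ _).trans ht.1.1.2.1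
            have b11 : polar Q t w = 0 := (polar_comm ⇑Q _ _).trans ht.1.2.1
            have b12 : polar Q t e = 0 := (polar_comm ⇑Q _ _).trans ht.2.1
            simp only [polar_add_right, polar_smul_right, polar_zero_right, hu.fu, hw.fu, hef.fu,
              hst.fu, b1, b2, b3, b4, b5, b6, b7, b8, b9, b10, b11, b12, smul_eq_mul, mul_one,
              mul_zero, add_zero, zero_add] at q1 q2 q3 q4
            intro i
            fin_cases i
            exacts [q1, q2, q3, q4]
        obtain ⟨x, hx, hx0⟩ := exists_ne_zero (F := F) (V := split Q P s t) (by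
          have := finrank_split (Q := Q) hst hs ht
          omega)
        obtain ⟨y', hy', hxy⟩ := good_split hgP hst hs ht x hx hx0
        obtain ⟨g, hg⟩ := H.mem s x hQs hx.2.1
        have e0 : app (π g) y' = y' + -s := by
          rw [hg, app_eich hQs hx.2.1, polar_comm (f := ⇑Q) y' s, hy'.2.1, polar_comm (f := ⇑Q) y' x,
            hxy]
          simp
        have h := hinv g hy'.1 (by rw [e0]; exact add_mem hy'.1 (neg_mem hs)) (by
            rw [hg]; exact fixes hs hx.1 hQs hx.2.1 hs.2.1 hx.1.2.1) (by
            rw [hg]; exact fixes hs hx.1 hQs hx.2.1 hs.1.1.2.1 hx.1.1.1.2.1) (by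
            rw [hg]; exact fixes hs hx.1 hQs hx.2.1 hs.1.2.1 hx.1.1.2.1)
        rw [e0] at h
        have h' := hadd (add_mem hy'.1 (neg_mem hs)) hs
        rw [neg_add_cancel_right, h] at h'
        exact left_eq_mul.1 h'
      intro p hp
      obtain ⟨s0, hs0, hs00, hQs0⟩ := hsing
      obtain ⟨t0, ht0, hst0⟩ := exists_partner_in hgP hs0 hQs0 hs00
      obtain ⟨a, ha, b, hb, d, hd, qa, qb, qd, rfl⟩ := exists_sing_sum hst0 hs0 ht0 hp
      rw [hadd (add_mem ha hb) hd, hadd ha hb, hs ha qa, hs hb qb, hs hd qd, one_mul, one_mul]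
    · push Not at hsing
      intro p hp
      rcases eq_or_ne p 0 with rfl | hp0
      · exact hzero
      have hQp : Q p ≠ 0 := hsing p hp hp0
      -- a second vector with the same value
      obtain ⟨b, hb, hpb, hbp⟩ : ∃ b ∈ P, polar Q p b ≠ 0 ∧ b ∉ Submodule.span F {p} := by
        obtain ⟨s, hs, hps⟩ := hgP p hp hp0
        by_cases hsp : s ∈ Submodule.span F {p}
        · obtain ⟨z', hz', hzp⟩ : ∃ z' ∈ P, z' ∉ Submodule.span F {p} := by
            by_contra hno
            push Not at hno
            have := Submodule.finrank_mono (show P ≤ Submodule.span F {p} from hno)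
            rw [finrank_span_singleton hp0] at this
            have := H.card
            omega
          by_cases hpz : polar Q p z' = 0
          · refine ⟨s + z', add_mem hs hz', ?_, fun h => hzp ?_⟩
            · rw [polar_add_right, hps, hpz, add_zero]; exact one_ne_zero
            · simpa using sub_mem h hsp
          · exact ⟨z', hz', hpz, hzp⟩
        · exact ⟨s, hs, by rw [hps]; exact one_ne_zero, hsp⟩
      have hb0 : b ≠ 0 := fun h => hbp (by rw [h]; exact zero_mem _)
      have hQb : Q b ≠ 0 := hsing b hb hb0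
      set k := polar Q p b / Q b
      have hk : k ≠ 0 := div_ne_zero hpb hQb
      set p1 := p + (-k) • b
      have hp1 : p1 ∈ P := add_mem hp (P.smul_mem _ hb)
      have hQp1 : Q p1 = Q p := by
        simp only [p1, QuadraticMap.map_add ⇑Q, QuadraticMap.map_smul, polar_smul_right, smul_eq_mul, k]
        field_simp
        ring
      obtain ⟨a, ha, hpa, hp1a⟩ := exists_dual hgP hp hp1 (fun α δ h => by
        have hd : δ = 0 := by
          by_contra hd
          refine hbp (Submodule.mem_span_singleton.2 ⟨(α + δ) / (δ * k), ?_⟩)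
          have h' : (δ * k) • b = (α + δ) • p := by linear_combination (norm := module) -h
          rw [div_eq_inv_mul, mul_smul, ← h', smul_smul, inv_mul_cancel₀ (mul_ne_zero hd hk), one_smul]
        subst hd
        rw [zero_smul, add_zero, smul_eq_zero] at h
        exact ⟨h.resolve_right hp0, rfl⟩)
      have hmemO : flipO Q e f p * flipO Q e f p1 ∈ π.range := by
        refine mul_mem ?_ ?_ <;> refine mul_mem (mul_mem ?_ ?_) ?_ <;>
          first
          | exact H.mem _ _ hef.qf (by rw [polar_smul_right, hp.2.2, smul_zero])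
          | exact H.mem _ _ hef.qf (by rw [polar_smul_right, hp1.2.2, smul_zero])
          | exact H.mem _ _ hQe hp.2.1
          | exact H.mem _ _ hQe hp1.2.1
      obtain ⟨g, hg⟩ := hmemO
      obtain ⟨f1, f2, f3⟩ := app_flipO hef hp.2.1 hp.2.2 hQp
      obtain ⟨g1, g2, g3⟩ := app_flipO hef hp1.2.1 hp1.2.2 (by rw [hQp1]; exact hQp)
      have fix' : ∀ {t}, polar Q e t = 0 → polar Q f t = 0 → polar Q t p = 0 → polar Q t p1 = 0 →
          app (π g) t = t := fun {t} h1 h2 h3 h4 => by
        rw [hg, app_mul, g3 t h1 h2, h4, mul_zero, zero_smul, sub_zero, f3 t h1 h2, h3, mul_zero,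
          zero_smul, sub_zero]
      have hge : app (π g) e = e := by
        rw [hg, app_mul, g1, map_smul, f2, smul_smul, hQp1, neg_mul_neg, inv_mul_cancel₀ hQp,
          one_smul]
      have hga : app (π g) (Q p • a) = Q p • a + -p := by
        rw [hg, app_mul, g3 _ (by rw [polar_smul_right, ha.2.1, smul_zero])
          (by rw [polar_smul_right, ha.2.2, smul_zero]), polar_smul_left, polar_comm (f := ⇑Q) a p1,
          hp1a, smul_zero, mul_zero, zero_smul, sub_zero,
          f3 _ (by rw [polar_smul_right, ha.2.1, smul_zero])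
          (by rw [polar_smul_right, ha.2.2, smul_zero]), polar_smul_left, polar_comm (f := ⇑Q) a p,
          hpa, smul_eq_mul, mul_one, inv_mul_cancel₀ hQp, one_smul, sub_eq_add_neg]
      have hau : app (π g) u = u := fix' ((polar_comm ⇑Q _ _).trans he.1.2.1)
        ((polar_comm ⇑Q _ _).trans hf.1.2.1) hp.1.1.2.1 hp1.1.1.2.1
      have haw : app (π g) w = w := fix' ((polar_comm ⇑Q _ _).trans he.2.1)
        ((polar_comm ⇑Q _ _).trans hf.2.1) hp.1.2.1 hp1.1.2.1
      have hmema : Q p • a ∈ P := P.smul_mem _ ha
      have h := hinv g hmema (by rw [hga]; exact add_mem hmema (neg_mem hp)) hge hau haw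
      rw [hga] at h
      have h' := hadd (add_mem hmema (neg_mem hp)) hp
      rw [neg_add_cancel_right, h] at h'
      exact left_eq_mul.1 h'
  obtain ⟨p, hp, ey⟩ := exists_decomp hef he hf hy
  rw [hey, zero_smul, add_zero, add_comm] at ey
  have hyp : eich Q e y = eich Q e p := by rw [ey, eich_add_smul hQe hp.2.1]
  have h := main p hp
  rw [hyp]
  exact mul_inv_eq_one.1 h

end Ctx

end CfsgLib.MinusMult
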