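import Cfsg.Agent.Lib.OddMult.Spin
import Cfsg.Agent.Lib.Schur.Basic
import Cfsg.Agent.Lib.SUMult.SLTwoCross
import Cfsg.Agent.Lib.POmega.Forms

/-!
For `q` odd: the double cover of `Ω`, and the order of a lift of `-1`.
-/

set_option autoImplicit false
set_option linter.unusedSectionVars false

namespace CfsgLib.MinusMult

open Matrix QuadraticMap CfsgLib.Orth CfsgLib.OddMult
open scoped commutatorElement

universe u

variable {ι : Type} [Fintype ι] [DecidableEq ι] {F : Type u} [Field F] [Fintype F]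
  {Q : QuadraticForm F (ι → F)}

/-- The double cover, with anticommuting lifts (after `CfsgLib.OddMult.exists_spin_cover`). -/
theorem exists_anti_cover (hQ : Q.polarBilin.Nondegenerate) (h2 : (2 : F) ≠ 0)
    (hn : 7 ≤ Fintype.card ι) :
    ∃ (Γ : Type u) (_ : Group Γ) (_ : Finite Γ) (π : Γ →* O Q),
      π.range = commutator (O Q) ∧ π.ker ≤ Subgroup.center Γ ∧ commutator Γ = ⊤ ∧
      ∀ u v w, Q u = 1 → Q v = 1 → Q w = 1 → polar Q u v = 0 → polar Q u w = 0 → polar Q v w = 0 →
        ∀ x y : Γ, π x = refl Q u * refl Q v → π y = refl Q v * refl Q w → ⁅x, y⁆ ≠ 1 := by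
  classical
  set pr := evenProj Q with hpr
  have hcen : pr.ker ≤ Subgroup.center (evenGroup Q) := evenProj_ker_le_center Q
  set P : Subgroup (evenGroup Q) := (commutator (O Q)).comap pr with hP
  have hmap : P.map pr = commutator (O Q) :=
    Subgroup.map_comap_eq_self (omega_le_range Q hQ h2)
  have hperfΩ : ⁅commutator (O Q), commutator (O Q)⁆ = commutator (O Q) := by
    rw [← Subgroup.range_subtype (commutator (O Q)), MonoidHom.range_eq_map,
      ← Subgroup.map_commutator, ← _root_.commutator_def,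
      CfsgLib.POmega.omega_perfect hQ (by omega)]
  set Γ : Subgroup (evenGroup Q) := ⁅P, P⁆ with hΓ
  have hΓmap : Γ.map pr = commutator (O Q) := by rw [hΓ, Subgroup.map_commutator, hmap, hperfΩ]
  -- finiteness
  have hfin : Finite (commutatorSet (evenGroup Q)) := by
    let sec : O Q → evenGroup Q := fun g => if h : ∃ a, pr a = g then h.choose else 1
    have hsec : ∀ a, pr (sec (pr a)) = pr a := fun a => by
      have h : ∃ b, pr b = pr a := ⟨a, rfl⟩
      simp only [sec, dif_pos h]
      exact h.choose_spec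
    refine ((Set.finite_range fun p : O Q × O Q => ⁅sec p.1, sec p.2⁆).subset ?_).to_subtype
    rintro _ ⟨a, b, rfl⟩
    refine ⟨(pr a, pr b), ?_⟩
    have hz : ∀ a, (sec (pr a))⁻¹ * a ∈ Subgroup.center (evenGroup Q) := fun a => hcen (by
      rw [MonoidHom.mem_ker, map_mul, map_inv, hsec, inv_mul_cancel])
    conv_rhs => rw [← mul_inv_cancel_left (sec (pr a)) a, ← mul_inv_cancel_left (sec (pr b)) b,
      CfsgLib.ChevMult.CExt.comm_central_left (hz a), CfsgLib.ChevMult.CExt.comm_central_right (hz b)]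
  have hΓle : Γ ≤ commutator (evenGroup Q) := by
    rw [_root_.commutator_def]; exact Subgroup.commutator_mono le_top le_top
  have : Finite Γ := Finite.of_injective _ (Subgroup.inclusion_injective hΓle)
  refine ⟨Γ, inferInstance, inferInstance, pr.comp Γ.subtype, ?_, ?_, ?_, ?_⟩
  · rw [MonoidHom.range_comp, Subgroup.range_subtype, hΓmap]
  · intro g hg
    exact Subgroup.mem_center_iff.2 fun x => Subtype.ext
      (Subgroup.mem_center_iff.1 (hcen (show (g : evenGroup Q) ∈ pr.ker from hg)) _)
  · have dec : ∀ a ∈ P, ∃ c ∈ Γ, c⁻¹ * a ∈ Subgroup.center (evenGroup Q) := by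
      intro a ha
      have : pr a ∈ Γ.map pr := by rw [hΓmap]; exact ha
      obtain ⟨c, hc, hca⟩ := this
      exact ⟨c, hc, hcen (by rw [MonoidHom.mem_ker, map_mul, map_inv, hca, inv_mul_cancel])⟩
    apply Subgroup.map_injective Γ.subtype_injective
    rw [_root_.commutator_def, Subgroup.map_commutator, ← MonoidHom.range_eq_map,
      Subgroup.range_subtype]
    refine le_antisymm (Subgroup.commutator_le_self _) (Subgroup.commutator_le.2 fun a ha b hb => ?_)
    obtain ⟨c, hc, hca⟩ := dec a ha
    obtain ⟨e, he, heb⟩ := dec b hb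
    rw [← mul_inv_cancel_left c a, ← mul_inv_cancel_left e b,
      CfsgLib.ChevMult.CExt.comm_central_left hca, CfsgLib.ChevMult.CExt.comm_central_right heb]
    exact Subgroup.commutator_mem_commutator hc he
  intro u v w hu hv hw huv huw hvw x y hx hy h
  have hu0 : Q u ≠ 0 := by simp [hu]
  have hv0 : Q v ≠ 0 := by simp [hv]
  have hw0 : Q w ≠ 0 := by simp [hw]
  let x0 : evenGroup Q := ⟨_, Subgroup.subset_closure ⟨u, v, hu0, hv0, rfl⟩⟩
  let y0 : evenGroup Q := ⟨_, Subgroup.subset_closure ⟨v, w, hv0, hw0, rfl⟩⟩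
  have h' : ⁅(x : evenGroup Q), (y : evenGroup Q)⁆ = 1 := congrArg Subtype.val h
  rw [CfsgLib.Schur.commutator_congr hcen (show pr x = pr x0 from hx) (show pr y = pr y0 from hy),
    commutatorElement_eq_one_iff_mul_comm] at h'
  have h1 := congrArg (fun g : evenGroup Q => (g.1.1 : CliffordAlgebra Q)) h'
  simp only [x0, y0, Subgroup.coe_mul, Prod.fst_mul, Units.val_mul, coe_cunit Q hu0,
    coe_cunit Q hv0, coe_cunit Q hw0] at h1
  set U := CliffordAlgebra.ι Q u
  set V := CliffordAlgebra.ι Q v
  set W := CliffordAlgebra.ι Q w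
  have hsw : ∀ a b, polar Q a b = 0 → CliffordAlgebra.ι Q a * CliffordAlgebra.ι Q b =
      -(CliffordAlgebra.ι Q b * CliffordAlgebra.ι Q a) := fun a b hab => by
    rw [CliffordAlgebra.ι_mul_ι_comm, hab, map_zero, zero_sub]
  have sq : ∀ a, Q a = 1 → CliffordAlgebra.ι Q a * CliffordAlgebra.ι Q a = 1 := fun a ha => by
    rw [CliffordAlgebra.ι_sq_scalar, ha, map_one]
  have eL : U * V * (V * W) = U * W := by rw [mul_assoc, ← mul_assoc V, sq v hv, one_mul]
  have eR : V * W * (U * V) = -(U * W) := by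
    have a1 : W * U = -(U * W) := hsw w u ((polar_comm (⇑Q) w u).trans huw)
    have a2 : V * U = -(U * V) := hsw v u ((polar_comm (⇑Q) v u).trans huv)
    have a3 : W * V = -(V * W) := hsw w v ((polar_comm (⇑Q) w v).trans hvw)
    calc V * W * (U * V) = V * (W * U) * V := by noncomm_ring
      _ = -(V * U * (W * V)) := by rw [a1]; noncomm_ring
      _ = -(U * (V * V) * W) := by rw [a2, a3]; noncomm_ring
      _ = -(U * W) := by rw [sq v hv, mul_one]
  rw [eL, eR] at h1
  have hinv : W * U * (U * W) = 1 := by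
    rw [mul_assoc, ← mul_assoc U, sq u hu, one_mul, sq w hw]
  have h3 : (2 : CliffordAlgebra Q) * (W * U * (U * W)) = 0 := by
    have h0 : U * W + U * W = 0 := add_eq_zero_iff_eq_neg.2 h1
    rw [two_mul, ← mul_add, h0, mul_zero]
  rw [hinv, mul_one] at h3
  have : Invertible (2 : F) := invertibleOfNonzero h2
  have : Nontrivial (CliffordAlgebra Q) :=
    (CliffordAlgebra.equivExterior Q).symm.injective.nontrivial
  exact h2 ((algebraMap F (CliffordAlgebra Q)).injective (by rw [map_ofNat, h3, map_zero]))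

section lift

variable {Γ : Type*} [Group Γ] [Finite Γ] {π : Γ →* O Q} (hQ : Q.polarBilin.Nondegenerate)
  (h2 : (2 : F) ≠ 0) (hn : 7 ≤ Fintype.card ι) (hr : π.range = commutator (O Q))
  (hc : π.ker ≤ Subgroup.center Γ) (hk : Nat.card π.ker ≤ 2)
  (hanti : ∀ u v w, Q u = 1 → Q v = 1 → Q w = 1 → polar Q u v = 0 → polar Q u w = 0 → polar Q v w = 0 →
    ∀ x y : Γ, π x = refl Q u * refl Q v → π y = refl Q v * refl Q w → ⁅x, y⁆ ≠ 1)

include hk in
theorem ker_unique {s t : Γ} (hs : s ∈ π.ker) (ht : t ∈ π.ker) (hs1 : s ≠ 1) (ht1 : t ≠ 1) : s = t := by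
  classical
  by_contra hne
  letI : Fintype π.ker := Fintype.ofFinite _
  have h3 : ({1, ⟨s, hs⟩, ⟨t, ht⟩} : Finset π.ker).card = 3 :=
    Finset.card_eq_three.2 ⟨_, _, _, fun h => hs1 (congrArg Subtype.val h).symm,
      fun h => ht1 (congrArg Subtype.val h).symm, fun h => hne (congrArg Subtype.val h), rfl⟩
  have := Finset.card_le_univ ({1, ⟨s, hs⟩, ⟨t, ht⟩} : Finset π.ker)
  rw [h3, ← Nat.card_eq_fintype_card] at this
  omega

include hk in
theorem ker_sq {s : Γ} (hs : s ∈ π.ker) : s * s = 1 := by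
  by_contra h
  have hs1 : s ≠ 1 := fun e => h (by rw [e, one_mul])
  exact hs1 (mul_eq_left.1 (ker_unique hk (mul_mem hs hs) hs h hs1))

include hc hk in
/-- The square of a lift does not depend on the lift. -/
theorem sq_congr {x y : Γ} (h : π x = π y) : x * x = y * y := by
  have hz : y⁻¹ * x ∈ π.ker := by rw [MonoidHom.mem_ker, map_mul, map_inv, h, inv_mul_cancel]
  have hcz := Subgroup.mem_center_iff.1 (hc hz)
  calc x * x = y * (y⁻¹ * x) * (y * (y⁻¹ * x)) := by group
    _ = y * y * ((y⁻¹ * x) * (y⁻¹ * x)) := by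
      rw [mul_assoc y (y⁻¹ * x), ← mul_assoc (y⁻¹ * x) y, ← hcz y]; group
    _ = y * y := by rw [ker_sq hk hz, mul_one]

include hQ h2 hn hr in
theorem exists_lift {u v : ι → F} (hu : Q u = 1) (hv : Q v = 1) :
    ∃ x, π x = refl Q u * refl Q v := by
  classical
  obtain ⟨d, hd⟩ := FiniteField.exists_nonsquare (F := F) (fun hch => by
    have : CharP F 2 := ringChar.of_eq hch
    exact h2 CharTwo.two_eq_zero)
  have : refl Q u * refl Q v ∈ π.range := by
    rw [hr, commutator_eq hQ h2 hd, MonoidHom.mem_ker, map_mul, chiPair_refl h2 hd (by simp [hu]),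
      chiPair_refl h2 hd (by simp [hv]), hu, hv]
    simp
  exact this

theorem refl_pair_comm {u v : ι → F} (h : polar Q u v = 0) :
    refl Q u * refl Q v = refl Q v * refl Q u := by
  have h' := refl_conj (refl Q u) v
  rw [app_refl_of_ortho ((polar_comm (⇑Q) v u).trans h)] at h'
  exact mul_inv_eq_iff_eq_mul.1 h'

include hQ h2 hn hr hc hk hanti

/-- Squares of lifts of pairs are the central involution. -/
theorem pair_sq {u v : ι → F} (hu : Q u = 1) (hv : Q v = 1) (huv : polar Q u v = 0) {x : Γ}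
    (hx : π x = refl Q u * refl Q v) : x * x ∈ π.ker ∧ x * x ≠ 1 := by
  have hker : x * x ∈ π.ker := by
    rw [MonoidHom.mem_ker, map_mul, hx]
    conv_lhs => arg 2; rw [refl_pair_comm huv]
    rw [mul_assoc, ← mul_assoc (refl Q v), refl_mul_self, one_mul, refl_mul_self]
  refine ⟨hker, fun h1 => ?_⟩
  obtain ⟨w, hw, huw, hvw⟩ := exists_nbr hQ h2 hu hn v
  have conj : ∀ {a b : ι → F}, Q a = 1 → Q b = 1 → polar Q a b = 0 → ∀ {y : Γ},
      π y = refl Q a * refl Q b → y * y = 1 := by
    intro a b ha hb hab y hy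
    obtain ⟨g, hg, hge⟩ := exists_move hQ h2 (k := 2) (by omega) ![u, v] ![a, b]
      (fun i => by fin_cases i <;> simp [hu, hv]) (fun i => by fin_cases i <;> simp [ha, hb])
      (fun i l hil => by
        fin_cases i <;> fin_cases l
        exacts [absurd rfl hil, huv, (polar_comm (⇑Q) v u).trans huv, absurd rfl hil])
      (fun i l hil => by
        fin_cases i <;> fin_cases l
        exacts [absurd rfl hil, hab, (polar_comm (⇑Q) b a).trans hab, absurd rfl hil])
    rw [← hr] at hg
    obtain ⟨g, rfl⟩ := hg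
    have e : π (g * x * g⁻¹) = π y := by
      rw [hy, map_mul, map_mul, map_inv, hx, ← show app (π g) u = a from hge 0,
        ← show app (π g) v = b from hge 1, ← refl_conj, ← refl_conj]
      group
    rw [← sq_congr hc hk e, show g * x * g⁻¹ * (g * x * g⁻¹) = g * (x * x) * g⁻¹ by group, h1]
    group
  obtain ⟨y, hy⟩ := exists_lift hQ h2 hn hr hv hw
  have hxy : π (x * y) = refl Q u * refl Q w := by
    rw [map_mul, hx, hy, mul_assoc, ← mul_assoc (refl Q v), refl_mul_self, one_mul]
  have e1 := conj hu hw huw hxy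
  have e2 := conj hv hw hvw hy
  apply hanti u v w hu hv hw huv huw hvw x y hx hy
  rw [commutatorElement_def, inv_eq_of_mul_eq_one_right h1, inv_eq_of_mul_eq_one_right e2]
  rw [← mul_assoc] at e1
  exact e1

/-- Lifts of disjoint pairs commute. -/
theorem pair_commute {a b c d : ι → F} (ha : Q a = 1) (hb : Q b = 1) (hc' : Q c = 1) (hd : Q d = 1)
    (hab : polar Q a b = 0) (hac : polar Q a c = 0) (had : polar Q a d = 0) (hbc : polar Q b c = 0)
    (hbd : polar Q b d = 0) {x y : Γ} (hx : π x = refl Q a * refl Q b)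
    (hy : π y = refl Q c * refl Q d) : x * y = y * x := by
  obtain ⟨y1, hy1⟩ := exists_lift hQ h2 hn hr hc' ha
  obtain ⟨y2, hy2⟩ := exists_lift hQ h2 hn hr ha hd
  have pc : ∀ {p q : ι → F}, polar Q p q = 0 → polar Q q p = 0 := fun h =>
    (polar_comm (⇑Q) _ _).trans h
  have hp : π y = π (y1 * y2) := by
    rw [hy, map_mul, hy1, hy2, mul_assoc, ← mul_assoc (refl Q a), refl_mul_self, one_mul]
  have hrab := refl_pair_comm hab
  have n1 : ⁅y1, x⁆ ≠ 1 := hanti c a b hc' ha hb (pc hac) (pc hbc) hab y1 x hy1 hx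
  have n2 : ⁅x, y2⁆ ≠ 1 := hanti b a d hb ha hd (pc hab) hbd had x y2 (hx.trans hrab) hy2
  have rc : ∀ {p q : Γ}, π p * π q = π q * π p → ⁅p, q⁆ ∈ π.ker := fun h => by
    rw [MonoidHom.mem_ker, map_commutatorElement, commutatorElement_eq_one_iff_mul_comm]; exact h
  have cm1 : ∀ {p q r : ι → F}, polar Q p q = 0 → polar Q p r = 0 → polar Q q r = 0 →
      (refl Q p * refl Q q) * (refl Q q * refl Q r) = (refl Q q * refl Q r) * (refl Q p * refl Q q) :=
    fun {p q r} h1 h2' h3 => by
      rw [mul_assoc (refl Q p), ← mul_assoc (refl Q q) (refl Q q), refl_mul_self, one_mul,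
        refl_pair_comm h1, refl_pair_comm h3, mul_assoc (refl Q r), ← mul_assoc (refl Q q) (refl Q q),
        refl_mul_self, one_mul, refl_pair_comm h2']
  have k1 : ⁅x, y1⁆ ∈ π.ker := rc (by rw [hx, hy1]; exact (cm1 (pc hac) (pc hbc) hab).symm)
  have k2 : ⁅x, y2⁆ ∈ π.ker := rc (by rw [hx, hy2, hrab]; exact cm1 (pc hab) hbd had)
  have n1' : ⁅x, y1⁆ ≠ 1 := fun h => n1 (by rw [← commutatorElement_inv, h, inv_one])
  have h12 : ⁅x, y1⁆ = ⁅x, y2⁆ := ker_unique hk k1 k2 n1' n2
  rw [← commutatorElement_eq_one_iff_mul_comm, CfsgLib.Schur.commutator_congr hc (rfl : π x = π x) hp,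
    show ⁅x, y1 * y2⁆ = ⁅x, y1⁆ * (y1 * ⁅x, y2⁆ * y1⁻¹) by simp only [commutatorElement_def]; group,
    Subgroup.mem_center_iff.1 (hc k2) y1, mul_inv_cancel_right, h12, ker_sq hk k2]

/-- A lift of `-1` has order four when there is an orthonormal basis of size `2 l` with `l` odd. -/
theorem neg_one_sq {l : ℕ} (hl : Odd l) (v : ℕ → ι → F) (hv : ∀ i < 2 * l, Q (v i) = 1)
    (ho : ∀ i < 2 * l, ∀ i' < 2 * l, i ≠ i' → polar Q (v i) (v i') = 0)
    (hspan : ∀ g : O Q, (∀ i < 2 * l, app g (v i) = -v i) → ∀ x, app g x = -x) {z : Γ}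
    (hz : ∀ x, app (π z) x = -x) : z * z ≠ 1 := by
  have h0 : 0 < l := hl.pos
  obtain ⟨c, hc1⟩ := exists_lift hQ h2 hn hr (hv 0 (by omega)) (hv 1 (by omega))
  obtain ⟨hck, hcne⟩ := pair_sq hQ h2 hn hr hc hk hanti (hv 0 (by omega)) (hv 1 (by omega))
    (ho 0 (by omega) 1 (by omega) (by omega)) hc1
  have main : ∀ k, k ≤ l → ∃ y : Γ,
      (∀ i < 2 * l, app (π y) (v i) = if i < 2 * k then -v i else v i) ∧
      (∀ i < 2 * l, ∀ i' < 2 * l, 2 * k ≤ i → 2 * k ≤ i' → i ≠ i' → ∀ x,
        π x = refl Q (v i) * refl Q (v i') → x * y = y * x) ∧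
      y * y = (c * c) ^ k := by
    intro k
    induction k with
    | zero =>
      exact fun _ => ⟨1, fun i _ => by rw [map_one, app_one, if_neg (by omega)],
        fun _ _ _ _ _ _ _ _ _ => by rw [mul_one, one_mul], by simp⟩
    | succ k ih =>
      intro hk1
      obtain ⟨y, y1, y2, y3⟩ := ih (by omega)
      have hA := hv (2 * k) (by omega)
      have hB := hv (2 * k + 1) (by omega)
      have hAB := ho (2 * k) (by omega) (2 * k + 1) (by omega) (by omega)
      obtain ⟨x0, hx0⟩ := exists_lift hQ h2 hn hr hA hB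
      obtain ⟨hx0k, hx0ne⟩ := pair_sq hQ h2 hn hr hc hk hanti hA hB hAB hx0
      have hyx := y2 (2 * k) (by omega) (2 * k + 1) (by omega) le_rfl (by omega) (by omega) x0 hx0
      refine ⟨y * x0, fun i hi => ?_, fun i hi i' hi' hki hki' hne x hx => ?_, ?_⟩
      · rw [map_mul, app_mul, hx0, app_mul]
        rcases eq_or_ne i (2 * k) with rfl | hiA
        · rw [app_refl_of_ortho hAB, app_refl_self (by rw [hA]; exact one_ne_zero), map_neg, y1 _ hi,
            if_neg (lt_irrefl _), if_pos (by omega)]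
        rcases eq_or_ne i (2 * k + 1) with rfl | hiB
        · rw [app_refl_self (by rw [hB]; exact one_ne_zero), map_neg,
            app_refl_of_ortho ((polar_comm (⇑Q) _ _).trans hAB), map_neg, y1 _ hi,
            if_neg (by omega), if_pos (by omega)]
        rw [app_refl_of_ortho (ho i hi _ (by omega) hiB), app_refl_of_ortho (ho i hi _ (by omega) hiA),
          y1 _ hi]
        split_ifs <;> first | rfl | omega
      · have e1 := y2 i hi i' hi' (by omega) (by omega) hne x hx
        have e2 := pair_commute hQ h2 hn hr hc hk hanti (hv i hi) (hv i' hi') hA hB (ho i hi i' hi' hne)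
          (ho i hi _ (by omega) (by omega)) (ho i hi _ (by omega) (by omega))
          (ho i' hi' _ (by omega) (by omega)) (ho i' hi' _ (by omega) (by omega)) hx hx0
        rw [← mul_assoc, e1, mul_assoc, e2, mul_assoc]
      · rw [mul_assoc, ← mul_assoc x0, hyx, mul_assoc, ← mul_assoc y y, y3,
          ker_unique hk hx0k hck hx0ne hcne, pow_succ]
  obtain ⟨y, y1, -, y3⟩ := main l le_rfl
  have hy : π z = π y := ext_app fun x => by
    rw [hz, hspan (π y) (fun i hi => by rw [y1 i hi, if_pos hi])]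
  rw [sq_congr hc hk hy, y3]
  obtain ⟨t, rfl⟩ := hl
  rw [pow_succ, pow_mul, pow_two, ker_sq hk hck, one_pow, one_mul]
  exact hcne

end lift

variable (hQ : Q.polarBilin.Nondegenerate) (h2 : (2 : F) ≠ 0)
include hQ h2

/-- An orthonormal basis in even dimension when `-1` lies in `Ω`. -/
theorem exists_orthonormal {l : ℕ} (hn : Fintype.card ι = 2 * l) (hl : 0 < l)
    (h : ∃ g : O Q, g ∈ commutator (O Q) ∧
      ((g : Matrix.GeneralLinearGroup ι F) : Matrix ι ι F) = -1) :
    ∃ v : ℕ → ι → F, (∀ i < 2 * l, Q (v i) = 1) ∧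
      (∀ i < 2 * l, ∀ i' < 2 * l, i ≠ i' → polar Q (v i) (v i') = 0) ∧
      ∀ g : O Q, (∀ i < 2 * l, app g (v i) = -v i) → ∀ x, app g x = -x := by
  classical
  obtain ⟨m, hm⟩ : ∃ m, 2 * l = m + 1 := ⟨2 * l - 1, by omega⟩
  have part : ∀ k, k ≤ m → ∃ x : Fin k → ι → F, (∀ i, Q (x i) = 1) ∧
      ∀ i i', i ≠ i' → polar Q (x i) (x i') = 0 := by
    intro k
    induction k with
    | zero => exact fun _ => ⟨Fin.elim0, fun i => i.elim0, fun i => i.elim0⟩
    | succ k ih =>
      intro hk
      obtain ⟨x, hx, hxo⟩ := ih (by omega)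
      obtain ⟨a, ha, hQa⟩ := exists_unit_perp hQ h2 x x (fun i => Submodule.subset_span ⟨i, rfl⟩)
        (fun i => by rw [hx]; exact one_ne_zero) hxo (by omega)
      refine ⟨Fin.snoc x a, fun i => ?_, fun i i' hne => ?_⟩
      · induction i using Fin.lastCases with
        | last => rw [Fin.snoc_last]; exact hQa
        | cast i => rw [Fin.snoc_castSucc]; exact hx i
      · induction i using Fin.lastCases with
        | last =>
          induction i' using Fin.lastCases with
          | last => exact absurd rfl hne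
          | cast i' => rw [Fin.snoc_last, Fin.snoc_castSucc, polar_comm]; exact ha i'
        | cast i =>
          induction i' using Fin.lastCases with
          | last => rw [Fin.snoc_last, Fin.snoc_castSucc]; exact ha i
          | cast i' =>
            rw [Fin.snoc_castSucc, Fin.snoc_castSucc]
            exact hxo i i' fun e => hne (by rw [e])
  obtain ⟨x, hx, hxo⟩ := part m le_rfl
  have hli : LinearIndependent F x := by
    refine LinearMap.BilinForm.linearIndependent_of_iIsOrtho (B := Q.polarBilin)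
      (LinearMap.BilinForm.iIsOrtho_def.2 fun i j hij => hxo i j hij) fun i => ?_
    change ¬ polar Q (x i) (x i) = 0
    rw [polar_self', hx]
    exact mul_ne_zero h2 one_ne_zero
  set U := Submodule.span F (Set.range x)
  set W := LinearMap.BilinForm.orthogonal Q.polarBilin U
  obtain ⟨a, haW, ha0⟩ : ∃ a ∈ W, a ≠ 0 := by
    by_contra hcon
    push Not at hcon
    have hd : Module.finrank F W = 0 := by
      rw [(Submodule.eq_bot_iff W).2 hcon, finrank_bot]
    rw [LinearMap.BilinForm.finrank_orthogonal hQ, Module.finrank_fintype_fun_eq_card,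
      finrank_span_eq_card hli, Fintype.card_fin] at hd
    omega
  have hxa : ∀ i, polar Q (x i) a = 0 := fun i =>
    LinearMap.BilinForm.mem_orthogonal_iff.1 haW _ (Submodule.subset_span ⟨i, rfl⟩)
  have haU : a ∉ U := fun haU => by
    obtain ⟨c, hc⟩ := (Submodule.mem_span_range_iff_exists_fun F).1 haU
    refine ha0 ?_
    rw [← hc]
    refine Finset.sum_eq_zero fun i _ => ?_
    have h' := hxa i
    rw [← hc, ← polarBilin_apply_apply Q (x i), map_sum] at h'
    simp only [map_smul, polarBilin_apply_apply, smul_eq_mul] at h'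
    rw [Finset.sum_eq_single i (fun j _ hj => by rw [hxo i j (Ne.symm hj), mul_zero])
      (fun h'' => absurd (Finset.mem_univ i) h''), polar_self', hx, mul_one] at h'
    rw [(mul_eq_zero.1 h').resolve_right h2, zero_smul]
  have hspan : Submodule.span F (Set.range (Fin.snoc x a)) = ⊤ :=
    (linearIndependent_fin_snoc.2 ⟨hli, haU⟩).span_eq_top_of_card_eq_finrank'
      (by rw [Fintype.card_fin, Module.finrank_fintype_fun_eq_card]; omega)
  have hQa : Q a ≠ 0 := fun hQa => by
    refine ha0 (hQ.2 a fun y => ?_)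
    have hy : y ∈ Submodule.span F (Set.range (Fin.snoc x a)) := by rw [hspan]; exact Submodule.mem_top
    induction hy using Submodule.span_induction with
    | mem y hy =>
      obtain ⟨i, rfl⟩ := hy
      induction i using Fin.lastCases with
      | last =>
        rw [Fin.snoc_last, polarBilin_apply_apply, polar_self', hQa, mul_zero]
      | cast i => rw [Fin.snoc_castSucc]; exact hxa i
    | zero => rw [map_zero, LinearMap.zero_apply]
    | add p q _ _ hp hq => rw [map_add, LinearMap.add_apply, hp, hq, add_zero]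
    | smul r p _ hp => rw [map_smul, LinearMap.smul_apply, hp, smul_zero]
  obtain ⟨d, hd⟩ := FiniteField.exists_nonsquare (F := F) (fun hch => by
    have : CharP F 2 := ringChar.of_eq hch
    exact h2 CharTwo.two_eq_zero)
  have hw : ∀ i, Q ((Fin.snoc x a : Fin (m + 1) → ι → F) i) ≠ 0 := fun i => by
    induction i using Fin.lastCases with
    | last => rw [Fin.snoc_last]; exact hQa
    | cast i => rw [Fin.snoc_castSucc, hx]; exact one_ne_zero
  have hwo : ∀ i i', i ≠ i' → polar Q ((Fin.snoc x a : Fin (m + 1) → ι → F) i)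
      ((Fin.snoc x a : Fin (m + 1) → ι → F) i') = 0 := fun i i' hne => by
    induction i using Fin.lastCases with
    | last =>
      induction i' using Fin.lastCases with
      | last => exact absurd rfl hne
      | cast i' => rw [Fin.snoc_last, Fin.snoc_castSucc, polar_comm]; exact hxa i'
    | cast i =>
      induction i' using Fin.lastCases with
      | last => rw [Fin.snoc_last, Fin.snoc_castSucc]; exact hxa i
      | cast i' =>
        rw [Fin.snoc_castSucc, Fin.snoc_castSucc]
        exact hxo i i' fun e => hne (by rw [e])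
  have hp := (neg_one_mem_iff hQ h2 hd (Fin.snoc x a) hw hwo (by rw [Fintype.card_fin]; omega)).1 h
  obtain ⟨r, hr⟩ : IsSquare (Q a) := by
    by_contra hns
    rw [Fin.prod_univ_castSucc] at hp
    simp only [Fin.snoc_castSucc, hx, IsSquare.one, if_true, Fin.snoc_last, if_neg hns,
      Finset.prod_const, Finset.card_univ, Fintype.card_fin] at hp
    have hodd : Odd m := ⟨l - 1, by omega⟩
    simp [Prod.ext_iff, hodd.neg_one_pow] at hp
  have hr0 : r ≠ 0 := fun h0 => hQa (by rw [hr, h0, zero_mul])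
  let v : ℕ → ι → F := fun i => if hi : i < m then x ⟨i, hi⟩ else r⁻¹ • a
  have hvlt : ∀ {i}, (hi : i < m) → v i = x ⟨i, hi⟩ := fun hi => dif_pos hi
  have hvlast : v m = r⁻¹ • a := dif_neg (lt_irrefl m)
  have hQlast : Q (r⁻¹ • a) = 1 := by
    rw [QuadraticMap.map_smul, hr, smul_eq_mul]; field_simp
  refine ⟨v, fun i hi => ?_, fun i hi i' hi' hne => ?_, fun g hg => ?_⟩
  · rcases Nat.lt_or_ge i m with h1 | h1
    · rw [hvlt h1]; exact hx _
    · rw [show i = m by omega, hvlast]; exact hQlast
  · rcases Nat.lt_or_ge i m with h1 | h1 <;> rcases Nat.lt_or_ge i' m with h3 | h3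
    · rw [hvlt h1, hvlt h3]; exact hxo _ _ fun e => hne (congrArg Fin.val e)
    · rw [hvlt h1, show i' = m by omega, hvlast, polar_smul_right, hxa, smul_zero]
    · rw [hvlt h3, show i = m by omega, hvlast, polar_smul_left, polar_comm, hxa, smul_zero]
    · omega
  · have hL : app g = -LinearMap.id := LinearMap.ext_on_range hspan fun i => by
      induction i using Fin.lastCases with
      | last =>
        have h1 := hg m (by omega)
        rw [hvlast, map_smul, ← smul_neg] at h1
        rw [Fin.snoc_last]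
        exact smul_right_injective _ (inv_ne_zero hr0) h1
      | cast i =>
        have h1 := hg i (by omega)
        rw [hvlt i.2] at h1
        rw [Fin.snoc_castSucc]
        exact h1
    intro y
    rw [hL]
    rfl

end CfsgLib.MinusMult
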