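import Cfsg.Agent.Lib.MinusMult.Upper
import Cfsg.Agent.Lib.MinusMult.Lower
import Cfsg.Agent.S0791

/-!
The multiplier of `PΩ⁻` in dimension `2l`, `l ≥ 4`.
-/

set_option autoImplicit false
set_option linter.unusedSectionVars false

namespace CfsgLib.MinusMult

open QuadraticMap CfsgLib.Orth CfsgLib.POmega
open scoped commutatorElement

universe u

variable {F : Type u} [Field F] [Fintype F]

theorem four_of_dvd {o : ℕ} (h : o ∣ 4) (h' : ¬ o ∣ 2) : o = 4 := by
  have := Nat.le_of_dvd (by norm_num) h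
  interval_cases o <;> simp_all

/-- A cover with cyclic kernel of the largest possible order gives the multiplier. -/
theorem cyclic_of_cover {m : ℕ} {a b : F}
    (hab : ∀ z₁ z₂ : F, z₁ ^ 2 + a * z₁ * z₂ + b * z₂ ^ 2 = 0 → z₁ = 0 ∧ z₂ = 0) (hm : 3 ≤ m)
    {Γ : Type u} [Group Γ] [Finite Γ]
    (q : Γ →* commutator (O (minusQ m F a b)) ⧸ Subgroup.center (commutator (O (minusQ m F a b))))
    (hq : Function.Surjective q) (hc : q.ker ≤ Subgroup.center Γ) (hperf : commutator Γ = ⊤)
    {g : ℕ} (hg : Nat.card q.ker = g) (hcyc : IsCyclic q.ker)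
    (hbound : Nat.gcd 2 (Fintype.card F - 1) *
      Nat.card (Subgroup.center (commutator (O (minusQ m F a b)))) ≤ g) :
    Cfsg.HasSchurMultiplier
      (commutator (O (minusQ m F a b)) ⧸ Subgroup.center (commutator (O (minusQ m F a b))))
      (Multiplicative (ZMod g)) :=
  hasSchurMultiplier_of_cover hab hm q hq hc hperf (hbound.trans hg.ge)
    (mulEquivOfCyclicCardEq (by
      rw [hg, Nat.card_eq_of_bijective _ Multiplicative.toAdd.bijective, Nat.card_zmod]))

/-- The multiplier, from the three facts about `-1` and `Ω⁻`. -/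
theorem hasCyclicSchurMultiplier_minus {q : ℕ} (hF : Fintype.card F = q) {l : ℕ} (hl : 4 ≤ l)
    (a b : F) (hab : ∀ z₁ z₂ : F, z₁ ^ 2 + a * z₁ * z₂ + b * z₂ ^ 2 = 0 → z₁ = 0 ∧ z₂ = 0) :
    Cfsg.HasCyclicSchurMultiplier (Cfsg.POmega F ⇑(minusQ (l - 1) F a b)) (Nat.gcd 4 (q ^ l + 1)) := by
  classical
  show Cfsg.HasSchurMultiplier
    (commutator (O (minusQ (l - 1) F a b)) ⧸ Subgroup.center (commutator (O (minusQ (l - 1) F a b))))
    (Multiplicative (ZMod (Nat.gcd 4 (q ^ l + 1))))
  have hQ := minusQ_nondegenerate_any (m := l - 1) hab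
  have hn : 7 ≤ Fintype.card ((Fin (l - 1) ⊕ Fin (l - 1)) ⊕ Fin 2) := by simp; omega
  have hq0 : 1 ≤ q := hF ▸ Fintype.card_pos
  let G := commutator (O (minusQ (l - 1) F a b))
  let mk := QuotientGroup.mk' (Subgroup.center ↥G)
  have hGperf : commutator ↥G = ⊤ := CfsgLib.POmega.omega_perfect hQ (by omega)
  by_cases hodd : Odd q
  · have h2 : (2 : F) ≠ 0 := two_ne_zero_of_odd (hF.symm ▸ hodd)
    have hg2 : Nat.gcd 2 (Fintype.card F - 1) = 2 := by
      rw [hF]; exact Nat.gcd_eq_left (even_iff_two_dvd.1 (Nat.Odd.sub_odd hodd odd_one))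
    obtain ⟨Γ, _, _, π, hr, hc, hperf, hanti⟩ := exists_anti_cover hQ h2 hn
    have hle := card_ker_le hab (by omega) π hc hperf hr
    rw [hg2] at hle
    have hge : 2 ≤ Nat.card π.ker := by
      obtain ⟨u, hu⟩ := exists_value_ne hQ h2 (by omega) (one_ne_zero : (1 : F) ≠ 0)
      obtain ⟨v, hv, huv, -⟩ := CfsgLib.OddMult.exists_nbr hQ h2 hu hn u
      obtain ⟨w, hw, huw, hvw⟩ := CfsgLib.OddMult.exists_nbr hQ h2 hu hn v
      obtain ⟨x, hx⟩ := exists_lift hQ h2 hn hr hu hv
      obtain ⟨y, hy⟩ := exists_lift hQ h2 hn hr hv hw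
      have h1 := hanti u v w hu hv hw huv huw hvw x y hx hy
      have h3 : ⁅x, y⁆ ∈ π.ker := by
        rw [MonoidHom.mem_ker, map_commutatorElement, commutatorElement_eq_one_iff_mul_comm, hx, hy,
          mul_assoc (refl (minusQ (l - 1) F a b) u),
          ← mul_assoc (refl (minusQ (l - 1) F a b) v) (refl (minusQ (l - 1) F a b) v), refl_mul_self,
          one_mul, refl_pair_comm huv, refl_pair_comm hvw,
          mul_assoc (refl (minusQ (l - 1) F a b) w),
          ← mul_assoc (refl (minusQ (l - 1) F a b) v) (refl (minusQ (l - 1) F a b) v), refl_mul_self,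
          one_mul, refl_pair_comm huw]
      have hnt : Nontrivial π.ker := ⟨⟨⟨_, h3⟩, 1, fun h => h1 (congrArg Subtype.val h)⟩⟩
      exact Finite.one_lt_card
    have hk2 : Nat.card π.ker = 2 := le_antisymm hle hge
    let π' : Γ →* ↥G := π.codRestrict G fun g => (hr ▸ (⟨g, rfl⟩ : π g ∈ π.range) : π g ∈ commutator (O (minusQ (l - 1) F a b)))
    have hπ's : Function.Surjective π' := fun ⟨g, hg⟩ => by
      obtain ⟨x, hx⟩ : g ∈ π.range := hr.symm ▸ hg
      exact ⟨x, Subtype.ext hx⟩
    let qm : Γ →* ↥G ⧸ Subgroup.center ↥G := mk.comp π'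
    have hqs : Function.Surjective qm := (QuotientGroup.mk'_surjective _).comp hπ's
    have hπ'k : π'.ker = π.ker := MonoidHom.ker_codRestrict π G _
    have hqc : qm.ker ≤ Subgroup.center Γ := fun x hx =>
      CfsgLib.SchurCover.mem_center_of_map_mem_center (Group.isPerfect_def.2 hperf) π' (hπ'k ▸ hc)
        fun g => (Subgroup.mem_center_iff.1 ((QuotientGroup.eq_one_iff _).1 hx) (π' g)).symm
    have hcard : Nat.card qm.ker = 2 * Nat.card (Subgroup.center ↥G) := by
      refine Nat.eq_of_mul_eq_mul_right (Nat.card_pos (α := ↥G ⧸ Subgroup.center ↥G)) ?_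
      have e1 : Nat.card qm.ker * Nat.card (↥G ⧸ Subgroup.center ↥G) = Nat.card Γ := by
        rw [← qm.ker.card_mul_index, Subgroup.index_ker, MonoidHom.range_eq_top.2 hqs, Subgroup.card_top]
      have e2 : Nat.card π'.ker * Nat.card ↥G = Nat.card Γ := by
        rw [← π'.ker.card_mul_index, Subgroup.index_ker, MonoidHom.range_eq_top.2 hπ's, Subgroup.card_top]
      rw [e1, ← e2, hπ'k, hk2, Subgroup.card_eq_card_quotient_mul_card_subgroup (Subgroup.center ↥G)]
      ring
    have hpow : Odd (q ^ l) := hodd.pow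
    rw [Nat.odd_iff] at hpow
    have hS := Cfsg.Agent.S0791.result hF hodd l (by omega) a b hab
    have hiff : (∃ g : O (minusQ (l - 1) F a b), g ∈ commutator (O (minusQ (l - 1) F a b)) ∧
        ((g : Matrix.GeneralLinearGroup ((Fin (l - 1) ⊕ Fin (l - 1)) ⊕ Fin 2) F) :
          Matrix ((Fin (l - 1) ⊕ Fin (l - 1)) ⊕ Fin 2) ((Fin (l - 1) ⊕ Fin (l - 1)) ⊕ Fin 2) F) = -1) ↔ q ^ l % 4 = 3 := by
      rw [CfsgLib.Orth.O, CfsgLib.Orth.minusQ_coe]
      exact hS
    by_cases h4 : q ^ l % 4 = 3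
    · have hg : Nat.gcd 4 (q ^ l + 1) = 4 := Nat.gcd_eq_left (by omega)
      rw [hg]
      have hneg := hiff.2 h4
      have hZ := CfsgLib.POmega.center_eq_two hQ hn h2 hneg
      rw [hZ] at hcard
      have hlodd : Odd l := by
        by_contra hev
        obtain ⟨k, rfl⟩ := Nat.not_odd_iff_even.1 hev
        have h8 : q * q % 4 = 1 := by
          obtain ⟨t, rfl⟩ := hodd
          rw [show (2 * t + 1) * (2 * t + 1) = 1 + 4 * (t * t + t) by ring, Nat.add_mul_mod_self_left]
        rw [← two_mul, pow_mul, Nat.pow_mod, pow_two, h8, one_pow] at h4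
        simp at h4
      have hN : Fintype.card ((Fin (l - 1) ⊕ Fin (l - 1)) ⊕ Fin 2) = 2 * l := by simp; omega
      obtain ⟨v, hv, hvo, hvs⟩ := exists_orthonormal hQ h2 hN (by omega) hneg
      obtain ⟨g0, hg0, hg0m⟩ := hneg
      obtain ⟨z, hz⟩ : g0 ∈ π.range := hr.symm ▸ hg0
      have hzx : ∀ x, app (π z) x = -x := fun x => by
        rw [hz, app_apply, hg0m, Matrix.neg_mulVec, Matrix.one_mulVec]
      have hz2 : z * z ≠ 1 := neg_one_sq hQ h2 hn hr hc hle hanti hlodd v hv hvo hvs hzx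
      have hzq : z ∈ qm.ker := by
        show mk (π' z) = 1
        refine (QuotientGroup.eq_one_iff _).2 (CfsgLib.POmega.mem_center_of_scalar (e := -1) fun x => ?_)
        show app (π z) x = _
        rw [hzx, neg_one_smul]
      have hord : orderOf (⟨z, hzq⟩ : qm.ker) = 4 := by
        have h' : orderOf (⟨z, hzq⟩ : qm.ker) ∣ 4 := (show Nat.card qm.ker = 4 from hcard) ▸ orderOf_dvd_natCard _
        have hne1 : ¬ orderOf (⟨z, hzq⟩ : qm.ker) ∣ 2 := fun hd => hz2 (by
          have := orderOf_dvd_iff_pow_eq_one.1 hd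
          rw [pow_two] at this
          exact congrArg Subtype.val this)
        exact four_of_dvd h' hne1
      have hcard4 : Nat.card qm.ker = 4 := hcard
      exact cyclic_of_cover hab (by omega) qm hqs hqc hperf hcard4
        (isCyclic_of_orderOf_eq_card _ (hord.trans hcard4.symm)) (le_of_eq (by rw [hg2, hZ]))
    · have hg : Nat.gcd 4 (q ^ l + 1) = 2 := by
        rw [Nat.gcd_rec]
        have : (q ^ l + 1) % 4 = 2 := by omega
        rw [this]; rfl
      rw [hg]
      have hZ := CfsgLib.POmega.center_eq_bot hQ hn (Or.inr fun h => h4 (hiff.1 h))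
      rw [hZ] at hcard
      have : Fact (Nat.Prime 2) := ⟨Nat.prime_two⟩
      have hcard2 : Nat.card qm.ker = 2 := hcard
      exact cyclic_of_cover hab (by omega) qm hqs hqc hperf hcard2
        (isCyclic_of_prime_card (p := 2) hcard2) (le_of_eq (by rw [hg2, hZ]))
  · have h2 : (2 : F) = 0 := two_eq_zero_of_even (hF.symm ▸ hodd)
    have hev : Even q := Nat.not_odd_iff_even.1 hodd
    have hg : Nat.gcd 4 (q ^ l + 1) = 1 := by
      have hev' : Even (q ^ l) := hev.pow_of_ne_zero (by omega)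
      rw [Nat.even_iff] at hev'
      rw [show (4 : ℕ) = 2 ^ 2 by rfl]
      exact Nat.Coprime.pow_left 2 (Nat.prime_two.coprime_iff_not_dvd.2 (by omega))
    rw [hg]
    have hZ := CfsgLib.POmega.center_eq_bot hQ hn (Or.inl h2)
    have hg2 : Nat.gcd 2 (Fintype.card F - 1) = 1 := by
      rw [hF]; exact Nat.coprime_two_left.2 (Nat.Even.sub_odd hq0 hev odd_one)
    have hker : mk.ker = Subgroup.center ↥G := QuotientGroup.ker_mk' _
    have hcard : Nat.card mk.ker = 1 := by rw [hker]; exact hZ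
    have : Subsingleton ↥mk.ker := (Nat.card_eq_one_iff_unique.1 hcard).1
    exact cyclic_of_cover hab (by omega) mk (QuotientGroup.mk'_surjective _)
      (by rw [hker]) hGperf hcard isCyclic_of_subsingleton (le_of_eq (by rw [hg2, hZ]))

end CfsgLib.MinusMult
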