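import Cfsg.Agent.Lib.MinusMult.InvForm
import Cfsg.Agent.Lib.Schur.Criteria

/-!
Commutators of lifts of Eichler transformations in a central extension: the preimage of each group
of Eichler transformations with a common vector is abelian, and the commutators over a totally
singular line define lifts of the long root elements.
-/

set_option autoImplicit false
set_option linter.unusedSectionVars false

namespace CfsgLib.MinusMult

open QuadraticMap CfsgLib.Orth CfsgLib.POmega
open scoped commutatorElement

variable {ι : Type} [Fintype ι] [DecidableEq ι] {F : Type*} [Field F]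
  {Q : QuadraticForm F (ι → F)} {E : Type*} [Group E]

/-- The standing hypotheses. -/
structure Ctx (π : E →* O Q) : Prop where
  nd : Q.polarBilin.Nondegenerate
  card : 8 ≤ Fintype.card ι
  cen : π.ker ≤ Subgroup.center E
  mem : ∀ u a, Q u = 0 → polar Q u a = 0 → eich Q u a ∈ π.range
  idx : ∀ s : Fin 4 → (ι → F), (∀ i j, polar Q (s i) (s j) = 0) → (∀ i, Q (s i) = 0) →
    LinearIndependent F s → 9 ≤ Fintype.card ι

variable {π : E →* O Q}

/-- A chosen lift. -/
noncomputable def lft (π : E →* O Q) (g : O Q) : E := Function.invFun π g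

/-- The commutator of lifts of two Eichler transformations. -/
noncomputable def cm (π : E →* O Q) (u a v b : ι → F) : E :=
  ⁅lft π (eich Q u a), lft π (eich Q v b)⁆

theorem ker_eq_one {z : E} (hc : π.ker ≤ Subgroup.center E) (hz : z ∈ π.ker) (x : E) :
    x * z * x⁻¹ = z := by
  rw [(CfsgLib.Schur.ker_commute hc hz x).symm.eq, mul_inv_cancel_right]

theorem commutator_mul_left' (x y z : E) : ⁅x * y, z⁆ = x * ⁅y, z⁆ * x⁻¹ * ⁅x, z⁆ := by
  simp only [commutatorElement_def]; group

theorem commutator_mul_right' (x y z : E) : ⁅x, y * z⁆ = ⁅x, y⁆ * (y * ⁅x, z⁆ * y⁻¹) := by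
  simp only [commutatorElement_def]; group

namespace Ctx

variable (H : Ctx π)
include H

theorem map_lft {u a : ι → F} (hu : Q u = 0) (ha : polar Q u a = 0) :
    π (lft π (eich Q u a)) = eich Q u a :=
  Function.invFun_eq (H.mem u a hu ha)

theorem eval {x y : E} {u a v b : ι → F} (hu : Q u = 0) (ha : polar Q u a = 0) (hv : Q v = 0)
    (hb : polar Q v b = 0) (hx : π x = eich Q u a) (hy : π y = eich Q v b) :
    ⁅x, y⁆ = cm π u a v b :=
  CfsgLib.Schur.commutator_congr H.cen (hx.trans (H.map_lft hu ha).symm)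
    (hy.trans (H.map_lft hv hb).symm)

theorem conj_cm (g : E) {u a v b : ι → F} (hu : Q u = 0) (ha : polar Q u a = 0) (hv : Q v = 0)
    (hb : polar Q v b = 0) :
    g * cm π u a v b * g⁻¹ =
      cm π (app (π g) u) (app (π g) a) (app (π g) v) (app (π g) b) := by
  rw [cm, show g * ⁅lft π (eich Q u a), lft π (eich Q v b)⁆ * g⁻¹ =
      ⁅g * lft π (eich Q u a) * g⁻¹, g * lft π (eich Q v b) * g⁻¹⁆ by
    simp only [commutatorElement_def]; group]
  exact H.eval (by rw [Q_app, hu]) (by rw [polar_app, ha]) (by rw [Q_app, hv]) (by rw [polar_app, hb])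
    (by rw [map_mul, map_mul, map_inv, H.map_lft hu ha, eich_conj hu ha])
    (by rw [map_mul, map_mul, map_inv, H.map_lft hv hb, eich_conj hv hb])

theorem cm_inv (u a v b : ι → F) : (cm π u a v b)⁻¹ = cm π v b u a := commutatorElement_inv _ _

theorem cm_self_mem {u a b : ι → F} (hu : Q u = 0) (ha : polar Q u a = 0) (hb : polar Q u b = 0) :
    cm π u a u b ∈ π.ker := by
  rw [MonoidHom.mem_ker, cm, map_commutatorElement, H.map_lft hu ha, H.map_lft hu hb,
    commutatorElement_eq_one_iff_mul_comm, eich_add hu ha hb, eich_add hu hb ha, add_comm]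

theorem cm_self_add_left {u a a' b : ι → F} (hu : Q u = 0) (ha : polar Q u a = 0)
    (ha' : polar Q u a' = 0) (hb : polar Q u b = 0) :
    cm π u (a + a') u b = cm π u a u b * cm π u a' u b := by
  rw [← H.eval hu (by rw [polar_add_right, ha, ha', add_zero]) hu hb
      (x := lft π (eich Q u a) * lft π (eich Q u a'))
      (by rw [map_mul, H.map_lft hu ha, H.map_lft hu ha', eich_add hu ha ha']) (H.map_lft hu hb),
    commutator_mul_left']
  have hk := H.cm_self_mem hu ha' hb
  show lft π (eich Q u a) * cm π u a' u b * (lft π (eich Q u a))⁻¹ * cm π u a u b = _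
  rw [ker_eq_one H.cen hk, (CfsgLib.Schur.ker_commute H.cen hk _).eq]

theorem cm_self_add_right {u a b b' : ι → F} (hu : Q u = 0) (ha : polar Q u a = 0)
    (hb : polar Q u b = 0) (hb' : polar Q u b' = 0) :
    cm π u a u (b + b') = cm π u a u b * cm π u a u b' := by
  rw [← H.cm_inv, ← H.cm_inv u b, ← H.cm_inv u b', H.cm_self_add_left hu hb hb' ha, mul_inv_rev,
    (CfsgLib.Schur.ker_commute H.cen (inv_mem (H.cm_self_mem hu hb' ha)) _).eq]

/-- Commutative group structure on the kernel. -/
@[instance_reducible]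
noncomputable def kerComm : CommGroup ↥π.ker :=
  { (inferInstance : Group ↥π.ker) with
    mul_comm := fun a b => Subtype.ext (CfsgLib.Schur.ker_commute H.cen a.2 b).eq }

variable [Fintype F]

theorem finrank_split_top {u f : ι → F} (h : Pr Q u f) :
    Fintype.card ι ≤ Module.finrank F (split Q ⊤ u f) + 2 := by
  rw [← finrank_top_fun (F := F) (ι := ι)]
  exact finrank_split h trivial trivial

/-- The pairing of two lifts over the same vector. -/
theorem cm_self_eq {u fu e f : ι → F} (h : Pr Q u fu) (he : e ∈ split Q ⊤ u fu)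
    (hf : f ∈ split Q ⊤ u fu) (hef : Pr Q e f) {a b : ι → F} (ha : polar Q u a = 0)
    (hb : polar Q u b = 0) : cm π u a u b = cm π u (polar Q a b • e) u f := by
  classical
  letI := H.kerComm
  set W := split Q ⊤ u fu
  have hgW : Good Q W := good_split (good_top H.nd) h trivial trivial
  have hne : ∃ p ∈ split Q W e f, p ≠ 0 := exists_ne_zero (by
    have h1 := finrank_split (Q := Q) hef he hf
    have h2 : Fintype.card ι ≤ Module.finrank F W + 2 := H.finrank_split_top h
    have h3 := H.card
    omega)
  let β : (ι → F) → (ι → F) → ↥π.ker := fun x y =>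
    if hxy : polar Q u x = 0 ∧ polar Q u y = 0 then ⟨_, H.cm_self_mem h.qu hxy.1 hxy.2⟩ else 1
  have hval : ∀ {x y}, x ∈ W → y ∈ W → (β x y : E) = cm π u x u y := fun {x y} hx hy => by
    simp only [β, dif_pos (And.intro hx.2.1 hy.2.1)]
  have hβ : InvOn Q W β := by
    refine ⟨fun x hx x' hx' y hy => Subtype.ext ?_, fun x hx y hy y' hy' => Subtype.ext ?_,
      fun v hv hQv _ y hy hvy x hx z hz => Subtype.ext ?_⟩
    · rw [Subgroup.coe_mul, hval (add_mem hx hx') hy, hval hx hy, hval hx' hy,
        H.cm_self_add_left h.qu hx.2.1 hx'.2.1 hy.2.1]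
    · rw [Subgroup.coe_mul, hval hx (add_mem hy hy'), hval hx hy, hval hx hy',
        H.cm_self_add_right h.qu hx.2.1 hy.2.1 hy'.2.1]
    · have hfix : app (eich Q v y) u = u := by
        rw [app_eich hQv hvy, hv.2.1, hy.2.1]; simp
      have hfix' : app (eich Q v y) fu = fu := by
        rw [app_eich hQv hvy, hv.2.2, hy.2.2]; simp
      have hm : ∀ {w}, w ∈ W → app (eich Q v y) w ∈ W := fun {w} hw =>
        ⟨trivial, by rw [← hfix, polar_app, hw.2.1], by rw [← hfix', polar_app, hw.2.2]⟩
      have hc := H.conj_cm (lft π (eich Q v y)) h.qu hx.2.1 h.qu hz.2.1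
      rw [ker_eq_one H.cen (H.cm_self_mem h.qu hx.2.1 hz.2.1), H.map_lft hQv hvy, hfix] at hc
      rw [hval (hm hx) (hm hz), hval hx hz, hc]
  obtain ⟨a', ha', ea⟩ := exists_decomp h trivial trivial (x := a) (V := ⊤) trivial
  obtain ⟨b', hb', eb⟩ := exists_decomp h trivial trivial (x := b) (V := ⊤) trivial
  rw [ha] at ea; rw [hb] at eb
  have hu2 := polar_self_zero h.qu
  have ea' : eich Q u a = eich Q u a' := by
    rw [ea, zero_smul, add_zero, add_comm, eich_add_smul h.qu ha'.2.1]
  have eb' : eich Q u b = eich Q u b' := by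
    rw [eb, zero_smul, add_zero, add_comm, eich_add_smul h.qu hb'.2.1]
  have hB : polar Q a b = polar Q a' b' := by
    rw [ea, eb]
    simp [polar_add_left, polar_add_right, polar_smul_left, polar_smul_right, hu2, hb'.2.1,
      polar_comm (f := ⇑Q) a' u, ha'.2.1]
  have key := congrArg Subtype.val (hβ.eq_polar hef he hf hne hgW ha' hb')
  rw [hval ha' hb', hval (W.smul_mem _ he) hf] at key
  rw [hB, ← key]
  show ⁅lft π (eich Q u a), lft π (eich Q u b)⁆ = _
  rw [ea', eb']
  rfl

theorem cm_self_perp {u a b : ι → F} (hu : Q u = 0) (ha : polar Q u a = 0) (hb : polar Q u b = 0)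
    (hab : polar Q a b = 0) : cm π u a u b = 1 := by
  rcases eq_or_ne u 0 with rfl | hu0
  · rw [cm, eich_zero_left, eich_zero_left, commutatorElement_self]
  obtain ⟨fu, -, h⟩ := exists_partner_in (good_top H.nd) trivial hu hu0
  have hgW := good_split (good_top H.nd) h trivial trivial
  obtain ⟨e, he, f, hf, hef⟩ := exists_pair_in hgW (by
    have := H.finrank_split_top h
    have := H.card
    omega)
  rw [H.cm_self_eq h he hf hef ha hb, hab, zero_smul]
  have h1 := H.cm_self_add_left hu (a := 0) (a' := 0) (by simp) (by simp) hf.2.1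
  rw [add_zero] at h1
  exact left_eq_mul.1 h1

/-- Lifts over one vector of a singular multiple and anything orthogonal to it commute. -/
theorem commute_root {x y : E} {u a b : ι → F} (hu : Q u = 0) (ha : polar Q u a = 0)
    (hb : polar Q u b = 0) (hab : polar Q a b = 0) (hx : π x = eich Q u a) (hy : π y = eich Q u b) :
    x * y * x⁻¹ = y := by
  have := H.eval hu ha hu hb hx hy
  rw [H.cm_self_perp hu ha hb hab, commutatorElement_def, mul_inv_eq_one] at this
  exact this

theorem map_cm {u w a b : ι → F} (hu : Q u = 0) (hw : Q w = 0) (huw : polar Q u w = 0)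
    (ha : polar Q u a = 0) (ha' : polar Q w a = 0) (hb : polar Q u b = 0) (hb' : polar Q w b = 0) :
    π (cm π u a w b) = eich Q u (polar Q a b • w) := by
  rw [cm, map_commutatorElement, H.map_lft hu ha, H.map_lft hw hb', commutatorElement_def,
    eich_conj hw hb']
  have e1 : app (eich Q u a) w = w := by
    rw [app_eich hu ha, polar_comm (f := ⇑Q) w u, huw, ha']; simp
  have e2 : app (eich Q u a) b = b + (-(polar Q a b)) • u := by
    rw [app_eich hu ha, polar_comm (f := ⇑Q) b u, hb, polar_comm (f := ⇑Q) b a]; simp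
  have hs : polar Q w (b + (-(polar Q a b)) • u) = 0 := by
    rw [polar_add_right, polar_smul_right, polar_comm (f := ⇑Q) w u, huw, hb', smul_zero, add_zero]
  rw [e1, e2, eich_neg_inv hw hb', eich_add hw hs (by rw [polar_neg_right, hb', neg_zero]),
    show b + (-(polar Q a b)) • u + -b = -(polar Q a b • u) by module,
    ← eich_swap (by rw [QuadraticMap.map_smul, hu, smul_zero]) hw
      (by rw [polar_smul_left, huw, smul_zero]), eich_smul hu huw]

theorem cm_add_left {u w a a' b : ι → F} (hu : Q u = 0) (hw : Q w = 0) (huw : polar Q u w = 0)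
    (ha : polar Q u a = 0) (ha2 : polar Q w a = 0) (ha' : polar Q u a' = 0)
    (ha2' : polar Q w a' = 0) (hb : polar Q u b = 0) (hb2 : polar Q w b = 0) :
    cm π u (a + a') w b = cm π u a' w b * cm π u a w b := by
  rw [← H.eval hu (by rw [polar_add_right, ha, ha', add_zero]) hw hb2
      (x := lft π (eich Q u a) * lft π (eich Q u a'))
      (by rw [map_mul, H.map_lft hu ha, H.map_lft hu ha', eich_add hu ha ha']) (H.map_lft hw hb2),
    commutator_mul_left']
  show lft π (eich Q u a) * cm π u a' w b * (lft π (eich Q u a))⁻¹ * cm π u a w b = _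
  rw [H.commute_root hu ha (by rw [polar_smul_right, huw, smul_zero])
    (b := polar Q a' b • w) (by rw [polar_smul_right, polar_comm (f := ⇑Q) a w, ha2, smul_zero])
    (H.map_lft hu ha) (H.map_cm hu hw huw ha' ha2' hb hb2)]

theorem cm_add_right {u w a b b' : ι → F} (hu : Q u = 0) (hw : Q w = 0) (huw : polar Q u w = 0)
    (ha : polar Q u a = 0) (ha2 : polar Q w a = 0) (hb : polar Q u b = 0) (hb2 : polar Q w b = 0)
    (hb' : polar Q u b' = 0) (hb2' : polar Q w b' = 0) :
    cm π u a w (b + b') = cm π u a w b * cm π u a w b' := by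
  rw [← H.cm_inv, ← H.cm_inv w b, ← H.cm_inv w b', H.cm_add_left hw hu
    (by rw [polar_comm, huw]) hb2 hb hb2' hb' ha2 ha, mul_inv_rev]

/-- Two lifts of elements of a long root group commute. -/
theorem commute_long {x y : E} {u w : ι → F} (hu : Q u = 0) (hw : Q w = 0) (huw : polar Q u w = 0)
    {c c' : F} (hx : π x = eich Q u (c • w)) (hy : π y = eich Q u (c' • w)) : x * y = y * x := by
  have := H.commute_root hu (by rw [polar_smul_right, huw, smul_zero])
    (by rw [polar_smul_right, huw, smul_zero])
    (by rw [polar_smul_left, polar_smul_right, polar_self_zero hw, smul_zero, smul_zero]) hx hy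
  exact mul_inv_eq_iff_eq_mul.1 this

end Ctx

end CfsgLib.MinusMult
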