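import Cfsg.Agent.Lib.MinusMult.LongRoot

/-!
The canonical lifts of the long root elements.
-/

set_option autoImplicit false
set_option linter.unusedSectionVars false

namespace CfsgLib.MinusMult

open QuadraticMap CfsgLib.Orth CfsgLib.POmega
open scoped commutatorElement

variable {ι : Type} [Fintype ι] [DecidableEq ι] {F : Type*} [Field F] [Fintype F]
  {Q : QuadraticForm F (ι → F)} {E : Type*} [Group E] {π : E →* O Q}

/-- The elements `eich u (c • w)`. -/
def lineGroup (Q : QuadraticForm F (ι → F)) {u w : ι → F} (hu : Q u = 0) (huw : polar Q u w = 0) :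
    Subgroup (O Q) where
  carrier := {g | ∃ c : F, g = eich Q u (c • w)}
  mul_mem' := by
    rintro _ _ ⟨c, rfl⟩ ⟨d, rfl⟩
    exact ⟨c + d, by rw [eich_add hu (by rw [polar_smul_right, huw, smul_zero])
      (by rw [polar_smul_right, huw, smul_zero]), add_smul]⟩
  one_mem' := ⟨0, by rw [zero_smul, eich_zero_right hu]⟩
  inv_mem' := by
    rintro _ ⟨c, rfl⟩
    exact ⟨-c, by rw [eich_neg_inv hu (by rw [polar_smul_right, huw, smul_zero]), neg_smul]⟩

namespace Ctx

variable (H : Ctx π)
include H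

theorem eich_move {u w b : ι → F} (hu : Q u = 0) (hw : Q w = 0) (huw : polar Q u w = 0) (x : F) :
    eich Q u (x • w) = eich Q w (x • -u) := by
  rw [eich_swap hu (by rw [QuadraticMap.map_smul, hw, smul_zero])
    (by rw [polar_smul_right, huw, smul_zero]),
    eich_smul hw (by rw [polar_neg_right, polar_comm, huw, neg_zero])]

theorem cm_long_eq {u fu w fw e f a b : ι → F} (hu : Pr Q u fu) (hw : Pr Q w fw)
    (hw1 : w ∈ split Q ⊤ u fu) (hw2 : fw ∈ split Q ⊤ u fu)
    (he : e ∈ split Q (split Q ⊤ u fu) w fw) (hf : f ∈ split Q (split Q ⊤ u fu) w fw)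
    (hef : Pr Q e f) (ha : polar Q u a = 0) (ha2 : polar Q w a = 0) (hb : polar Q u b = 0)
    (hb2 : polar Q w b = 0) : cm π u a w b = cm π u (polar Q a b • e) w f := by
  classical
  set V := split Q (split Q ⊤ u fu) w fw with hVdef
  have huw : polar Q u w = 0 := hw1.2.1
  have hgV : Good Q V := good_split (good_split (good_top H.nd) hu trivial trivial) hw hw1 hw2
  have hne : ∃ p ∈ split Q V e f, p ≠ 0 := exists_ne_zero (by
    have h1 := finrank_split (Q := Q) hef he hf
    have h2 : Fintype.card ι ≤ Module.finrank F V + 4 := H.finrank_split_two hu hw hw1 hw2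
    have h3 := H.card
    omega)
  set L := (lineGroup Q hu.qu huw).comap π
  letI : CommGroup ↥L :=
    { (inferInstance : Group ↥L) with
      mul_comm := fun x y => Subtype.ext (by
        obtain ⟨c, hc⟩ := x.2
        obtain ⟨d, hd⟩ := y.2
        exact H.commute_long hu.qu hw.qu huw hc hd) }
  let β : (ι → F) → (ι → F) → ↥L := fun x y =>
    if hxy : (polar Q u x = 0 ∧ polar Q w x = 0) ∧ polar Q u y = 0 ∧ polar Q w y = 0 then
      ⟨cm π u x w y, ⟨polar Q x y,
        H.map_cm hu.qu hw.qu huw hxy.1.1 hxy.1.2 hxy.2.1 hxy.2.2⟩⟩ else 1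
  have hval : ∀ {x y}, x ∈ V → y ∈ V → (β x y : E) = cm π u x w y := fun {x y} hx hy => by
    simp only [β, dif_pos (And.intro (And.intro hx.1.2.1 hx.2.1) (And.intro hy.1.2.1 hy.2.1))]
  have hβ : InvOn Q V β := by
    refine ⟨fun x hx x' hx' y hy => Subtype.ext ?_, fun x hx y hy y' hy' => Subtype.ext ?_,
      fun v hv hQv hv0 y hy hvy x hx z hz => Subtype.ext ?_⟩
    · rw [Subgroup.coe_mul, hval (add_mem hx hx') hy, hval hx hy, hval hx' hy,
        H.cm_add_left hu.qu hw.qu huw hx.1.2.1 hx.2.1 hx'.1.2.1 hx'.2.1 hy.1.2.1 hy.2.1]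
      exact (H.commute_long hu.qu hw.qu huw
        (H.map_cm hu.qu hw.qu huw hx'.1.2.1 hx'.2.1 hy.1.2.1 hy.2.1)
        (H.map_cm hu.qu hw.qu huw hx.1.2.1 hx.2.1 hy.1.2.1 hy.2.1))
    · rw [Subgroup.coe_mul, hval hx (add_mem hy hy'), hval hx hy, hval hx hy',
        H.cm_add_right hu.qu hw.qu huw hx.1.2.1 hx.2.1 hy.1.2.1 hy.2.1 hy'.1.2.1 hy'.2.1]
    · have hfix : ∀ {t}, polar Q t v = 0 → polar Q t y = 0 → app (eich Q v y) t = t := fun {t} h1 h2 => by
        rw [app_eich hQv hvy, h1, h2]; simp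
      have f1 := hfix (t := u) hv.1.2.1 hy.1.2.1
      have f2 := hfix (t := fu) hv.1.2.2 hy.1.2.2
      have f3 := hfix (t := w) hv.2.1 hy.2.1
      have f4 := hfix (t := fw) hv.2.2 hy.2.2
      have hm : ∀ {r}, r ∈ V → app (eich Q v y) r ∈ V := fun {r} hr =>
        ⟨⟨trivial, by rw [← f1, polar_app, hr.1.2.1], by rw [← f2, polar_app, hr.1.2.2]⟩,
          by rw [← f3, polar_app, hr.2.1], by rw [← f4, polar_app, hr.2.2]⟩
      have hc := H.conj_cm (lft π (eich Q v y)) hu.qu hx.1.2.1 hw.qu hz.2.1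
      rw [H.map_lft hQv hvy, f1, f3, H.long_fixed hu hw hw1 hw2 hv hy hQv hv0 hvy
        (H.map_cm hu.qu hw.qu huw hx.1.2.1 hx.2.1 hz.1.2.1 hz.2.1)] at hc
      rw [hval (hm hx) (hm hz), hval hx hz, hc]
  -- reduce both arguments to `V`
  have red : ∀ {x}, polar Q u x = 0 → polar Q w x = 0 → ∃ x' ∈ V, ∃ s t : F,
      x = x' + t • w + s • u := by
    intro x hx hx2
    obtain ⟨p, hp, ep⟩ := exists_decomp hu trivial trivial (x := x) (V := ⊤) trivial
    obtain ⟨r, hr, er⟩ := exists_decomp hw hw1 hw2 hp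
    have hwp : polar Q w p = 0 := by
      rw [ep, hx, polar_add_right, polar_add_right, polar_smul_right, polar_smul_right,
        polar_comm (f := ⇑Q) w u, huw, zero_smul] at hx2
      simpa using hx2
    rw [hwp] at er; rw [hx] at ep
    exact ⟨r, hr, polar Q fu x, polar Q fw p, by
      linear_combination (norm := module) ep + er⟩
  obtain ⟨a', ha', s, t, ea⟩ := red ha ha2
  obtain ⟨b', hb', s', t', eb⟩ := red hb hb2
  have huu := polar_self_zero hu.qu
  have hww := polar_self_zero hw.qu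
  have hwu : polar Q w u = 0 := by rw [polar_comm, huw]
  have hB : polar Q a b = polar Q a' b' := by
    rw [ea, eb]
    simp [polar_add_left, polar_add_right, polar_smul_left, polar_smul_right, huu, hww, huw, hwu,
      hb'.1.2.1, hb'.2.1, polar_comm (f := ⇑Q) a' u, polar_comm (f := ⇑Q) a' w, ha'.1.2.1, ha'.2.1]
  have key := congrArg Subtype.val (hβ.eq_polar hef he hf hne hgV ha' hb')
  rw [hval ha' hb', hval (V.smul_mem _ he) hf] at key
  have hua : polar Q u (a' + t • w) = 0 := by
    rw [polar_add_right, polar_smul_right, ha'.1.2.1, huw, smul_zero, add_zero]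
  have hwb : polar Q w (b' + s' • u) = 0 := by
    rw [polar_add_right, polar_smul_right, hb'.2.1, hwu, smul_zero, add_zero]
  have hub : polar Q u (b' + s' • u) = 0 := by
    rw [polar_add_right, polar_smul_right, hb'.1.2.1, huu, smul_zero, add_zero]
  have e1 : eich Q u a = eich Q u (a' + t • w) := by rw [ea, eich_add_smul hu.qu hua]
  have e2 : eich Q w b = eich Q w (b' + s' • u) := by
    rw [eb, show b' + t' • w + s' • u = b' + s' • u + t' • w by abel, eich_add_smul hw.qu hwb]
  have c1 : cm π u a w b = cm π u (a' + t • w) w (b' + s' • u) := by unfold cm; rw [e1, e2]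
  have c2 : cm π u (t • w) w (b' + s' • u) = 1 := by
    have hm : cm π u (t • w) w (b' + s' • u) = cm π w (t • -u) w (b' + s' • u) := by
      unfold cm; rw [H.eich_move (b := b) hu.qu hw.qu huw t]
    rw [hm]
    exact H.cm_self_perp hw.qu (by rw [polar_smul_right, polar_neg_right, hwu, neg_zero, smul_zero])
      hwb (by rw [polar_smul_left, polar_neg_left, hub, neg_zero, smul_zero])
  have c3 : cm π u a' w (s' • u) = 1 := by
    have hm : cm π u a' w (s' • u) = cm π u a' u (s' • -w) := by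
      unfold cm; rw [H.eich_move (b := b) hw.qu hu.qu hwu s']
    rw [hm]
    exact H.cm_self_perp hu.qu ha'.1.2.1
      (by rw [polar_smul_right, polar_neg_right, huw, neg_zero, smul_zero])
      (by rw [polar_smul_right, polar_neg_right, polar_comm, ha'.2.1, neg_zero, smul_zero])
  rw [c1, H.cm_add_left hu.qu hw.qu huw ha'.1.2.1 ha'.2.1
      (by rw [polar_smul_right, huw, smul_zero]) (by rw [polar_smul_right, hww, smul_zero]) hub hwb,
    c2, one_mul, H.cm_add_right hu.qu hw.qu huw ha'.1.2.1 ha'.2.1 hb'.1.2.1 hb'.2.1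
      (by rw [polar_smul_right, huu, smul_zero]) (by rw [polar_smul_right, hwu, smul_zero]),
    c3, mul_one, key, hB]

/-- The pairing of two lifts over one vector is trivial. -/
theorem cm_self_one {u a b : ι → F} (hu : Q u = 0) (ha : polar Q u a = 0) (hb : polar Q u b = 0) :
    cm π u a u b = 1 := by
  classical
  rcases eq_or_ne u 0 with rfl | hu0
  · rw [cm, eich_zero_left, eich_zero_left, commutatorElement_self]
  obtain ⟨fu, -, hp1⟩ := exists_partner_in (good_top H.nd) trivial hu hu0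
  have hg1 := good_split (good_top H.nd) hp1 trivial trivial
  have hcard := H.card
  obtain ⟨v, hv, fv, hfv, hp2⟩ := exists_pair_in hg1 (by
    have := H.finrank_split_top hp1; omega)
  obtain ⟨e, he, f, hf, hef⟩ := exists_pair_in (good_split hg1 hp2 hv hfv) (by
    have := H.finrank_split_two hp1 hp2 hv hfv; omega)
  have huv : polar Q u v = 0 := hv.2.1
  have hQs : Q (u + v) = 0 := by rw [QuadraticMap.map_add ⇑Q, hu, hp2.qu, huv, add_zero, add_zero]
  have hp3 : Pr Q (u + v) fu := ⟨hQs, hp1.qf, by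
    rw [polar_add_left, hp1.uf, polar_comm (f := ⇑Q) v fu, hv.2.2, add_zero]⟩
  rw [H.cm_self_eq hp1 he.1 hf.1 hef ha hb]
  generalize polar Q a b = c
  have hce : polar Q u (c • e) = 0 := by rw [polar_smul_right, he.1.2.1, smul_zero]
  have hce' : polar Q v (c • e) = 0 := by rw [polar_smul_right, he.2.1, smul_zero]
  have huf : polar Q u f = 0 := hf.1.2.1
  have hvf : polar Q v f = 0 := hf.2.1
  have hefc : polar Q (c • e) f = c := by rw [polar_smul_left, hef.uf, smul_eq_mul, mul_one]
  -- all values agree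
  have eqv : ∀ {v' fv'}, Pr Q v' fv' → polar Q u v' = 0 → LinearIndependent F ![u, v'] →
      e ∈ split Q ⊤ v' fv' → f ∈ split Q ⊤ v' fv' → cm π v' (c • e) v' f = cm π u (c • e) u f := by
    intro v' fv' hp' huv' hli he' hf'
    obtain ⟨x, y, hx, hxy, hmove⟩ := exists_move H.nd hu hp'.qu huv' hli
    obtain ⟨g, hg⟩ := H.mem x y hx hxy
    have h := H.conj_cm g hu hce hu huf
    rw [ker_eq_one H.cen (H.cm_self_mem hu hce huf), hg, hmove] at h
    rw [h, H.cm_self_eq (a := app (eich Q x y) (c • e)) (b := app (eich Q x y) f) hp' he' hf' hef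
      (by rw [← hmove, polar_app, hce])
      (by rw [← hmove, polar_app, huf]), polar_app, hefc]
  have hfuv : polar Q fu v = 0 := hv.2.2
  have hli : LinearIndependent F ![u, v] := LinearIndependent.pair_iff.2 fun s t h => by
    have h1 := congrArg (fun z => polar Q fu z) h
    simp [polar_add_right, polar_smul_right, hp1.fu, hfuv] at h1
    subst h1
    rw [zero_smul, zero_add, smul_eq_zero] at h
    exact ⟨rfl, h.resolve_right hp2.ne⟩
  have hli' : LinearIndependent F ![u, u + v] := LinearIndependent.pair_iff.2 fun s t h => by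
    obtain ⟨h1, h2⟩ := LinearIndependent.pair_iff.1 hli (s + t) t
      (by linear_combination (norm := module) h)
    exact ⟨by simpa [h2] using h1, h2⟩
  have k2 := eqv hp2 huv hli ⟨trivial, he.2.1, he.2.2⟩ ⟨trivial, hf.2.1, hf.2.2⟩
  have k3 := eqv hp3 (by rw [polar_add_right, polar_self_zero hu, huv, add_zero]) hli'
    ⟨trivial, by rw [polar_add_left, he.1.2.1, he.2.1, add_zero], he.1.2.2⟩
    ⟨trivial, by rw [polar_add_left, huf, hvf, add_zero], hf.1.2.2⟩
  -- the value over a sum
  have sum_lift : ∀ {d}, Q d = 0 → polar Q u d = 0 → polar Q v d = 0 →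
      π (lft π (eich Q u d) * lft π (eich Q v d)) = eich Q (u + v) d := fun {d} hd h1 h2 => by
    rw [map_mul, H.map_lft hu h1, H.map_lft hp2.qu h2, eich_add_left hu hp2.qu huv h1 h2, hd,
      zero_smul, eich_zero_right hp2.qu, mul_one]
  have hQce : Q (c • e) = 0 := by rw [QuadraticMap.map_smul, hef.qu, smul_zero]
  have h := H.eval hQs (by rw [polar_add_left, hce, hce', add_zero]) hQs
    (by rw [polar_add_left, huf, hvf, add_zero]) (sum_lift hQce hce hce') (sum_lift hef.qf huf hvf)
  set x1 := lft π (eich Q u (c • e))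
  set x2 := lft π (eich Q v (c • e))
  set y1 := lft π (eich Q u f)
  set y2 := lft π (eich Q v f)
  set κ := cm π u (c • e) u f
  have hκmem : κ ∈ π.ker := H.cm_self_mem hu hce huf
  have hvu : polar Q v u = 0 := by rw [polar_comm, huv]
  have m21 := H.map_cm hp2.qu hu hvu hce' hce hvf huf
  have m12 := H.map_cm hu hp2.qu huv hce hce' huf hvf
  rw [hefc, H.eich_move (b := b) hp2.qu hu hvu] at m21
  rw [hefc] at m12
  have hcv : polar Q u (c • -v) = 0 := by rw [polar_smul_right, polar_neg_right, huv, neg_zero, smul_zero]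
  have cx : x1 * cm π v (c • e) u f * x1⁻¹ = cm π v (c • e) u f :=
    H.commute_root hu hce hcv (by
      rw [polar_smul_right, polar_neg_right, polar_comm (f := ⇑Q) (c • e) v, hce', neg_zero, smul_zero])
      (H.map_lft hu hce) m21
  have cy : y1 * cm π u (c • e) v f * y1⁻¹ = cm π u (c • e) v f :=
    H.commute_root hu huf (by rw [polar_smul_right, huv, smul_zero]) (by
      rw [polar_smul_right, polar_comm (f := ⇑Q) f v, hvf, smul_zero]) (H.map_lft hu huf) m12
  have i21 : cm π v (c • e) u f = (cm π u (c • e) v f)⁻¹ := by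
    rw [← H.cm_inv u f v (c • e), inv_inj]
    rw [H.cm_long_eq hp1 hp2 hv hfv he hf hef huf hvf hce hce',
      H.cm_long_eq hp1 hp2 hv hfv he hf hef hce hce' huf hvf, polar_comm (f := ⇑Q) f]
  have e21 : ⁅x2, y1⁆ = cm π v (c • e) u f := rfl
  have e22 : ⁅x2, y2⁆ = κ := k2
  have e11 : ⁅x1, y1⁆ = κ := rfl
  have e12 : ⁅x1, y2⁆ = cm π u (c • e) v f := rfl
  rw [k3, commutator_mul_left', commutator_mul_right' x2, commutator_mul_right' x1, e21, e22, e11,
    e12, ker_eq_one H.cen hκmem, cy] at h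
  set C := cm π u (c • e) v f
  have hk : ∀ g, κ * g = g * κ := fun g => (CfsgLib.Schur.ker_commute H.cen hκmem g).eq
  have h1 : x1 * (cm π v (c • e) u f * κ) * x1⁻¹ = κ * cm π v (c • e) u f := by
    calc x1 * (cm π v (c • e) u f * κ) * x1⁻¹
        = x1 * cm π v (c • e) u f * x1⁻¹ * (x1 * κ * x1⁻¹) := by group
      _ = _ := by rw [cx, ker_eq_one H.cen hκmem, hk]
  rw [h1, i21, show κ * C⁻¹ * (κ * C) = κ * κ by
    calc κ * C⁻¹ * (κ * C) = κ * (C⁻¹ * κ) * C := by group
      _ = κ * (κ * C⁻¹) * C := by rw [hk C⁻¹]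
      _ = κ * κ := by group] at h
  exact mul_eq_left.1 h

/-- Over an orthogonal couple of singular vectors the commutator depends only on the polar form. -/
theorem cm_congr_polar {u w a b a' b' : ι → F} (hu : Q u = 0) (hw : Q w = 0)
    (huw : polar Q u w = 0) (ha : polar Q u a = 0) (ha2 : polar Q w a = 0) (hb : polar Q u b = 0)
    (hb2 : polar Q w b = 0) (ha' : polar Q u a' = 0) (ha2' : polar Q w a' = 0)
    (hb' : polar Q u b' = 0) (hb2' : polar Q w b' = 0) (h : polar Q a b = polar Q a' b') :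
    cm π u a w b = cm π u a' w b' := by
  by_cases hli : LinearIndependent F ![u, w]
  · obtain ⟨fu, fw, hp1, hp2, h1, h2, h3⟩ := exists_two_pairs H.nd hu hw huw hli
    have hw1 : w ∈ split Q ⊤ u fu := ⟨trivial, huw, h2⟩
    have hw2 : fw ∈ split Q ⊤ u fu := ⟨trivial, h1, h3⟩
    have hg1 := good_split (good_top H.nd) hp1 trivial trivial
    obtain ⟨e, he, f, hf, hef⟩ := exists_pair_in (good_split hg1 hp2 hw1 hw2) (by
      have := H.finrank_split_two hp1 hp2 hw1 hw2
      have := H.card
      omega)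
    rw [H.cm_long_eq hp1 hp2 hw1 hw2 he hf hef ha ha2 hb hb2,
      H.cm_long_eq hp1 hp2 hw1 hw2 he hf hef ha' ha2' hb' hb2', h]
  · have triv : ∀ {x y : ι → F}, polar Q u x = 0 → polar Q w y = 0 → polar Q u y = 0 →
        cm π u x w y = 1 := by
      intro x y hx hy hy'
      rcases eq_or_ne u 0 with rfl | hu0
      · rw [cm, commutatorElement_eq_one_iff_commute]
        exact CfsgLib.Schur.ker_commute H.cen
          (by rw [MonoidHom.mem_ker, H.map_lft hu hx, eich_zero_left]) _
      · obtain ⟨t, ht⟩ : ∃ t : F, t • u = w := by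
          by_contra hcon
          push Not at hcon
          exact hli ((LinearIndependent.pair_iff' hu0).2 hcon)
        subst ht
        have : cm π u x (t • u) y = cm π u x u (t • y) := by
          unfold cm; rw [eich_smul hu hy']
        rw [this]
        exact H.cm_self_one hu hx (by rw [polar_smul_right, hy', smul_zero])
    rw [triv ha hb2 hb, triv ha' hb2' hb']

end Ctx

open Classical in
/-- The lift of a long root element. -/
noncomputable def rho (π : E →* O Q) (u w : ι → F) : E :=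
  if h : ∃ ab : (ι → F) × (ι → F), polar Q u ab.1 = 0 ∧ polar Q w ab.1 = 0 ∧ polar Q u ab.2 = 0 ∧
      polar Q w ab.2 = 0 ∧ polar Q ab.1 ab.2 = 1 then cm π u h.choose.1 w h.choose.2 else 1

namespace Ctx

variable (H : Ctx π)
include H

theorem exists_ab (u w w' : ι → F) : ∃ a b, polar Q u a = 0 ∧ polar Q w a = 0 ∧ polar Q w' a = 0 ∧
    polar Q u b = 0 ∧ polar Q w b = 0 ∧ polar Q w' b = 0 ∧ polar Q a b = 1 := by
  classical
  let S := Submodule.span F (Set.range ![u, w, w'])
  let W := LinearMap.BilinForm.orthogonal Q.polarBilin S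
  have h3 : Module.finrank F S ≤ 3 := by
    have := finrank_range_le_card (R := F) ![u, w, w']
    rwa [Set.finrank, Fintype.card_fin] at this
  have hW : ¬ W ≤ S := fun hle => by
    have h1 := Submodule.finrank_mono hle
    rw [LinearMap.BilinForm.finrank_orthogonal H.nd, Module.finrank_fintype_fun_eq_card] at h1
    have := H.card
    omega
  obtain ⟨a, ha, haS⟩ := SetLike.not_le_iff_exists.1 hW
  obtain ⟨b, hb, hab⟩ := CfsgLib.Forms.exists_orth_pair_one (σ := RingHom.id F)
    Function.surjective_id Q.polarBilin H.nd.1 ![u, w, w'] a haS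
  have h : ∀ i, polar Q (![u, w, w'] i) a = 0 := fun i =>
    LinearMap.BilinForm.mem_orthogonal_iff.1 ha _ (Submodule.subset_span ⟨i, rfl⟩)
  exact ⟨a, b, h 0, h 1, h 2, hb 0, hb 1, hb 2, hab⟩

theorem rho_eq {u w a b : ι → F} (hu : Q u = 0) (hw : Q w = 0) (huw : polar Q u w = 0)
    (ha : polar Q u a = 0) (ha2 : polar Q w a = 0) (hb : polar Q u b = 0) (hb2 : polar Q w b = 0)
    (hab : polar Q a b = 1) : cm π u a w b = rho π u w := by
  have hex : ∃ ab : (ι → F) × (ι → F), polar Q u ab.1 = 0 ∧ polar Q w ab.1 = 0 ∧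
      polar Q u ab.2 = 0 ∧ polar Q w ab.2 = 0 ∧ polar Q ab.1 ab.2 = 1 :=
    ⟨(a, b), ha, ha2, hb, hb2, hab⟩
  rw [rho, dif_pos hex]
  obtain ⟨c1, c2, c3, c4, c5⟩ := hex.choose_spec
  exact H.cm_congr_polar hu hw huw ha ha2 hb hb2 c1 c2 c3 c4 (hab.trans c5.symm)

theorem map_rho {u w : ι → F} (hu : Q u = 0) (hw : Q w = 0) (huw : polar Q u w = 0) :
    π (rho π u w) = eich Q u w := by
  obtain ⟨a, b, ha, ha2, -, hb, hb2, -, hab⟩ := H.exists_ab u w w
  rw [← H.rho_eq hu hw huw ha ha2 hb hb2 hab, H.map_cm hu hw huw ha ha2 hb hb2, hab, one_smul]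

theorem rho_inv {u w : ι → F} (hu : Q u = 0) (hw : Q w = 0) (huw : polar Q u w = 0) :
    rho π w u = (rho π u w)⁻¹ := by
  obtain ⟨a, b, ha, ha2, -, hb, hb2, -, hab⟩ := H.exists_ab u w w
  rw [← H.rho_eq hu hw huw ha ha2 hb hb2 hab, H.cm_inv,
    H.rho_eq hw hu (by rw [polar_comm, huw]) hb2 hb ha2 ha (by rw [polar_comm, hab])]

theorem conj_rho (g : E) {u w : ι → F} (hu : Q u = 0) (hw : Q w = 0) (huw : polar Q u w = 0) :
    g * rho π u w * g⁻¹ = rho π (app (π g) u) (app (π g) w) := by
  obtain ⟨a, b, ha, ha2, -, hb, hb2, -, hab⟩ := H.exists_ab u w w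
  rw [← H.rho_eq hu hw huw ha ha2 hb hb2 hab, H.conj_cm g hu ha hw hb2]
  exact H.rho_eq (by rw [Q_app, hu]) (by rw [Q_app, hw]) (by rw [polar_app, huw])
    (by rw [polar_app, ha]) (by rw [polar_app, ha2]) (by rw [polar_app, hb]) (by rw [polar_app, hb2])
    (by rw [polar_app, hab])

theorem rho_smul {u w : ι → F} (hu : Q u = 0) (hw : Q w = 0) (huw : polar Q u w = 0) {t : F}
    (ht : t ≠ 0) : rho π (t • u) w = rho π u (t • w) := by
  obtain ⟨a, b, ha, ha2, -, hb, hb2, -, hab⟩ := H.exists_ab u w w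
  have e1 : cm π (t • u) a w b = cm π u (t • a) w b := by unfold cm; rw [eich_smul hu ha]
  have e2 : cm π u a (t • w) b = cm π u a w (t • b) := by unfold cm; rw [eich_smul hw hb2]
  rw [← H.rho_eq (u := t • u) (by rw [QuadraticMap.map_smul, hu, smul_zero]) hw
      (by rw [polar_smul_left, huw, smul_zero]) (by rw [polar_smul_left, ha, smul_zero]) ha2
      (by rw [polar_smul_left, hb, smul_zero]) hb2 hab,
    ← H.rho_eq hu (w := t • w) (by rw [QuadraticMap.map_smul, hw, smul_zero])
      (by rw [polar_smul_right, huw, smul_zero]) ha (by rw [polar_smul_left, ha2, smul_zero]) hb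
      (by rw [polar_smul_left, hb2, smul_zero]) hab, e1, e2]
  exact H.cm_congr_polar hu hw huw (by rw [polar_smul_right, ha, smul_zero])
    (by rw [polar_smul_right, ha2, smul_zero]) hb hb2 ha ha2 (by rw [polar_smul_right, hb, smul_zero])
    (by rw [polar_smul_right, hb2, smul_zero]) (by rw [polar_smul_left, polar_smul_right])

theorem rho_add {u w w' : ι → F} (hu : Q u = 0) (hw : Q w = 0) (hw' : Q w' = 0)
    (huw : polar Q u w = 0) (huw' : polar Q u w' = 0) (hww' : polar Q w w' = 0) :
    rho π u (w + w') = rho π u w * rho π u w' := by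
  obtain ⟨a, b, ha, ha2, ha3, hb, hb2, hb3, hab⟩ := H.exists_ab u w w'
  have hs : Q (w + w') = 0 := by rw [QuadraticMap.map_add ⇑Q, hw, hw', hww', add_zero, add_zero]
  have hus : polar Q u (w + w') = 0 := by rw [polar_add_right, huw, huw', add_zero]
  have hsa : polar Q (w + w') a = 0 := by rw [polar_add_left, ha2, ha3, add_zero]
  have hsb : polar Q (w + w') b = 0 := by rw [polar_add_left, hb2, hb3, add_zero]
  have hw'w : polar Q w' (Q b • w) = 0 := by rw [polar_smul_right, polar_comm, hww', smul_zero]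
  set x := lft π (eich Q u a)
  set X := lft π (eich Q w b)
  set Y := lft π (eich Q w' b)
  set Z := rho π w' (Q b • w)
  have hQZ : Q (Q b • w) = 0 := by rw [QuadraticMap.map_smul, hw, smul_zero]
  have hZ : π Z = eich Q w' (Q b • w) := H.map_rho hw' hQZ hw'w
  have h := H.eval hu ha hs hsb (x := x) (y := X * (Y * Z)) (H.map_lft hu ha) (by
    rw [map_mul, map_mul, H.map_lft hw hb2, H.map_lft hw' hb3, hZ, ← mul_assoc,
      eich_add_left hw hw' hww' hb2 hb3])
  have fix : ∀ {g : E} {p q r : ι → F}, π g = eich Q p q → Q p = 0 → polar Q p q = 0 →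
      polar Q r p = 0 → polar Q r q = 0 → app (π g) r = r := fun {g p q r} hg hp hpq h1 h2 => by
    rw [hg, app_eich hp hpq, h1, h2]; simp
  have hxZ : ⁅x, Z⁆ = 1 := by
    rw [commutatorElement_def, H.conj_rho x hw' hQZ hw'w,
      fix (H.map_lft hu ha) hu ha (by rw [polar_comm, huw']) ha3,
      fix (r := Q b • w) (H.map_lft hu ha) hu ha (by rw [polar_smul_left, polar_comm, huw, smul_zero])
        (by rw [polar_smul_left, ha2, smul_zero]), mul_inv_cancel]
  have hX : X * rho π u w' * X⁻¹ = rho π u w' := by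
    rw [H.conj_rho X hu hw' huw', fix (H.map_lft hw hb2) hw hb2 huw hb,
      fix (H.map_lft hw hb2) hw hb2 ((polar_comm ⇑Q _ _).trans hww') hb3]
  have e1 : ⁅x, X⁆ = rho π u w := H.rho_eq hu hw huw ha ha2 hb hb2 hab
  have e2 : ⁅x, Y⁆ = rho π u w' := H.rho_eq hu hw' huw' ha ha3 hb hb3 hab
  rw [commutator_mul_right', commutator_mul_right', hxZ, e1, e2,
    show Y * 1 * Y⁻¹ = 1 by group, mul_one, hX] at h
  rw [h, H.rho_eq hu hs hus ha hsa hb hsb hab]

end Ctx

end CfsgLib.MinusMult
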