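import Cfsg.Agent.Lib.MinusMult.Closure
import Cfsg.Agent.Lib.POmega.Forms

/-!
The standard minus form: frames, and descent of kernel elements to the subspace of dimension four.
-/

set_option autoImplicit false
set_option linter.unusedSectionVars false

namespace CfsgLib.MinusMult

open QuadraticMap CfsgLib.Orth CfsgLib.POmega

variable {F : Type*} [Field F] {m : ℕ} {a b : F}

/-- Standard singular vectors. -/
def eS (F : Type*) [Field F] (i : Fin m) : (Fin m ⊕ Fin m) ⊕ Fin 2 → F :=
  Pi.single (Sum.inl (Sum.inl i)) 1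

/-- Their partners. -/
def fS (F : Type*) [Field F] (i : Fin m) : (Fin m ⊕ Fin m) ⊕ Fin 2 → F :=
  Pi.single (Sum.inl (Sum.inr i)) 1

/-- The vectors supported after the first `k` pairs. -/
def tail (F : Type*) [Field F] (m k : ℕ) : Submodule F ((Fin m ⊕ Fin m) ⊕ Fin 2 → F) where
  carrier := {x | ∀ i : Fin m, (i : ℕ) < k → x (.inl (.inl i)) = 0 ∧ x (.inl (.inr i)) = 0}
  add_mem' := fun hx hy i hi => by simp [(hx i hi).1, (hx i hi).2, (hy i hi).1, (hy i hi).2]
  zero_mem' := fun i _ => by simp
  smul_mem' := fun c _ hx i hi => by simp [(hx i hi).1, (hx i hi).2]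

theorem polar_eS (i : Fin m) (x : (Fin m ⊕ Fin m) ⊕ Fin 2 → F) :
    polar (minusQ m F a b) (eS F i) x = x (.inl (.inr i)) := by
  simp [eS, polar_minusQ, Pi.single_apply]

theorem polar_fS (i : Fin m) (x : (Fin m ⊕ Fin m) ⊕ Fin 2 → F) :
    polar (minusQ m F a b) (fS F i) x = x (.inl (.inl i)) := by
  simp [fS, polar_minusQ, Pi.single_apply]

theorem pr_std (i : Fin m) : Pr (minusQ m F a b) (eS F i) (fS F i) := by
  refine ⟨?_, ?_, ?_⟩
  · simp [minusQ_coe, Cfsg.quadFormMinus, eS, Pi.single_apply]
  · simp [minusQ_coe, Cfsg.quadFormMinus, fS, Pi.single_apply]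
  · rw [polar_eS]; simp [fS]

theorem eS_mem {k : ℕ} {i : Fin m} (h : k ≤ i) : eS F i ∈ tail F m k := fun j hj => by
  have : j ≠ i := fun e => by subst e; omega
  simp [eS, Pi.single_apply, this]

theorem fS_mem {k : ℕ} {i : Fin m} (h : k ≤ i) : fS F i ∈ tail F m k := fun j hj => by
  have : j ≠ i := fun e => by subst e; omega
  simp [fS, Pi.single_apply, this]

theorem split_tail {k : ℕ} (hk : k < m) :
    split (minusQ m F a b) (tail F m k) (eS F ⟨k, hk⟩) (fS F ⟨k, hk⟩) = tail F m (k + 1) := by
  ext x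
  rw [mem_split, polar_eS, polar_fS]
  constructor
  · rintro ⟨h, h1, h2⟩ i hi
    rcases Nat.lt_succ_iff_lt_or_eq.1 hi with hlt | heq
    · exact h i hlt
    · obtain rfl : i = ⟨k, hk⟩ := Fin.ext heq
      exact ⟨h2, h1⟩
  · intro h
    exact ⟨fun i hi => h i (by omega), (h ⟨k, hk⟩ (by simp)).2, (h ⟨k, hk⟩ (by simp)).1⟩

theorem tail_zero : tail F m 0 = ⊤ := by
  ext x
  simp only [Submodule.mem_top, iff_true]
  intro i hi
  omega

/-- Extending a vector of a plane by zero. -/
def planeVec (m : ℕ) (s t : F) : (Fin m ⊕ Fin m) ⊕ Fin 2 → F := Sum.elim 0 ![s, t]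

theorem planeVec_mem (k : ℕ) (s t : F) : planeVec m s t ∈ tail F m k :=
  fun _ _ => ⟨rfl, rfl⟩

theorem planeVec_value (s t : F) :
    minusQ m F a b (planeVec m s t) = s ^ 2 + a * s * t + b * t ^ 2 := by
  simp [minusQ_coe, Cfsg.quadFormMinus, planeVec]

variable [Fintype F] (hab : ∀ z₁ z₂ : F, z₁ ^ 2 + a * z₁ * z₂ + b * z₂ ^ 2 = 0 → z₁ = 0 ∧ z₂ = 0)
include hab

omit hab in
theorem good_tail (hQ : (minusQ m F a b).polarBilin.Nondegenerate) :
    ∀ {k : ℕ}, k ≤ m → Good (minusQ m F a b) (tail F m k) := by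
  intro k hk
  induction k with
  | zero => rw [tail_zero]; exact good_top hQ
  | succ k ih =>
    rw [← split_tail (a := a) (b := b) (Nat.lt_of_succ_le hk)]
    exact good_split (ih (by omega)) (pr_std _) (eS_mem (le_refl _)) (fS_mem (le_refl _))

theorem plane_univ (t : F) : ∃ r s : F, r ^ 2 + a * r * s + b * s ^ 2 = t := by
  by_cases h2 : (2 : F) = 0
  · have : CharP F 2 := CharTwo.of_one_ne_zero_of_two_eq_zero one_ne_zero h2
    obtain ⟨u, hu⟩ := FiniteField.isSquare_of_char_two (ringChar.eq_iff.2 inferInstance) t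
    exact ⟨u, 0, by rw [hu]; ring⟩
  · let P := minusQ 0 F a b
    have hA : P (planeVec 0 1 0) ≠ 0 := by rw [planeVec_value]; norm_num
    have hB : P (planeVec 0 (-a / 2) 1) ≠ 0 := fun h => by
      rw [planeVec_value] at h
      exact one_ne_zero (hab _ _ h).2
    obtain ⟨x, y, hxy⟩ := exists_binary h2 hA hB t
    rw [planeVec_value, planeVec_value] at hxy
    refine ⟨x + y * (-a / 2), y, ?_⟩
    field_simp at hxy ⊢
    linear_combination hxy

theorem frame_std {k : ℕ} (hk : k + 2 ≤ m) :
    Frame (minusQ m F a b) (tail F m k) (eS F ⟨k, by omega⟩) (fS F ⟨k, by omega⟩)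
      (eS F ⟨k + 1, by omega⟩) (fS F ⟨k + 1, by omega⟩) := by
  have hQ := minusQ_nondegenerate_any (m := m) hab
  refine ⟨good_tail hQ (by omega), eS_mem (le_refl _), fS_mem (le_refl _), pr_std _, ?_, ?_, pr_std _, ?_⟩
  · rw [split_tail (by omega)]; exact eS_mem (le_refl _)
  · rw [split_tail (by omega)]; exact fS_mem (le_refl _)
  · intro t _
    obtain ⟨r, s, h⟩ := plane_univ hab t
    refine ⟨planeVec m r s, ?_, by rw [planeVec_value, h]⟩
    rw [split_tail (by omega), split_tail (by omega)]
    exact planeVec_mem _ _ _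

/-- There are no totally singular subspaces of half the dimension. -/
theorem finrank_singular_le {W : Submodule F ((Fin m ⊕ Fin m) ⊕ Fin 2 → F)}
    (hW : ∀ w ∈ W, minusQ m F a b w = 0) : Module.finrank F W ≤ m := by
  have hQ := minusQ_nondegenerate_any (m := m) hab
  set L : ((Fin m ⊕ Fin m) ⊕ Fin 2 → F) →ₗ[F] (Fin m → F) :=
    LinearMap.funLeft F F fun i : Fin m => (Sum.inl (Sum.inl i) : (Fin m ⊕ Fin m) ⊕ Fin 2)
  set D := LinearMap.ker L
  have hD : ∀ {x}, x ∈ D → ∀ i, x (.inl (.inl i)) = 0 := fun {x} hx i =>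
    congrFun (LinearMap.mem_ker.1 hx) i
  have hdimD : m + 2 ≤ Module.finrank F D := by
    have h1 := LinearMap.finrank_range_add_finrank_ker L
    have h2 := Submodule.finrank_le (LinearMap.range L)
    rw [Module.finrank_fintype_fun_eq_card] at h1 h2
    simp only [Fintype.card_sum, Fintype.card_fin] at h1 h2
    change m + 2 ≤ Module.finrank F (LinearMap.ker L)
    omega
  have hY : ∀ {x}, x ∈ W ⊓ D → ∀ k : Fin 2, x (.inr k) = 0 := fun {x} hx => by
    have h := hW x hx.1
    rw [minusQ_coe] at h
    simp only [Cfsg.quadFormMinus, hD hx.2, zero_mul, Finset.sum_const_zero, zero_add] at h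
    have := hab _ _ h
    intro k
    fin_cases k
    exacts [this.1, this.2]
  have hle : W ⊔ D ≤ LinearMap.BilinForm.orthogonal (minusQ m F a b).polarBilin (W ⊓ D) := by
    refine sup_le (fun w hw => ?_) (fun d hd => ?_) <;>
      rw [LinearMap.BilinForm.mem_orthogonal_iff] <;> intro x hx <;>
      change polar (minusQ m F a b) x _ = 0
    · rw [QuadraticMap.polar, hW _ (W.add_mem hx.1 hw), hW x hx.1, hW w hw]; simp
    · rw [polar_minusQ, hY hx 0, hY hx 1]
      simp [hD hx.2, hD hd]
  have h1 := Submodule.finrank_mono hle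
  rw [LinearMap.BilinForm.finrank_orthogonal hQ, Module.finrank_fintype_fun_eq_card] at h1
  simp only [Fintype.card_sum, Fintype.card_fin] at h1
  have h2 := Submodule.finrank_sup_add_finrank_inf_eq W D
  have h3 : Module.finrank F ↥(W ⊓ D) ≤ m + m + 2 := by
    refine (Submodule.finrank_le _).trans (le_of_eq ?_)
    rw [Module.finrank_fintype_fun_eq_card]; simp
  omega

theorem ctx_std {E : Type*} [Group E] {π : E →* O (minusQ m F a b)} (hm : 3 ≤ m)
    (hc : π.ker ≤ Subgroup.center E)
    (hr : commutator (O (minusQ m F a b)) ≤ π.range) : Ctx π where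
  nd := minusQ_nondegenerate_any hab
  card := by simp only [Fintype.card_sum, Fintype.card_fin]; omega
  cen := hc
  mem u x hu hx := hr (eich_mem_commutator (minusQ_nondegenerate_any hab)
    (by simp only [Fintype.card_sum, Fintype.card_fin]; omega) hu hx)
  idx s hp hs hli := by
    have hW : ∀ w ∈ Submodule.span F (Set.range s), minusQ m F a b w = 0 := by
      intro w hw
      suffices h : minusQ m F a b w = 0 ∧ ∀ i, polar (minusQ m F a b) (s i) w = 0 from h.1
      induction hw using Submodule.span_induction with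
      | mem x hx => obtain ⟨i, rfl⟩ := hx; exact ⟨hs i, fun j => hp j i⟩
      | zero => exact ⟨QuadraticMap.map_zero _, fun j => by simp⟩
      | add x y hx hy ihx ihy =>
        refine ⟨?_, fun j => by rw [polar_add_right, ihx.2, ihy.2, add_zero]⟩
        have hxy : polar (minusQ m F a b) x y = 0 := by
          clear ihx
          induction hx using Submodule.span_induction with
          | mem z hz => obtain ⟨i, rfl⟩ := hz; exact ihy.2 i
          | zero => simp
          | add z z' _ _ h1 h2 => rw [polar_add_left, h1, h2, add_zero]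
          | smul c z _ h => rw [polar_smul_left, h, smul_zero]
        rw [QuadraticMap.map_add ⇑(minusQ m F a b), ihx.1, ihy.1, hxy, add_zero, add_zero]
      | smul c x _ ih =>
        exact ⟨by rw [QuadraticMap.map_smul, ih.1, smul_zero],
          fun j => by rw [polar_smul_right, ih.2, smul_zero]⟩
    have h := finrank_singular_le hab hW
    rw [finrank_span_eq_card hli, Fintype.card_fin] at h
    simp only [Fintype.card_sum, Fintype.card_fin]
    omega

/-- A kernel element of the perfect extension lies over the last four-dimensional subspace. -/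
theorem ker_mem_last {E : Type*} [Group E] {π : E →* O (minusQ m F a b)} (hm : 3 ≤ m)
    (H : Ctx π) (hE : commutator E = ⊤) (hr : π.range ≤ commutator (O (minusQ m F a b))) :
    gen π (tail F m 0) = ⊤ ∧ π.ker ≤ gen π (tail F m (m - 1)) := by
  have hgen : gen π (tail F m 0) = ⊤ := by
    have hsur : ∀ x : E, ∃ g ∈ gen π (tail F m 0), π g = π x := by
      intro x
      have hx : π x ∈ eichGroup (minusQ m F a b) := by
        rw [← commutator_eq_eichGroup H.nd (by simp only [Fintype.card_sum, Fintype.card_fin]; omega)]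
        exact hr ⟨x, rfl⟩
      have : π x ∈ (gen π (tail F m 0)).map π := by
        refine (Subgroup.closure_le _).2 ?_ hx
        rintro _ ⟨u, c, hu, hc, rfl⟩
        exact ⟨_, tau_mem (by rw [tail_zero]; trivial) (by rw [tail_zero]; trivial) hu hc,
          H.map_tau hu hc⟩
      exact this
    rw [eq_top_iff, ← hE, _root_.commutator_def, Subgroup.commutator_le]
    intro x _ y _
    obtain ⟨g, hg, hgx⟩ := hsur x
    obtain ⟨h, hh, hhy⟩ := hsur y
    rw [CfsgLib.Schur.commutator_congr H.cen hgx.symm hhy.symm, commutatorElement_def]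
    exact mul_mem (mul_mem (mul_mem hg hh) (inv_mem hg)) (inv_mem hh)
  refine ⟨hgen, fun x hx => ?_⟩
  have key : ∀ j, j + 1 ≤ m → x ∈ gen π (tail F m j) := by
    intro j hj
    induction j with
    | zero => rw [hgen]; trivial
    | succ j ih =>
      have D := frame_std (m := m) hab (k := j) (by omega)
      obtain ⟨p, hp, hQp⟩ := D.univ 1 one_ne_zero
      rw [← split_tail (a := a) (b := b) (show j < m by omega)]
      exact D.ker_descend H hp hQp (ih (by omega)) hx
  exact key (m - 1) (by omega)

end CfsgLib.MinusMult
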