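import Cfsg.Agent.Lib.MinusMult.Rho

/-!
The canonical lifts of all Eichler transformations in a central extension.
-/

set_option autoImplicit false
set_option linter.unusedSectionVars false

namespace CfsgLib.MinusMult

open QuadraticMap CfsgLib.Orth CfsgLib.POmega
open scoped commutatorElement

variable {ι : Type} [Fintype ι] [DecidableEq ι] {F : Type*} [Field F] [Fintype F]
  {Q : QuadraticForm F (ι → F)} {E : Type*} [Group E] {π : E →* O Q}

/-- The elements `eich u a`. -/
def vecGroup (Q : QuadraticForm F (ι → F)) {u : ι → F} (hu : Q u = 0) : Subgroup (O Q) where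
  carrier := {g | ∃ a, polar Q u a = 0 ∧ g = eich Q u a}
  mul_mem' := by
    rintro _ _ ⟨a, ha, rfl⟩ ⟨b, hb, rfl⟩
    exact ⟨a + b, by rw [polar_add_right, ha, hb, add_zero], eich_add hu ha hb⟩
  one_mem' := ⟨0, by simp, (eich_zero_right hu).symm⟩
  inv_mem' := by
    rintro _ ⟨a, ha, rfl⟩
    exact ⟨-a, by rw [polar_neg_right, ha, neg_zero], eich_neg_inv hu ha⟩

/-- An additive family of lifts extending the long root lifts. -/
structure IsExt (π : E →* O Q) (u : ι → F) (f : (ι → F) → E) : Prop where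
  add : ∀ a b, polar Q u a = 0 → polar Q u b = 0 → f (a + b) = f a * f b
  sing : ∀ s, Q s = 0 → polar Q u s = 0 → f s = rho π u s

open Classical in
/-- The canonical lift of `eich u a`. -/
noncomputable def tau (π : E →* O Q) (u a : ι → F) : E :=
  if h : ∃ f, IsExt π u f then h.choose a else 1

namespace Ctx

variable (H : Ctx π)
include H

theorem rho_zero_right {u : ι → F} (hu : Q u = 0) : rho π u 0 = 1 := by
  have h := H.rho_add hu (QuadraticMap.map_zero Q) (QuadraticMap.map_zero Q)
    (QuadraticMap.polar_zero_right Q u) (QuadraticMap.polar_zero_right Q u)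
    (QuadraticMap.polar_zero_right Q 0)
  rw [add_zero] at h
  exact left_eq_mul.1 h

theorem rho_zero_left {s : ι → F} (hs : Q s = 0) : rho π 0 s = 1 := by
  rw [H.rho_inv hs (QuadraticMap.map_zero Q) (QuadraticMap.polar_zero_right Q s),
    H.rho_zero_right hs, inv_one]

theorem rho_self {u : ι → F} (hu : Q u = 0) (t : F) : rho π u (t • u) = 1 := by
  obtain ⟨a, b, ha, -, -, hb, -, -, hab⟩ := H.exists_ab u u u
  have ht : polar Q (t • u) a = 0 := by rw [polar_smul_left, ha, smul_zero]
  have ht' : polar Q (t • u) b = 0 := by rw [polar_smul_left, hb, smul_zero]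
  rw [← H.rho_eq hu (w := t • u) (by rw [QuadraticMap.map_smul, hu, smul_zero])
    (by rw [polar_smul_right, polar_self_zero hu, smul_zero]) ha ht hb ht' hab]
  have e : cm π u a (t • u) b = cm π u a u (t • b) := by unfold cm; rw [eich_smul hu hb]
  rw [e]
  exact H.cm_self_one hu ha (by rw [polar_smul_right, hb, smul_zero])

theorem exists_ext {u : ι → F} (hu : Q u = 0) : ∃ f, IsExt π u f := by
  classical
  rcases eq_or_ne u 0 with rfl | hu0
  · exact ⟨fun _ => 1, fun _ _ _ _ => (one_mul 1).symm, fun s hs _ => (H.rho_zero_left hs).symm⟩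
  obtain ⟨fu, -, hp⟩ := exists_partner_in (good_top H.nd) trivial hu hu0
  have hgW := good_split (good_top H.nd) hp trivial trivial
  have hcard := H.card
  have hd := H.finrank_split_top hp
  obtain ⟨v, hv, w, hw, hvw⟩ := exists_pair_in hgW (by omega)
  set P := split Q (split Q ⊤ u fu) v w with hPdef
  have hgP : Good Q P := good_split hgW hvw hv hw
  obtain ⟨s0, hs0, t0, ht0, hst0⟩ := exists_pair_in hgP (by
    have h2 : Fintype.card ι ≤ Module.finrank F P + 4 := H.finrank_split_two hp hvw hv hw
    omega)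
  set L := (vecGroup Q hu).comap π
  letI : CommGroup ↥L :=
    { (inferInstance : Group ↥L) with
      mul_comm := fun x y => Subtype.ext (by
        obtain ⟨a, ha, hxa⟩ := x.2
        obtain ⟨b, hb, hyb⟩ := y.2
        have := H.eval hu ha hu hb hxa hyb
        rw [H.cm_self_one hu ha hb, commutatorElement_eq_one_iff_mul_comm] at this
        exact this) }
  let R : (ι → F) → ↥L := fun x =>
    if h : Q x = 0 ∧ polar Q u x = 0 then ⟨rho π u x, ⟨x, h.2, H.map_rho hu h.1 h.2⟩⟩ else 1
  have hR : ∀ {x}, Q x = 0 → polar Q u x = 0 → (R x : E) = rho π u x := fun {x} h1 h2 => by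
    simp only [R, dif_pos (And.intro h1 h2)]
  have Radd : ∀ {x y}, Q x = 0 → Q y = 0 → polar Q u x = 0 → polar Q u y = 0 → polar Q x y = 0 →
      R (x + y) = R x * R y := fun {x y} a1 a2 a3 a4 a5 => Subtype.ext (by
    rw [Subgroup.coe_mul, hR a1 a3, hR a2 a4,
      hR (by rw [QuadraticMap.map_add ⇑Q, a1, a2, a5, add_zero, add_zero])
        (by rw [polar_add_right, a3, a4, add_zero]), H.rho_add hu a1 a2 a3 a4 a5])
  have Rzero : R 0 = 1 := Subtype.ext (by
    rw [hR (QuadraticMap.map_zero Q) (QuadraticMap.polar_zero_right Q u), H.rho_zero_right hu]; rfl)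
  have Rline : ∀ {x : ι → F}, Q x = 0 → polar Q u x = 0 → ∀ c d : F,
      R (c • x) * R (d • x) = R ((c + d) • x) := fun {x} h1 h2 c d => by
    rw [add_smul, Radd (by rw [QuadraticMap.map_smul, h1, smul_zero])
      (by rw [QuadraticMap.map_smul, h1, smul_zero]) (by rw [polar_smul_right, h2, smul_zero])
      (by rw [polar_smul_right, h2, smul_zero])
      (by rw [polar_smul_left, polar_smul_right, polar_self_zero h1, smul_zero, smul_zero])]
  let S : (ι → F) → (ι → F) → (ι → F) → ↥L := fun v w p =>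
    R (w + p + (-Q p) • v) * (R w)⁻¹ * R (Q p • v)
  -- the law of `S` for a pair on the same lines
  have law : ∀ {v' w'}, Pr Q v' w' → polar Q u v' = 0 → polar Q u w' = 0 →
      (∀ p ∈ P, polar Q v' p = 0 ∧ polar Q w' p = 0) →
      ∀ p ∈ P, ∀ s ∈ P, Q s = 0 → S v' w' (p + s) = S v' w' p * R s := by
    intro v' w' h' hv' hw' hperp p hp' s hs hQs
    obtain ⟨vp, wp⟩ := hperp p hp'
    obtain ⟨vs, ws⟩ := hperp s hs
    have up : polar Q u p = 0 := hp'.1.2.1
    have us : polar Q u s = 0 := hs.1.2.1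
    set β := polar Q p s with hβ
    have hQ' : Q (p + s) = Q p + β := by rw [QuadraticMap.map_add ⇑Q, hQs, add_zero]
    have hr : Q (w' + p + (-Q p) • v') = 0 := by
      simp [QuadraticMap.map_add ⇑Q, QuadraticMap.map_smul, polar_add_left, polar_smul_right,
        h'.qu, h'.qf, wp, polar_comm (f := ⇑Q) p v', vp, h'.fu]
    have hur : polar Q u (w' + p + (-Q p) • v') = 0 := by
      simp [polar_add_right, polar_smul_right, hv', hw', up]
    have hsv : polar Q s ((-β) • v') = 0 := by
      rw [polar_smul_right, polar_comm, vs, smul_zero]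
    have hm : Q (s + (-β) • v') = 0 := by
      rw [QuadraticMap.map_add ⇑Q, hQs, QuadraticMap.map_smul, h'.qu, smul_zero, hsv, add_zero, add_zero]
    have hrm : polar Q (w' + p + (-Q p) • v') (s + (-β) • v') = 0 := by
      simp [polar_add_left, polar_add_right, polar_smul_left, polar_smul_right, ws, h'.fu,
        polar_comm (f := ⇑Q) p v', vp, vs, polar_self_zero h'.qu, hβ]
    have e : R (w' + (p + s) + (-Q (p + s)) • v') =
        R (w' + p + (-Q p) • v') * (R s * R ((-β) • v')) := by
      rw [← Radd hQs (by rw [QuadraticMap.map_smul, h'.qu, smul_zero]) us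
        (by rw [polar_smul_right, hv', smul_zero]) hsv,
        ← Radd hr hm hur (by rw [polar_add_right, us, polar_smul_right, hv', smul_zero, add_zero]) hrm,
        hQ']
      congr 1
      module
    show R (w' + (p + s) + (-Q (p + s)) • v') * (R w')⁻¹ * R (Q (p + s) • v') =
      R (w' + p + (-Q p) • v') * (R w')⁻¹ * R (Q p • v') * R s
    rw [e, hQ', ← Rline h'.qu hv' (Q p) β]
    calc R (w' + p + (-Q p) • v') * (R s * R ((-β) • v')) * (R w')⁻¹ * (R (Q p • v') * R (β • v'))
        = R (w' + p + (-Q p) • v') * (R w')⁻¹ * R (Q p • v') * R s *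
          (R ((-β) • v') * R (β • v')) := by ac_rfl
      _ = _ := by rw [Rline h'.qu hv', neg_add_cancel, zero_smul, Rzero, mul_one]
  have S_three : ∀ {v' w'}, Pr Q v' w' → polar Q u v' = 0 → polar Q u w' = 0 →
      (∀ p ∈ P, polar Q v' p = 0 ∧ polar Q w' p = 0) →
      ∀ p ∈ P, ∀ a ∈ P, ∀ b ∈ P, ∀ c ∈ P, Q a = 0 → Q b = 0 → Q c = 0 →
        S v' w' (p + (a + b + c)) = S v' w' p * (R a * R b * R c) ∧
        S v' w' (a + b + c) = R a * R b * R c := by
    intro v' w' h' hv' hw' hperp p hp' a ha b hb c hc qa qb qc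
    have l := law h' hv' hw' hperp
    have h0 : S v' w' 0 = 1 := by
      show R (w' + 0 + (-Q 0) • v') * (R w')⁻¹ * R (Q 0 • v') = 1
      simp [Rzero]
    have gen : ∀ q ∈ P, S v' w' (q + (a + b + c)) = S v' w' q * (R a * R b * R c) := fun q hq => by
      rw [show q + (a + b + c) = q + a + b + c by abel, l _ (add_mem (add_mem hq ha) hb) c hc qc,
        l _ (add_mem hq ha) b hb qb, l q hq a ha qa]
      simp only [mul_assoc]
    refine ⟨gen p hp', ?_⟩
    have := gen 0 (zero_mem P)
    rwa [zero_add, h0, one_mul] at this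
  have huv : polar Q u v = 0 := hv.2.1
  have huw : polar Q u w = 0 := hw.2.1
  have hperp : ∀ p ∈ P, polar Q v p = 0 ∧ polar Q w p = 0 := fun p hp' => ⟨hp'.2.1, hp'.2.2⟩
  let proj : (ι → F) → (ι → F) := fun a =>
    a - polar Q fu a • u - polar Q w a • v - polar Q v a • w
  have hproj : ∀ {a}, polar Q u a = 0 → proj a ∈ P := fun {a} ha =>
    ⟨⟨trivial, by simp [proj, polar_sub_right, polar_smul_right, ha, polar_self_zero hp.qu, huv, huw],
      by simp [proj, polar_sub_right, polar_smul_right, hp.fu, hv.2.2, hw.2.2]⟩,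
      by simp [proj, polar_sub_right, polar_smul_right, polar_comm (f := ⇑Q) v u, huv,
        polar_self_zero hvw.qu, hvw.uf],
      by simp [proj, polar_sub_right, polar_smul_right, polar_comm (f := ⇑Q) w u, huw,
        polar_self_zero hvw.qf, hvw.fu]⟩
  refine ⟨fun a => (R (polar Q w a • v) * R (polar Q v a • w) * S v w (proj a) : ↥L), ?_, ?_⟩
  · intro a b ha hb
    have hadd : proj (a + b) = proj a + proj b := by
      simp only [proj, polar_add_right]; module
    obtain ⟨x, hx, y, hy, z, hz, qx, qy, qz, e⟩ := exists_sing_sum hst0 hs0 ht0 (hproj hb)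
    obtain ⟨g1, g2⟩ := S_three hvw huv huw hperp (proj a) (hproj ha) x hx y hy z hz qx qy qz
    rw [← Subgroup.coe_mul]
    refine congrArg Subtype.val ?_
    show R (polar Q w (a + b) • v) * R (polar Q v (a + b) • w) * S v w (proj (a + b)) =
      R (polar Q w a • v) * R (polar Q v a • w) * S v w (proj a) *
        (R (polar Q w b • v) * R (polar Q v b • w) * S v w (proj b))
    rw [hadd, e, g1, g2, polar_add_right, polar_add_right, ← Rline hvw.qu huv, ← Rline hvw.qf huw]
    ac_rfl
  · intro s hs hus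
    show ((R (polar Q w s • v) * R (polar Q v s • w) * S v w (proj s) : ↥L) : E) = rho π u s
    rw [← hR hs hus]
    refine congrArg Subtype.val ?_
    set x := polar Q w s
    set y := polar Q v s
    set t := polar Q fu s
    set p := proj s
    have hp' : p ∈ P := hproj hus
    have es : s = t • u + (x • v + y • w + p) := by simp only [p, proj, t, x, y]; module
    have uz : polar Q u (x • v + y • w + p) = 0 := by
      simp [polar_add_right, polar_smul_right, huv, huw, hp'.1.2.1]
    have hQ0 : Q (x • v + y • w + p) = 0 := by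
      have h := hs
      rw [es, QuadraticMap.map_add ⇑Q, QuadraticMap.map_smul, hp.qu, smul_zero, zero_add,
        polar_smul_left, uz, smul_zero, add_zero] at h
      exact h
    have hxy : x * y + Q p = 0 := by
      simpa [QuadraticMap.map_add ⇑Q, QuadraticMap.map_smul, polar_smul_left, polar_smul_right,
        polar_add_left, hvw.qu, hvw.qf, hvw.uf, hp'.2.1, hp'.2.2, smul_eq_mul, mul_comm] using hQ0
    have hRs : R s = R (x • v + y • w + p) := by
      rw [es, Radd (by rw [QuadraticMap.map_smul, hp.qu, smul_zero]) hQ0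
        (by rw [polar_smul_right, polar_self_zero hp.qu, smul_zero]) uz
        (by rw [polar_smul_left, uz, smul_zero]),
        show R (t • u) = 1 from Subtype.ext (by
          rw [hR (by rw [QuadraticMap.map_smul, hp.qu, smul_zero])
            (by rw [polar_smul_right, polar_self_zero hp.qu, smul_zero]), H.rho_self hu]; rfl),
        one_mul]
    rw [hRs]
    rcases eq_or_ne y 0 with hy | hy
    · have hQp : Q p = 0 := by rw [hy, mul_zero, zero_add] at hxy; exact hxy
      have hsp : S v w p = R p := by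
        have hz := zero_mem P
        obtain ⟨-, g2⟩ := S_three hvw huv huw hperp 0 hz p hp' 0 hz 0 hz hQp
          (QuadraticMap.map_zero Q) (QuadraticMap.map_zero Q)
        simpa [Rzero] using g2
      rw [hsp, hy, zero_smul, add_zero, Rzero, mul_one, Radd (by rw [QuadraticMap.map_smul, hvw.qu, smul_zero])
        hQp (by rw [polar_smul_right, huv, smul_zero]) hp'.1.2.1
        (by rw [polar_smul_left, hp'.2.1, smul_zero])]
    · have hvw' := hvw.smul (inv_ne_zero hy)
      rw [inv_inv] at hvw'
      have hperp' : ∀ q ∈ P, polar Q (y⁻¹ • v) q = 0 ∧ polar Q (y • w) q = 0 := fun q hq =>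
        ⟨by rw [polar_smul_left, hq.2.1, smul_zero], by rw [polar_smul_left, hq.2.2, smul_zero]⟩
      obtain ⟨a, ha, b, hb, c, hc, qa, qb, qc, e⟩ := exists_sing_sum hst0 hs0 ht0 hp'
      have hS : S v w p = S (y⁻¹ • v) (y • w) p := by
        rw [e, (S_three hvw huv huw hperp 0 (zero_mem P) a ha b hb c hc qa qb qc).2,
          (S_three hvw' (by rw [polar_smul_right, huv, smul_zero])
            (by rw [polar_smul_right, huw, smul_zero]) hperp' 0 (zero_mem P) a ha b hb c hc qa qb qc).2]
      have hxv : (-Q p) • y⁻¹ • v = x • v := by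
        rw [smul_smul, ← eq_neg_of_add_eq_zero_left hxy, mul_inv_cancel_right₀ hy]
      have hxv' : Q p • y⁻¹ • v = (-x) • v := by
        rw [neg_smul, ← hxv, neg_smul, neg_neg]
      rw [hS]
      show R (x • v) * R (y • w) * (R (y • w + p + (-Q p) • y⁻¹ • v) * (R (y • w))⁻¹ *
        R (Q p • y⁻¹ • v)) = _
      rw [hxv, hxv', show y • w + p + x • v = x • v + y • w + p by abel]
      calc R (x • v) * R (y • w) * (R (x • v + y • w + p) * (R (y • w))⁻¹ * R ((-x) • v))
          = (R (x • v) * R ((-x) • v)) * (R (y • w) * (R (y • w))⁻¹) * R (x • v + y • w + p) := by ac_rfl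
        _ = _ := by rw [Rline hvw.qu huv, add_neg_cancel, zero_smul, Rzero, mul_inv_cancel, one_mul, one_mul]

theorem tau_ext {u : ι → F} (hu : Q u = 0) : IsExt π u (tau π u) := by
  have h := H.exists_ext hu
  have e : tau π u = h.choose := by funext a; rw [tau, dif_pos h]
  rw [e]
  exact h.choose_spec

theorem exists_perp_sum {u a : ι → F} (hu : Q u = 0) (ha : polar Q u a = 0) :
    ∃ x y z, Q x = 0 ∧ Q y = 0 ∧ Q z = 0 ∧ polar Q u x = 0 ∧ polar Q u y = 0 ∧ polar Q u z = 0 ∧
      a = x + y + z := by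
  obtain ⟨v, w, hv, hw, hvw⟩ : ∃ v w, polar Q u v = 0 ∧ polar Q u w = 0 ∧ Pr Q v w := by
    rcases eq_or_ne u 0 with rfl | hu0
    · obtain ⟨v, -, w, -, h⟩ := exists_pair_in (good_top H.nd) (by
        rw [finrank_top_fun]; have := H.card; omega)
      exact ⟨v, w, by simp, by simp, h⟩
    · obtain ⟨fu, -, hp⟩ := exists_partner_in (good_top H.nd) trivial hu hu0
      obtain ⟨v, hv, w, hw, h⟩ := exists_pair_in (good_split (good_top H.nd) hp trivial trivial) (by
        have := H.finrank_split_top hp; have := H.card; omega)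
      exact ⟨v, w, hv.2.1, hw.2.1, h⟩
  obtain ⟨x, hx, y, hy, z, hz, qx, qy, qz, e⟩ :=
    exists_sing_sum (V := split Q ⊤ u u) hvw ⟨trivial, hv, hv⟩ ⟨trivial, hw, hw⟩
      (⟨trivial, ha, ha⟩ : a ∈ split Q ⊤ u u)
  exact ⟨x, y, z, qx, qy, qz, hx.2.1, hy.2.1, hz.2.1, e⟩

theorem ext_unique {u : ι → F} (hu : Q u = 0) {f g : (ι → F) → E} (hf : IsExt π u f)
    (hg : IsExt π u g) {a : ι → F} (ha : polar Q u a = 0) : f a = g a := by
  obtain ⟨x, y, z, qx, qy, qz, ux, uy, uz, rfl⟩ := H.exists_perp_sum hu ha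
  have uxy : polar Q u (x + y) = 0 := by rw [polar_add_right, ux, uy, add_zero]
  rw [hf.add _ _ uxy uz, hg.add _ _ uxy uz, hf.add _ _ ux uy, hg.add _ _ ux uy, hf.sing x qx ux,
    hf.sing y qy uy, hf.sing z qz uz, hg.sing x qx ux, hg.sing y qy uy, hg.sing z qz uz]

theorem map_tau {u a : ι → F} (hu : Q u = 0) (ha : polar Q u a = 0) :
    π (tau π u a) = eich Q u a := by
  obtain ⟨x, y, z, qx, qy, qz, ux, uy, uz, rfl⟩ := H.exists_perp_sum hu ha
  have uxy : polar Q u (x + y) = 0 := by rw [polar_add_right, ux, uy, add_zero]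
  have hf := H.tau_ext hu
  rw [hf.add _ _ uxy uz, hf.add _ _ ux uy, hf.sing x qx ux, hf.sing y qy uy, hf.sing z qz uz,
    map_mul, map_mul, H.map_rho hu qx ux, H.map_rho hu qy uy, H.map_rho hu qz uz, eich_add hu ux uy,
    eich_add hu uxy uz]

theorem tau_add {u a b : ι → F} (hu : Q u = 0) (ha : polar Q u a = 0) (hb : polar Q u b = 0) :
    tau π u a * tau π u b = tau π u (a + b) :=
  ((H.tau_ext hu).add a b ha hb).symm

theorem tau_zero {u : ι → F} (hu : Q u = 0) : tau π u 0 = 1 := by
  rw [(H.tau_ext hu).sing 0 (QuadraticMap.map_zero Q) (QuadraticMap.polar_zero_right Q u),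
    H.rho_zero_right hu]

theorem tau_neg {u a : ι → F} (hu : Q u = 0) (ha : polar Q u a = 0) :
    tau π u (-a) = (tau π u a)⁻¹ := by
  refine eq_inv_of_mul_eq_one_left ?_
  rw [H.tau_add hu (by rw [polar_neg_right, ha, neg_zero]) ha, neg_add_cancel, H.tau_zero hu]

theorem tau_conj (g : E) {u a : ι → F} (hu : Q u = 0) (ha : polar Q u a = 0) :
    g * tau π u a * g⁻¹ = tau π (app (π g) u) (app (π g) a) := by
  have hgu : Q (app (π g) u) = 0 := by rw [Q_app, hu]
  have hback : ∀ {b}, polar Q (app (π g) u) b = 0 → polar Q u (app (π g)⁻¹ b) = 0 := fun {b} hb => by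
    rw [← polar_app (π g), app_app_inv, hb]
  have hext : IsExt π (app (π g) u) (fun b => g * tau π u (app (π g)⁻¹ b) * g⁻¹) := by
    refine ⟨fun b b' hb hb' => ?_, fun s hs hus => ?_⟩
    · show g * tau π u (app (π g)⁻¹ (b + b')) * g⁻¹ = _
      rw [map_add, ← H.tau_add hu (hback hb) (hback hb')]; group
    · show g * tau π u (app (π g)⁻¹ s) * g⁻¹ = _
      rw [(H.tau_ext hu).sing _ (by rw [Q_app, hs]) (hback hus),
        H.conj_rho g hu (by rw [Q_app, hs]) (hback hus), app_app_inv]
  have := H.ext_unique hgu hext (H.tau_ext hgu) (a := app (π g) a) (by rw [polar_app, ha])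
  simpa [app_inv_app] using this

theorem tau_smul {u a : ι → F} (hu : Q u = 0) (ha : polar Q u a = 0) (t : F) :
    tau π (t • u) a = tau π u (t • a) := by
  have htu : Q (t • u) = 0 := by rw [QuadraticMap.map_smul, hu, smul_zero]
  rcases eq_or_ne t 0 with rfl | ht
  · simp only [zero_smul]
    rw [H.tau_zero hu]
    exact H.ext_unique (QuadraticMap.map_zero Q) (H.tau_ext (QuadraticMap.map_zero Q))
      (g := fun _ => 1) ⟨fun _ _ _ _ => (one_mul 1).symm, fun s hs _ => (H.rho_zero_left hs).symm⟩
      (by simp)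
  have hback : ∀ {b}, polar Q (t • u) b = 0 → polar Q u b = 0 := fun {b} hb => by
    rw [polar_smul_left, smul_eq_zero] at hb; exact hb.resolve_left ht
  refine H.ext_unique htu (H.tau_ext htu) (g := fun b => tau π u (t • b)) ⟨fun b b' hb hb' => ?_,
    fun s hs hus => ?_⟩ (by rw [polar_smul_left, ha, smul_zero])
  · show tau π u (t • (b + b')) = _
    rw [smul_add, ← H.tau_add hu (by rw [polar_smul_right, hback hb, smul_zero])
      (by rw [polar_smul_right, hback hb', smul_zero])]
  · show tau π u (t • s) = _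
    rw [(H.tau_ext hu).sing _ (by rw [QuadraticMap.map_smul, hs, smul_zero])
      (by rw [polar_smul_right, hback hus, smul_zero]), H.rho_smul hu hs (hback hus) ht]

theorem tau_swap {u w : ι → F} (hu : Q u = 0) (hw : Q w = 0) (huw : polar Q u w = 0) :
    tau π u w = tau π w (-u) := by
  have hwu : polar Q w u = 0 := by rw [polar_comm, huw]
  rw [H.tau_neg hw hwu, (H.tau_ext hu).sing w hw huw, (H.tau_ext hw).sing u hu hwu,
    H.rho_inv hu hw huw, inv_inv]

theorem tau_add_smul {u a : ι → F} (hu : Q u = 0) (ha : polar Q u a = 0) (t : F) :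
    tau π u (a + t • u) = tau π u a := by
  have h : polar Q u (t • u) = 0 := by rw [polar_smul_right, polar_self_zero hu, smul_zero]
  rw [← H.tau_add hu ha h, (H.tau_ext hu).sing _ (by rw [QuadraticMap.map_smul, hu, smul_zero]) h,
    H.rho_self hu, mul_one]

theorem tau_zero_left {a : ι → F} : tau π 0 a = 1 :=
  H.ext_unique (QuadraticMap.map_zero Q) (H.tau_ext (QuadraticMap.map_zero Q))
    (g := fun _ => 1) ⟨fun _ _ _ _ => (one_mul 1).symm, fun s hs _ => (H.rho_zero_left hs).symm⟩
    (by simp)

end Ctx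

end CfsgLib.MinusMult
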