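import Cfsg.Agent.Lib.MinusMult.Base
import Cfsg.Agent.Lib.ChevMult.SplitMult

/-!
Perfect central extensions of `Ω⁻` have kernel of order at most `gcd(2, q - 1)`; hence a bound for those
of `PΩ⁻`, and the criterion for a given cover to be universal.
-/

set_option autoImplicit false
set_option linter.unusedSectionVars false

namespace CfsgLib.MinusMult

open QuadraticMap CfsgLib.Orth CfsgLib.POmega
open scoped commutatorElement

universe u v

/-- The derived group of a central extension of a perfect group is perfect and maps onto it. -/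
theorem perfect_derived {X : Type u} {G : Type v} [Group X] [Group G] (f : X →* G)
    (hf : Function.Surjective f) (hc : f.ker ≤ Subgroup.center X) (hG : commutator G = ⊤) :
    commutator ↥(commutator X) = ⊤ ∧ Function.Surjective (f.comp (commutator X).subtype) := by
  have hs : Function.Surjective (f.comp (commutator X).subtype) := fun g => by
    have hg : g ∈ (commutator X).map f := by
      rw [CfsgLib.SchurCover.map_commutator_eq f hf, hG]; exact Subgroup.mem_top g
    obtain ⟨x, hx, rfl⟩ := hg
    exact ⟨⟨x, hx⟩, rfl⟩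
  refine ⟨?_, hs⟩
  apply Subgroup.map_injective (commutator X).subtype_injective
  rw [Subgroup.map_subtype_commutator, ← MonoidHom.range_eq_map, Subgroup.range_subtype]
  refine le_antisymm (Subgroup.commutator_le_self _) ?_
  rw [_root_.commutator_def X, Subgroup.commutator_le]
  intro a _ b _
  obtain ⟨⟨x, hx⟩, hxa⟩ := hs (f a)
  obtain ⟨⟨y, hy⟩, hyb⟩ := hs (f b)
  rw [CfsgLib.Schur.commutator_congr hc hxa.symm hyb.symm, ← _root_.commutator_def]
  exact Subgroup.commutator_mem_commutator hx hy

variable {F : Type u} [Field F] [Fintype F] {m : ℕ} {a b : F}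
  (hab : ∀ z₁ z₂ : F, z₁ ^ 2 + a * z₁ * z₂ + b * z₂ ^ 2 = 0 → z₁ = 0 ∧ z₂ = 0) (hm : 3 ≤ m)
include hab hm

/-- The kernel of a perfect central extension of `Ω⁻`. -/
theorem card_ker_le {E : Type u} [Group E] [Finite E] (π : E →* O (minusQ m F a b))
    (hc : π.ker ≤ Subgroup.center E) (hperf : commutator E = ⊤)
    (hr : π.range = commutator (O (minusQ m F a b))) :
    Nat.card π.ker ≤ Nat.gcd 2 (Fintype.card F - 1) := by
  obtain ⟨j, rfl⟩ : ∃ j, m = j + 1 := ⟨m - 1, by omega⟩
  have H := ctx_std hab hm hc hr.ge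
  have h := (ker_mem_last hab hm H hperf hr.le).2
  have h' : π.ker ≤ gen π (tail F (j + 1) j) := by simpa using h
  have hcard := card_ker_last hab H
  rwa [inf_eq_left.2 h'] at hcard

/-- The kernel of a perfect central extension of `PΩ⁻`. -/
theorem card_ker_quot_le {E : Type u} [Group E] [Finite E]
    (σ : E →* commutator (O (minusQ m F a b)) ⧸ Subgroup.center (commutator (O (minusQ m F a b))))
    (hσ : Function.Surjective σ) (hc : σ.ker ≤ Subgroup.center E) (hperf : commutator E = ⊤) :
    Nat.card σ.ker ≤ Nat.gcd 2 (Fintype.card F - 1) *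
      Nat.card (Subgroup.center (commutator (O (minusQ m F a b)))) := by
  classical
  let G := commutator (O (minusQ m F a b))
  have : Finite ↥G := inferInstance
  have hGperf : commutator ↥G = ⊤ :=
    CfsgLib.POmega.omega_perfect (minusQ_nondegenerate_any hab)
      (by simp only [Fintype.card_sum, Fintype.card_fin]; omega)
  set mk := QuotientGroup.mk' (Subgroup.center ↥G)
  have hmk : Function.Surjective mk := QuotientGroup.mk'_surjective _
  set X := CfsgLib.SchurCover.fibre σ mk
  set fst : ↥X →* E := CfsgLib.SchurCover.fibreFst σ mk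
  set snd : ↥X →* ↥G := CfsgLib.SchurCover.fibreSnd σ mk
  have hfst : Function.Surjective fst := CfsgLib.SchurCover.fibreFst_surjective σ hmk
  have hsnd : Function.Surjective snd := CfsgLib.SchurCover.fibreSnd_surjective hσ mk
  have hsc : snd.ker ≤ Subgroup.center ↥X := by
    intro x hx
    have h1 : snd x = 1 := hx
    have h2 : fst x ∈ σ.ker := by
      rw [MonoidHom.mem_ker, CfsgLib.SchurCover.fibre_rel]
      show mk (snd x) = 1
      rw [h1, map_one]
    refine Subgroup.mem_center_iff.2 fun y => Subtype.ext (Prod.ext ?_ ?_)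
    · exact Subgroup.mem_center_iff.1 (hc h2) (fst y)
    · show snd y * snd x = snd x * snd y
      rw [h1, mul_one, one_mul]
  obtain ⟨hD, hsD⟩ := perfect_derived snd hsnd hsc hGperf
  set D := commutator ↥X
  have hfD : Function.Surjective (fst.comp D.subtype) := fun e => by
    have he : e ∈ D.map fst := by
      rw [CfsgLib.SchurCover.map_commutator_eq fst hfst, hperf]; exact Subgroup.mem_top e
    obtain ⟨x, hx, rfl⟩ := he
    exact ⟨⟨x, hx⟩, rfl⟩
  set π : ↥D →* O (minusQ m F a b) := G.subtype.comp (snd.comp D.subtype)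
  have hπker : π.ker = (snd.comp D.subtype).ker := by
    ext x; simp only [π, MonoidHom.mem_ker, MonoidHom.comp_apply, Subgroup.coe_subtype, OneMemClass.coe_eq_one]
  have hπr : π.range = G := by
    rw [MonoidHom.range_comp, MonoidHom.range_eq_top.2 hsD, ← MonoidHom.range_eq_map,
      Subgroup.range_subtype]
  have hπc : π.ker ≤ Subgroup.center ↥D := fun x hx => by
    rw [hπker] at hx
    exact Subgroup.mem_center_iff.2 fun y =>
      Subtype.ext (Subgroup.mem_center_iff.1 (hsc (show (x : ↥X) ∈ snd.ker from hx)) y)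
  have hk := card_ker_le hab hm π hπc hD hπr
  rw [hπker] at hk
  set α := σ.comp (fst.comp D.subtype)
  have hα : Function.Surjective α := hσ.comp hfD
  have e1 : Nat.card α.ker * Nat.card (↥G ⧸ Subgroup.center ↥G) = Nat.card ↥D := by
    rw [← α.ker.card_mul_index, Subgroup.index_ker, MonoidHom.range_eq_top.2 hα, Subgroup.card_top]
  have e2 : Nat.card (snd.comp D.subtype).ker * Nat.card ↥G = Nat.card ↥D := by
    rw [← (snd.comp D.subtype).ker.card_mul_index, Subgroup.index_ker, MonoidHom.range_eq_top.2 hsD,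
      Subgroup.card_top]
  have e3 := Subgroup.card_eq_card_quotient_mul_card_subgroup (Subgroup.center ↥G)
  have e4 : Nat.card α.ker =
      Nat.card (snd.comp D.subtype).ker * Nat.card (Subgroup.center ↥G) := by
    refine Nat.eq_of_mul_eq_mul_right (Nat.card_pos (α := ↥G ⧸ Subgroup.center ↥G)) ?_
    rw [e1, ← e2, e3]
    ring
  have hle : Nat.card σ.ker ≤ Nat.card α.ker := by
    refine Nat.card_le_card_of_surjective
      (fun x : α.ker => (⟨fst (x.1 : ↥X), x.2⟩ : σ.ker)) fun y => ?_
    obtain ⟨x, hx⟩ := hfD y.1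
    exact ⟨⟨x, show σ (fst x) = 1 by rw [show fst (x : ↥X) = y.1 from hx]; exact y.2⟩, Subtype.ext hx⟩
  calc Nat.card σ.ker ≤ Nat.card α.ker := hle
    _ = _ := e4
    _ ≤ _ := Nat.mul_le_mul_right _ hk

/-- A perfect cover with kernel as large as the bound is universal. -/
theorem hasSchurMultiplier_of_cover {Γ : Type u} [Group Γ] [Finite Γ]
    (q : Γ →* commutator (O (minusQ m F a b)) ⧸ Subgroup.center (commutator (O (minusQ m F a b))))
    (hq : Function.Surjective q) (hc : q.ker ≤ Subgroup.center Γ) (hperf : commutator Γ = ⊤)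
    (hcard : Nat.gcd 2 (Fintype.card F - 1) *
      Nat.card (Subgroup.center (commutator (O (minusQ m F a b)))) ≤ Nat.card q.ker)
    {A : Type} [CommGroup A] (e : q.ker ≃* A) :
    Cfsg.HasSchurMultiplier
      (commutator (O (minusQ m F a b)) ⧸ Subgroup.center (commutator (O (minusQ m F a b)))) A := by
  refine CfsgLib.ChevMult.hasSchurMultiplier_of_split q hq hc hperf ?_ e
  intro E _ _ P
  obtain ⟨hD, hsD⟩ := perfect_derived P.p P.surj P.central hperf
  set D := commutator E
  set p' := P.p.comp D.subtype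
  have hp'c : p'.ker ≤ Subgroup.center ↥D := fun x hx => Subgroup.mem_center_iff.2 fun y =>
    Subtype.ext (Subgroup.mem_center_iff.1 (P.central (show (x : E) ∈ P.p.ker from hx)) y)
  set α := q.comp p'
  have hαc : α.ker ≤ Subgroup.center ↥D := fun x hx =>
    CfsgLib.SchurCover.mem_center_of_map_mem_center (Group.isPerfect_def.2 hD) p' hp'c fun g =>
      (Subgroup.mem_center_iff.1 (hc hx) (p' g)).symm
  have hk := (card_ker_quot_le hab hm α (hq.comp hsD) hαc hD).trans hcard
  let f : α.ker → q.ker := fun x => ⟨p' x.1, x.2⟩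
  have hfs : Function.Surjective f := fun y => by
    obtain ⟨x, hx⟩ := hsD y.1
    exact ⟨⟨x, show q (p' x) = 1 by rw [show p' x = y.1 from hx]; exact y.2⟩, Subtype.ext hx⟩
  have hfi := (Nat.bijective_iff_surjective_and_card f).2
    ⟨hfs, le_antisymm hk (Nat.card_le_card_of_surjective f hfs)⟩
  refine CfsgLib.SchurCover.exists_section_of_perfect (Group.isPerfect_def.2 hperf) P.p P.surj ?_
  refine (Subgroup.eq_bot_iff_forall _).2 fun x hx => ?_
  have h1 : p' ⟨x, hx.2⟩ = 1 := hx.1
  have h2 : (⟨⟨x, hx.2⟩, show q (p' ⟨x, hx.2⟩) = 1 by rw [h1, map_one]⟩ : α.ker) = 1 :=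
    hfi.1 (Subtype.ext (by show p' ⟨x, hx.2⟩ = p' 1; rw [h1, map_one]))
  exact congrArg (fun z : α.ker => ((z : ↥D) : E)) h2

end CfsgLib.MinusMult
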